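import Groth.Agent.FEt83.UHLift
import Mathlib.AlgebraicGeometry.Gluing

/-!
# Gluing finite étale covers along two opens
-/

universe u

open CategoryTheory Limits AlgebraicGeometry

namespace Groth.Agent.FEt83

theorem span_map_isOpenImmersion {T A B : Scheme.{u}} (a : T ⟶ A) (b : T ⟶ B) [IsOpenImmersion a]
    [IsOpenImmersion b] {i j : WalkingSpan} (f : i ⟶ j) : IsOpenImmersion ((span a b).map f) := by
  rcases f with _ | ⟨j⟩
  · rw [WidePushoutShape.hom_id, CategoryTheory.Functor.map_id]; infer_instance
  · cases j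
    · show IsOpenImmersion a; infer_instance
    · show IsOpenImmersion b; infer_instance

theorem pushout_exists {T A B : Scheme.{u}} (a : T ⟶ A) (b : T ⟶ B) [IsOpenImmersion a]
    [IsOpenImmersion b] : ∃ (P : Scheme.{u}) (i : A ⟶ P) (j : B ⟶ P), IsPushout a b i j ∧
      IsOpenImmersion i ∧ IsOpenImmersion j ∧ Set.range i ∪ Set.range j = Set.univ := by
  have : ∀ {i j : WalkingSpan} (f : i ⟶ j), IsOpenImmersion ((span a b).map f) :=
    fun f => span_map_isOpenImmersion a b f
  have : HasPushout a b := inferInstanceAs (HasColimit (span a b))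
  refine ⟨pushout a b, pushout.inl a b, pushout.inr a b, IsPushout.of_hasPushout a b, ?_, ?_, ?_⟩
  · exact inferInstanceAs (IsOpenImmersion (colimit.ι (span a b) WalkingSpan.left))
  · exact inferInstanceAs (IsOpenImmersion (colimit.ι (span a b) WalkingSpan.right))
  · refine Set.eq_univ_of_forall fun x => ?_
    obtain ⟨i, xi, rfl⟩ := Scheme.IsLocallyDirected.ι_jointly_surjective (span a b) x
    rcases i with _ | (_ | _)
    · exact .inl ⟨a xi, congr($(colimit.w (span a b) WalkingSpan.Hom.fst).base xi)⟩
    · exact .inl ⟨xi, rfl⟩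
    · exact .inr ⟨xi, rfl⟩

/-- A cover of a scheme by two open immersions as an open cover. -/
noncomputable def twoCover {X V W : Scheme.{u}} (v : V ⟶ X) (w : W ⟶ X) [IsOpenImmersion v]
    [IsOpenImmersion w] (hcov : Set.range v ∪ Set.range w = Set.univ) : X.OpenCover :=
  Scheme.Cover.mkOfCovers (ULift.{0} Bool)
    (fun b => match b.down with | true => V | false => W)
    (fun b => match b with | ⟨true⟩ => v | ⟨false⟩ => w)
    (fun x => by
      rcases (hcov ▸ Set.mem_univ x : x ∈ Set.range v ∪ Set.range w) with ⟨y, hy⟩ | ⟨y, hy⟩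
      · exact ⟨⟨true⟩, y, hy⟩
      · exact ⟨⟨false⟩, y, hy⟩)
    (fun b => match b with | ⟨true⟩ => inferInstance | ⟨false⟩ => inferInstance)

set_option backward.isDefEq.respectTransparency.types false in
/-- Covers of two opens isomorphic on the intersection glue. -/
theorem exists_glue_two {X V W : Scheme.{u}} (v : V ⟶ X) (w : W ⟶ X) [IsOpenImmersion v]
    [IsOpenImmersion w] (hcov : Set.range v ∪ Set.range w = Set.univ)
    (A : FEt.Cat V) (B : FEt.Cat W)
    (e : (FEt.restrict (pullback.fst v w)).obj A ≅ (FEt.restrict (pullback.snd v w)).obj B) :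
    ∃ Z : FEt.Cat X, Nonempty ((FEt.restrict v).obj Z ≅ A) := by
  let a : pullback A.hom (pullback.fst v w) ⟶ A.left := pullback.fst _ _
  let b : pullback A.hom (pullback.fst v w) ⟶ B.left := e.hom.left ≫ pullback.fst B.hom _
  have : IsIso e.hom.left :=
    ((MorphismProperty.Over.forget _ _ _ ⋙ CategoryTheory.Over.forget _).mapIso e).isIso_hom
  have : IsOpenImmersion a := inferInstanceAs (IsOpenImmersion (pullback.fst _ _))
  have : IsOpenImmersion b :=
    MorphismProperty.comp_mem (W := @IsOpenImmersion) e.hom.left (pullback.fst B.hom _) (@IsOpenImmersion.of_isIso _ _ _ ‹_›)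
      (MorphismProperty.pullback_fst (P := @IsOpenImmersion) B.hom (pullback.snd v w) inferInstance)
  obtain ⟨P, i, j, hP, hi, hj, hu⟩ := pushout_exists a b
  have hw : a ≫ A.hom ≫ v = b ≫ B.hom ≫ w := by
    show pullback.fst A.hom (pullback.fst v w) ≫ A.hom ≫ v =
      (e.hom.left ≫ pullback.fst B.hom (pullback.snd v w)) ≫ B.hom ≫ w
    have he : e.hom.left ≫ pullback.snd B.hom (pullback.snd v w) =
        pullback.snd A.hom (pullback.fst v w) := w_left e.hom
    calc pullback.fst A.hom (pullback.fst v w) ≫ A.hom ≫ v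
        = pullback.snd A.hom (pullback.fst v w) ≫ pullback.fst v w ≫ v :=
          pullback.condition_assoc v
      _ = pullback.snd A.hom (pullback.fst v w) ≫ pullback.snd v w ≫ w :=
          congrArg (pullback.snd A.hom (pullback.fst v w) ≫ ·) pullback.condition
      _ = (e.hom.left ≫ pullback.snd B.hom (pullback.snd v w)) ≫ pullback.snd v w ≫ w :=
          congrArg (· ≫ pullback.snd v w ≫ w) he.symm
      _ = _ := (Category.assoc _ _ _).trans ((congrArg (e.hom.left ≫ ·)
          (pullback.condition_assoc w).symm).trans (Category.assoc _ _ _).symm)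
  let p : P ⟶ X := hP.desc (A.hom ≫ v) (B.hom ≫ w) hw
  have hip : i ≫ p = A.hom ≫ v := hP.inl_desc _ _ _
  have hjp : j ≫ p = B.hom ≫ w := hP.inr_desc _ _ _
  have h1 : IsPullback A.hom i v p := by
    refine IsOpenImmersion.isPullback A.hom i v p hip (TopologicalSpace.Opens.ext ?_)
    refine Set.Subset.antisymm ?_ ?_
    · rintro x ⟨y, hy⟩
      rcases (hu ▸ Set.mem_univ x : x ∈ Set.range i ∪ Set.range j) with h | ⟨z, rfl⟩
      · exact h
      · have hy' : v y = w (B.hom z) := hy.trans congr($(hjp).base z)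
        obtain ⟨q, -, hq⟩ := Scheme.Pullback.exists_preimage_pullback y (B.hom z) hy'
        obtain ⟨t, ht, -⟩ := Scheme.Pullback.exists_preimage_pullback (f := B.hom)
          (g := pullback.snd v w) z q hq.symm
        refine ⟨a ((inv e.hom.left) t), ?_⟩
        refine congr($(hP.w).base ((inv e.hom.left) t)).trans (congrArg j ?_)
        refine Eq.trans ?_ ht
        exact congrArg (pullback.fst B.hom _) congr($(IsIso.inv_hom_id e.hom.left).base t)
    · rintro _ ⟨y, rfl⟩
      exact ⟨A.hom y, congr($(hip).base y).symm⟩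
  have h2 : IsPullback B.hom j w p := by
    refine IsOpenImmersion.isPullback B.hom j w p hjp (TopologicalSpace.Opens.ext ?_)
    refine Set.Subset.antisymm ?_ ?_
    · rintro x ⟨y, hy⟩
      rcases (hu ▸ Set.mem_univ x : x ∈ Set.range i ∪ Set.range j) with ⟨z, rfl⟩ | h
      · have hy' : v (A.hom z) = w y := (hy.trans congr($(hip).base z)).symm
        obtain ⟨q, hq, -⟩ := Scheme.Pullback.exists_preimage_pullback (A.hom z) y hy'
        obtain ⟨t, ht, -⟩ := Scheme.Pullback.exists_preimage_pullback (f := A.hom)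
          (g := pullback.fst v w) z q hq.symm
        exact ⟨b t, congr($(hP.w).base t).symm.trans (congrArg i ht)⟩
      · exact h
    · rintro _ ⟨y, rfl⟩
      exact ⟨B.hom y, congr($(hjp).base y).symm⟩
  have hA : IsFinite A.hom ∧ Etale A.hom := A.prop
  have hB : IsFinite B.hom ∧ Etale B.hom := B.prop
  have hp : FEt.prop p := by
    have key : ∀ (Q : MorphismProperty Scheme.{u}) [IsZariskiLocalAtTarget Q],
        Q A.hom → Q B.hom → Q p := by
      intro Q _ qA qB
      refine IsZariskiLocalAtTarget.of_openCover (P := Q) (twoCover v w hcov) ?_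
      rintro ⟨_ | _⟩
      · show Q (pullback.snd p w)
        rw [← h2.flip.isoPullback_inv_snd]
        exact (Q.cancel_left_of_respectsIso _ _).mpr qB
      · show Q (pullback.snd p v)
        rw [← h1.flip.isoPullback_inv_snd]
        exact (Q.cancel_left_of_respectsIso _ _).mpr qA
    exact ⟨key @IsFinite hA.1 hB.1, key @Etale hA.2 hB.2⟩
  exact ⟨MorphismProperty.Over.mk ⊤ p hp,
    ⟨MorphismProperty.Over.isoMk h1.flip.isoPullback.symm h1.flip.isoPullback_inv_snd⟩⟩

end Groth.Agent.FEt83
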