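import Groth.Agent.FEt83.LimIso
import Groth.Agent.FEt83.GlueTwo
import Groth.Agent.LimTop61.StalkLimit
import Mathlib.AlgebraicGeometry.Noetherian

/-!
# Extending finite étale covers across points satisfying purity
-/

universe u

open CategoryTheory Limits AlgebraicGeometry TopologicalSpace
open Groth.Agent.LimTop61 (nhdSpec nhdCone nhdι isLimitNhdCone nhdCone_π_ι)

namespace Groth.Agent.FEt83

/-- Restrictions along equal morphisms. -/
noncomputable def restrictEqIso {X Y : Scheme.{u}} {f g : X ⟶ Y} (h : f = g) (Z : FEt.Cat Y) :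
    (FEt.restrict f).obj Z ≅ (FEt.restrict g).obj Z :=
  eqToIso (by rw [h])

/-- Restriction along an identity, on objects. -/
noncomputable def restrictIdIso {X : Scheme.{u}} (A : FEt.Cat X) :
    (FEt.restrict (𝟙 X)).obj A ≅ A :=
  MorphismProperty.Over.isoMk (@asIso _ _ _ _ (pullback.fst A.hom (𝟙 X))
    (MorphismProperty.pullback_fst (P := MorphismProperty.isomorphisms Scheme.{u}) _ _
      (inferInstanceAs (IsIso (𝟙 X)))))
    (pullback.condition.trans (Category.comp_id _))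

/-- Restriction along a commutative square, on objects. -/
noncomputable def restrictSqIso {X Y Y' Z : Scheme.{u}} (f : X ⟶ Y) (g : Y ⟶ Z) (f' : X ⟶ Y')
    (g' : Y' ⟶ Z) (h : f ≫ g = f' ≫ g') (A : FEt.Cat Z) :
    (FEt.restrict f).obj ((FEt.restrict g).obj A) ≅ (FEt.restrict f').obj ((FEt.restrict g').obj A) :=
  ((restrictCompIso f g).app A).symm ≪≫ restrictEqIso h A ≪≫ (restrictCompIso f' g').app A

/-- The maximal points of a nonempty closed set. -/
theorem exists_generic {X : Scheme.{u}} (C : Set X) (hC : IsClosed C) (hne : C.Nonempty) :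
    ∃ x ∈ C, ∀ y ∈ C, y ⤳ x → y = x := by
  obtain ⟨x₀, hx₀⟩ := hne
  let S : Set (Set X) := {t | IsPreirreducible t ∧ t ⊆ C}
  obtain ⟨m, hm₀, ⟨hm, hmC⟩, hmax⟩ : ∃ m, {x₀} ⊆ m ∧ m ∈ S ∧ ∀ a ∈ S, m ⊆ a → a = m := by
    obtain ⟨m, hsub, hm⟩ := zorn_subset_nonempty S (fun c hcS hc _ =>
      ⟨⋃₀ c, ⟨fun u v hu hv ⟨y, hy, hyu⟩ ⟨z, hz, hzv⟩ => by
        obtain ⟨p, hpc, hyp⟩ := Set.mem_sUnion.1 hy
        obtain ⟨q, hqc, hzq⟩ := Set.mem_sUnion.1 hz
        rcases hc.total hpc hqc with hpq | hqp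
        · obtain ⟨x, hxq, hxuv⟩ := (hcS hqc).1 u v hu hv ⟨y, hpq hyp, hyu⟩ ⟨z, hzq, hzv⟩
          exact ⟨x, Set.mem_sUnion.2 ⟨q, hqc, hxq⟩, hxuv⟩
        · obtain ⟨x, hxp, hxuv⟩ := (hcS hpc).1 u v hu hv ⟨y, hyp, hyu⟩ ⟨z, hqp hzq, hzv⟩
          exact ⟨x, Set.mem_sUnion.2 ⟨p, hpc, hxp⟩, hxuv⟩,
        Set.sUnion_subset fun t ht => (hcS ht).2⟩, fun _ => Set.subset_sUnion_of_mem⟩)
      {x₀} ⟨isPreirreducible_singleton, Set.singleton_subset_iff.mpr hx₀⟩
    exact ⟨m, hsub, hm.prop, fun a ha hma => (hm.eq_of_subset ha hma).symm⟩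
  have hcl : closure m = m :=
    hmax _ ⟨hm.closure, hC.closure_subset_iff.mpr hmC⟩ subset_closure
  have hirr : IsIrreducible m := ⟨⟨x₀, hm₀ rfl⟩, hm⟩
  refine ⟨hirr.genericPoint, hmC (hcl.le (hirr.isGenericPoint_genericPoint_closure).mem),
    fun y hy hyx => ?_⟩
  have hg : closure {hirr.genericPoint} = m := hirr.isGenericPoint_genericPoint_closure.def.trans hcl
  have : closure {y} = m := hmax _ ⟨isPreirreducible_singleton.closure,
      hC.closure_subset_iff.mpr (Set.singleton_subset_iff.mpr hy)⟩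
    (hg ▸ specializes_iff_closure_subset.mp hyx)
  exact (inseparable_iff_closure_eq.mpr (this.trans hg.symm)).eq

theorem preimage_eq_punctured {X : Scheme.{u}} (O : X.Opens) (x : X) (hx : x ∉ O)
    (hgen : ∀ y, y ∉ O → y ⤳ x → y = x) :
    (X.fromSpecStalk x) ⁻¹ᵁ O = FEt.puncturedSpec (X.presheaf.stalk x) := by
  refine Opens.ext (Set.ext fun z => ?_)
  have hs : X.fromSpecStalk x z ⤳ x :=
    (Scheme.range_fromSpecStalk (X := X) (x := x)).le ⟨z, rfl⟩
  refine ⟨fun hz hz' => hx ?_, fun hz => by_contra fun hn => hz ?_⟩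
  · have : X.fromSpecStalk x z = x :=
      (congrArg (X.fromSpecStalk x) hz').trans Scheme.fromSpecStalk_closedPoint
    exact this ▸ hz
  · exact (X.fromSpecStalk x).isEmbedding.injective
      ((hgen _ hn hs).trans Scheme.fromSpecStalk_closedPoint.symm)

set_option backward.isDefEq.respectTransparency.types false in
/-- One step, for a cover which extends to the local scheme at the point. -/
theorem exists_extend_step_of_local {X : Scheme.{u}} [IsLocallyNoetherian X] (O : X.Opens) (x : X)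
    (Z : FEt.Cat (O : Scheme.{u}))
    (h : ∃ Y : FEt.Cat (Spec (X.presheaf.stalk x)),
      Nonempty ((FEt.restrict ((X.fromSpecStalk x) ⁻¹ᵁ O).ι).obj Y ≅
        (FEt.restrict (X.fromSpecStalk x ∣_ O)).obj Z)) :
    ∃ (O' : X.Opens) (hle : O ≤ O') (Z' : FEt.Cat (O' : Scheme.{u})),
      x ∈ O' ∧ Nonempty ((FEt.restrict (X.homOfLE hle)).obj Z' ≅ Z) := by
  let D := nhdSpec X x
  let c := nhdCone X x
  let hc : IsLimit c := isLimitNhdCone X x
  let P0 : c.pt.Opens := (X.fromSpecStalk x) ⁻¹ᵁ O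
  let r0 : (P0 : Scheme.{u}) ⟶ O := X.fromSpecStalk x ∣_ O
  obtain ⟨Y, ⟨eY⟩⟩ := h
  have hQ : ∀ (Q : c.pt.Opens) (_ : Q = P0) (r : (Q : Scheme.{u}) ⟶ O),
      r ≫ O.ι = Q.ι ≫ X.fromSpecStalk x →
        Nonempty ((FEt.restrict Q.ι).obj Y ≅ (FEt.restrict r).obj Z) := by
    rintro Q rfl r hr
    have : r = r0 := (cancel_mono O.ι).mp (hr.trans (morphismRestrict_ι _ _).symm)
    exact ⟨eY ≪≫ (restrictEqIso this Z).symm⟩
  have hoi : ∀ j, IsOpenImmersion ((nhdι X x).app j) := fun j =>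
    inferInstanceAs (IsOpenImmersion (IsAffineOpen.fromSpec _))
  have : ∀ (i j : _) (f : i ⟶ j), IsAffineHom (D.map f) := fun i j f => isAffineHom_of_isAffine _
  have : ∀ i, CompactSpace (D.obj i) := fun i =>
    have : IsAffine (D.obj i) := inferInstanceAs (IsAffine (Spec _))
    inferInstance
  have : ∀ i, QuasiSeparatedSpace (D.obj i) := fun i =>
    have : IsAffine (D.obj i) := inferInstanceAs (IsAffine (Spec _))
    inferInstance
  obtain ⟨i, Yi, ⟨eYi⟩⟩ := exists_stage_iso D c hc Y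
  let Oi : (D.obj i).Opens := (nhdι X x).app i ⁻¹ᵁ O
  have hnat : ∀ {j k} (f : j ⟶ k), D.map f ≫ (nhdι X x).app k = (nhdι X x).app j := fun {j k} f =>
    ((nhdι X x).naturality f).trans (Category.comp_id _)
  have : ∀ j, CompactSpace ↥((opensDiagram D i Oi).obj j) := fun j =>
    have : IsLocallyNoetherian (D.obj j.left) :=
      @isLocallyNoetherian_of_isOpenImmersion (D.obj j.left) X ((nhdι X x).app j.left) (hoi _)
        inferInstance
    have : IsNoetherian (D.obj j.left) := ⟨⟩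
    isCompact_iff_compactSpace.mp (NoetherianSpace.isCompact _)
  have : ∀ j, QuasiSeparatedSpace ↥((opensDiagram D i Oi).obj j) := fun j =>
    have : IsLocallyNoetherian (D.obj j.left) :=
      @isLocallyNoetherian_of_isOpenImmersion (D.obj j.left) X ((nhdι X x).app j.left) (hoi _)
        inferInstance
    have : IsLocallyNoetherian (D.map j.hom ⁻¹ᵁ Oi : Scheme.{u}) :=
      isLocallyNoetherian_of_isOpenImmersion (D.map j.hom ⁻¹ᵁ Oi).ι
    inferInstanceAs (QuasiSeparatedSpace ↥(D.map j.hom ⁻¹ᵁ Oi : Scheme.{u}))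
  let c' := opensCone D c i Oi
  let hc' : IsLimit c' := isLimitOpensCone D c hc i Oi
  let j0 : Over i := Over.mk (𝟙 i)
  let N : (D.obj i).Opens := D.map (𝟙 i) ⁻¹ᵁ Oi
  have hN : N.ι ⁻¹ᵁ Oi = ⊤ := by
    refine top_le_iff.mp fun z _ => ?_
    have : (D.map (𝟙 i)).base z.1 ∈ Oi := z.2
    rw [D.map_id] at this
    exact this
  have hNr : Set.range (N.ι ≫ (nhdι X x).app i) ⊆ Set.range O.ι := by
    rintro _ ⟨z, rfl⟩
    rw [Scheme.Opens.range_ι]
    exact (hN.ge trivial : z ∈ N.ι ⁻¹ᵁ Oi)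
  let n : (N : Scheme.{u}) ⟶ O := IsOpenImmersion.lift O.ι (N.ι ≫ (nhdι X x).app i) hNr
  have hn : n ≫ O.ι = N.ι ≫ (nhdι X x).app i := IsOpenImmersion.lift_fac _ _ _
  let π' : c'.pt ⟶ N := c'.π.app j0
  have hπ' : π' ≫ N.ι = (c.π.app i ⁻¹ᵁ Oi).ι ≫ c.π.app i := Scheme.Hom.resLE_comp_ι _ _
  have hQeq : c.π.app i ⁻¹ᵁ Oi = P0 :=
    (Scheme.Hom.comp_preimage _ _ _).symm.trans
      (congrArg (fun q => q ⁻¹ᵁ O) (nhdCone_π_ι X x i))
  obtain ⟨eQ⟩ := hQ _ hQeq (π' ≫ n) (by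
    refine (Category.assoc _ _ _).trans ((congrArg (π' ≫ ·) hn).trans ?_)
    refine (Category.assoc _ _ _).symm.trans ((congrArg (· ≫ (nhdι X x).app i) hπ').trans ?_)
    exact (Category.assoc _ _ _).trans (congrArg _ (nhdCone_π_ι X x i)))
  let eLim : (FEt.restrict π').obj ((FEt.restrict N.ι).obj Yi) ≅
      (FEt.restrict π').obj ((FEt.restrict n).obj Z) :=
    restrictSqIso π' N.ι _ _ hπ' Yi ≪≫ (FEt.restrict _).mapIso eYi ≪≫ eQ ≪≫
      (restrictCompIso π' n).app Z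
  obtain ⟨j, a, ⟨ej⟩⟩ := exists_stage_iso_iso (opensDiagram D i Oi) c' hc' (i := j0)
    ((FEt.restrict N.ι).obj Yi) ((FEt.restrict n).obj Z) eLim
  have hw : a.left = j.hom := (Category.comp_id _).symm.trans (Over.w a)
  let Oj : (D.obj j.left).Opens := D.map j.hom ⁻¹ᵁ Oi
  let α : (Oj : Scheme.{u}) ⟶ N := (opensDiagram D i Oi).map a
  have hα : α ≫ N.ι = Oj.ι ≫ D.map j.hom := by
    rw [← hw]; exact Scheme.Hom.resLE_comp_ι _ _
  have := hoi j.left
  let w := (nhdι X x).app j.left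
  let O' : X.Opens := O ⊔ w.opensRange
  have hOle : O ≤ O' := le_sup_left
  have hxw : x ∈ Set.range w := by
    refine ⟨c.π.app j.left (IsLocalRing.closedPoint (X.presheaf.stalk x)), ?_⟩
    rw [← Scheme.Hom.comp_apply, nhdCone_π_ι]
    exact Scheme.fromSpecStalk_closedPoint
  have hwr : Set.range w ⊆ Set.range O'.ι := by
    rw [Scheme.Opens.range_ι]; exact fun y hy => Or.inr hy
  let w' : D.obj j.left ⟶ O' := IsOpenImmersion.lift O'.ι w hwr
  have hw' : w' ≫ O'.ι = w := IsOpenImmersion.lift_fac _ _ _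
  have : IsOpenImmersion w' :=
    @IsOpenImmersion.of_comp _ _ _ w' O'.ι inferInstance (hw'.symm ▸ inferInstanceAs (IsOpenImmersion w))
  let v : (O : Scheme.{u}) ⟶ O' := X.homOfLE hOle
  have hv : v ≫ O'.ι = O.ι := X.homOfLE_ι hOle
  have hcov : Set.range v ∪ Set.range w' = Set.univ := by
    refine Set.eq_univ_of_forall fun y => ?_
    rcases (y.2 : y.1 ∈ O ⊔ w.opensRange) with hy | ⟨z, hz⟩
    · exact .inl ⟨⟨y.1, hy⟩, O'.ι.isOpenEmbedding.injective congr($(hv).base ⟨y.1, hy⟩)⟩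
    · exact .inr ⟨z, O'.ι.isOpenEmbedding.injective (congr($(hw').base z).trans hz)⟩
  have hpb : pullback.fst v w' ≫ O.ι = pullback.snd v w' ≫ w := by
    rw [← hv, ← hw', ← Category.assoc, ← Category.assoc, pullback.condition]
  have hm : Set.range (pullback.snd v w') ⊆ Set.range Oj.ι := by
    rintro _ ⟨z, rfl⟩
    rw [Scheme.Opens.range_ι]
    show (D.map j.hom ≫ (nhdι X x).app i).base ((pullback.snd v w').base z) ∈ O
    rw [hnat]
    have := congr($(hpb).base z)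
    exact this ▸ (pullback.fst v w' z).2
  let m : pullback v w' ⟶ Oj := IsOpenImmersion.lift Oj.ι (pullback.snd v w') hm
  have hmι : m ≫ Oj.ι = pullback.snd v w' := IsOpenImmersion.lift_fac _ _ _
  have hfst : pullback.fst v w' = m ≫ α ≫ n := by
    rw [← cancel_mono O.ι, Category.assoc, Category.assoc, hn, ← Category.assoc α, hα,
      Category.assoc, hnat, ← Category.assoc, hmι]
    exact hpb
  let B : FEt.Cat (D.obj j.left) := (FEt.restrict (D.map j.hom)).obj Yi
  obtain ⟨Z', hZ'⟩ := exists_glue_two v w' hcov Z B (restrictEqIso hfst Z ≪≫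
    (restrictCompIso m (α ≫ n)).app Z ≪≫ (FEt.restrict m).mapIso ((restrictCompIso α n).app Z) ≪≫
    (FEt.restrict m).mapIso ej.symm ≪≫
    (FEt.restrict m).mapIso (restrictSqIso α N.ι Oj.ι (D.map j.hom) hα Yi) ≪≫
    ((restrictCompIso m Oj.ι).app B).symm ≪≫ restrictEqIso hmι B)
  exact ⟨O', hOle, Z', Or.inr hxw, hZ'⟩

set_option backward.isDefEq.respectTransparency.types false in
/-- One step: a cover extends over a point of purity whose generalizations are in the open. -/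
theorem exists_extend_step {X : Scheme.{u}} [IsNoetherian X] (O : X.Opens) (x : X) (hx : x ∉ O)
    (hgen : ∀ y, y ∉ O → y ⤳ x → y = x) (h : FEt.PurityHolds (X.presheaf.stalk x))
    (Z : FEt.Cat (O : Scheme.{u})) :
    ∃ (O' : X.Opens) (hle : O ≤ O') (Z' : FEt.Cat (O' : Scheme.{u})),
      x ∈ O' ∧ Nonempty ((FEt.restrict (X.homOfLE hle)).obj Z' ≅ Z) := by
  refine exists_extend_step_of_local O x Z ?_
  have hess : (FEt.restrict ((X.fromSpecStalk x) ⁻¹ᵁ O).ι).EssSurj := by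
    rw [preimage_eq_punctured O x hx hgen]; exact h
  exact hess.mem_essImage ((FEt.restrict (X.fromSpecStalk x ∣_ O)).obj Z)

set_option backward.isDefEq.respectTransparency.types false in
/-- Purity at all points of the complement makes restriction to an open essentially surjective. -/
theorem essSurj_of_purityHolds {X : Scheme.{u}} [IsNoetherian X] (U : X.Opens)
    (h : ∀ x : X, x ∉ U → FEt.PurityHolds (X.presheaf.stalk x)) : (FEt.restrict U.ι).EssSurj := by
  refine ⟨fun E => ?_⟩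
  let S : Set X.Opens := {O | ∃ (hle : U ≤ O) (Z : FEt.Cat (O : Scheme.{u})),
    Nonempty ((FEt.restrict (X.homOfLE hle)).obj Z ≅ E)}
  have hU : U ∈ S := ⟨le_rfl, E, ⟨restrictEqIso (X.homOfLE_rfl U) E ≪≫
    restrictIdIso E⟩⟩
  obtain ⟨O, hO, hmax⟩ := (wellFounded_gt (α := X.Opens)).has_min S ⟨U, hU⟩
  obtain ⟨hle, Z, ⟨eZ⟩⟩ := hO
  by_cases htop : O = ⊤
  · subst htop
    refine ⟨(FEt.restrict X.topIso.inv).obj Z, ⟨((restrictCompIso U.ι X.topIso.inv).app Z).symm ≪≫
      restrictEqIso ?_ Z ≪≫ eZ⟩⟩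
    rw [← cancel_mono X.topIso.hom, Category.assoc, Iso.inv_hom_id, Category.comp_id]
    exact (X.homOfLE_ι hle).symm
  · obtain ⟨x, hx, hgen⟩ := exists_generic (O : Set X)ᶜ O.2.isClosed_compl
      (Set.nonempty_compl.mpr fun he => htop (Opens.ext (he.trans rfl)))
    obtain ⟨O', hle', Z', hx', ⟨e'⟩⟩ :=
      exists_extend_step O x hx (fun y hy => hgen y hy) (h x fun hxU => hx (hle hxU)) Z
    refine absurd (lt_of_le_of_ne hle' fun he => hx (he ▸ hx')) (hmax O' ⟨hle.trans hle', Z', ⟨?_⟩⟩)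
    exact restrictEqIso (X.homOfLE_homOfLE hle hle').symm Z' ≪≫
      (restrictCompIso _ _).app Z' ≪≫ (FEt.restrict _).mapIso e' ≪≫ eZ

end Groth.Agent.FEt83
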