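import Groth.Agent.FEt83.AffineEquiv
import Mathlib.AlgebraicGeometry.Pullbacks

/-!
# Restriction of finite étale covers of affine schemes is base change of algebras
-/

universe u

open CategoryTheory Limits AlgebraicGeometry Opposite TensorProduct

namespace Groth.Agent.FEt83

variable (R S : Type u) [CommRing R] [CommRing S] [Algebra R S]

/-- Pullback of `Spec C` to `Spec S` is `Spec (S ⊗[R] C)`. -/
noncomputable def restrictSpecLeftIso (C : CommAlgCat.FiniteEtale.{u} R) :
    pullback (Spec.map (CommRingCat.ofHom (algebraMap R C.obj)))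
      (Spec.map (CommRingCat.ofHom (algebraMap R S))) ≅ Spec (CommRingCat.of (S ⊗[R] C.obj)) :=
  pullbackSymmetry _ _ ≪≫ pullbackSpecIso R S C.obj

theorem restrictSpecLeftIso_inv_snd (C : CommAlgCat.FiniteEtale.{u} R) :
    (restrictSpecLeftIso R S C).inv ≫ pullback.snd _ _ =
      Spec.map (CommRingCat.ofHom (algebraMap S (S ⊗[R] C.obj))) := by
  simp only [restrictSpecLeftIso, Iso.trans_inv, Category.assoc, pullbackSymmetry_inv_comp_snd]
  exact pullbackSpecIso_inv_fst' R S C.obj

@[reassoc]
theorem restrictSpecLeftIso_inv_fst (C : CommAlgCat.FiniteEtale.{u} R) :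
    (restrictSpecLeftIso R S C).inv ≫ pullback.fst _ _ =
      Spec.map (CommRingCat.ofHom (Algebra.TensorProduct.includeRight :
        C.obj →ₐ[R] S ⊗[R] C.obj).toRingHom) := by
  simp only [restrictSpecLeftIso, Iso.trans_inv, Category.assoc, pullbackSymmetry_inv_comp_fst]
  exact pullbackSpecIso_inv_snd R S C.obj

/-- Compatibility with algebra maps. -/
theorem restrictSpecLeft_map (C D : CommAlgCat.FiniteEtale.{u} R) (φ : D.obj →ₐ[R] C.obj)
    (g : Spec (CommRingCat.of C.obj) ⟶ Spec (CommRingCat.of D.obj))
    (hg : g = Spec.map (CommRingCat.ofHom φ.toRingHom))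
    (w : (pullback.fst (Spec.map (CommRingCat.ofHom (algebraMap R C.obj)))
      (Spec.map (CommRingCat.ofHom (algebraMap R S))) ≫ g) ≫
        Spec.map (CommRingCat.ofHom (algebraMap R D.obj)) =
      pullback.snd _ _ ≫ Spec.map (CommRingCat.ofHom (algebraMap R S))) :
    (restrictSpecLeftIso R S C).hom ≫
        Spec.map (CommRingCat.ofHom (Algebra.TensorProduct.map (AlgHom.id S S) φ).toRingHom) ≫
          (restrictSpecLeftIso R S D).inv =
      pullback.lift (pullback.fst _ _ ≫ g) (pullback.snd _ _) w := by
  rw [← cancel_epi (restrictSpecLeftIso R S C).inv, Iso.inv_hom_id_assoc]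
  apply pullback.hom_ext
  · simp only [Category.assoc, pullback.lift_fst, restrictSpecLeftIso_inv_fst, hg,
      restrictSpecLeftIso_inv_fst_assoc]
    refine (Spec.map_comp _ _).symm.trans (Eq.trans (congrArg Spec.map ?_) (Spec.map_comp _ _))
    ext x
    exact Algebra.TensorProduct.map_tmul (AlgHom.id S S) φ 1 x
  · simp only [Category.assoc, pullback.lift_snd, restrictSpecLeftIso_inv_snd]
    refine Eq.trans (Spec.map_comp _ _).symm (congrArg Spec.map ?_)
    ext x
    exact (Algebra.TensorProduct.map (AlgHom.id S S) φ).commutes x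

set_option backward.isDefEq.respectTransparency.types false in
/-- Restriction along `Spec S ⟶ Spec R` corresponds to `S ⊗[R] -`. -/
noncomputable def specFunctorRestrictIso :
    specFunctor R ⋙ FEt.restrict (Spec.map (CommRingCat.ofHom (algebraMap R S))) ≅
      (CommAlgCat.FiniteEtale.baseChange.{u, u} (R := R) S).op ⋙ specFunctor S :=
  NatIso.ofComponents
    (fun C => MorphismProperty.Over.isoMk (restrictSpecLeftIso R S C.unop) (by
      refine ((restrictSpecLeftIso R S C.unop).eq_inv_comp).mp ?_
      exact (restrictSpecLeftIso_inv_snd R S C.unop).symm))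
    (fun {C D} f => by
      apply MorphismProperty.Over.Hom.ext
      exact ((Iso.comp_inv_eq _).mp ((Category.assoc _ _ _).trans
        (restrictSpecLeft_map R S C.unop D.unop f.unop.hom.hom ((specFunctor R).map f).left rfl
          (by
            refine (Category.assoc _ _ _).trans ?_
            exact (congrArg _ (Over.w ((specFunctor R).map f).hom)).trans pullback.condition)))).symm)

end Groth.Agent.FEt83
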