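import Mathlib.AlgebraicGeometry.Morphisms.Flat

/-!
# Flat morphisms are generalizing
-/

universe u

open CategoryTheory AlgebraicGeometry

namespace Groth.Agent.FEt83

set_option backward.isDefEq.respectTransparency.types false in
theorem generalizingMap_of_flat {X Y : Scheme.{u}} (f : X ⟶ Y) [Flat f] : GeneralizingMap f := by
  intro x y' hy'
  obtain ⟨q, hq⟩ : y' ∈ Set.range (Y.fromSpecStalk (f x)) :=
    (Set.ext_iff.mp Scheme.range_fromSpecStalk _).mpr hy'
  let φ := f.stalkMap x
  let _ : Algebra (Y.presheaf.stalk (f x)) (X.presheaf.stalk x) := φ.hom.toAlgebra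
  have : IsLocalHom (algebraMap (Y.presheaf.stalk (f x)) (X.presheaf.stalk x)) :=
    inferInstanceAs (IsLocalHom φ.hom)
  have : Module.Flat (Y.presheaf.stalk (f x)) (X.presheaf.stalk x) := Flat.stalkMap f x
  have : Module.FaithfullyFlat (Y.presheaf.stalk (f x)) (X.presheaf.stalk x) :=
    Module.FaithfullyFlat.of_flat_of_isLocalHom
  obtain ⟨p, hp⟩ := PrimeSpectrum.comap_surjective_of_faithfullyFlat
    (A := Y.presheaf.stalk (f x)) (B := X.presheaf.stalk x) q
  refine ⟨X.fromSpecStalk x p, (Set.ext_iff.mp Scheme.range_fromSpecStalk _).mp ⟨p, rfl⟩, ?_⟩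
  rw [← hq, ← hp]
  exact congr($((Scheme.SpecMap_stalkMap_fromSpecStalk f (x := x))) p).symm

end Groth.Agent.FEt83
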