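import Groth.Agent.FEt83.FullFaithful
import Groth.Agent.FEt83.Generalizing
import Groth.Agent.Unr55.EtAscent
import Groth.Agent.EGA73.IntegralNormal
import Groth.Agent.Props58.Comp
import Groth.Prelude.Def_Pi1

/-!
# Finite étale covers of normal integral schemes

The irreducible components of a cover are clopen, one for each point over the generic point; hence
restriction along a preimmersion through the generic point is fully faithful.
-/

universe u

open CategoryTheory Limits AlgebraicGeometry TopologicalSpace

namespace Groth.Agent.FEt83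

variable {X : Scheme.{u}} [IsIntegral X]

/-- A scheme étale over a normal integral scheme is normal. -/
theorem isNormalScheme_of_etale (hX : Pi1.IsNormalScheme X) {Y : Scheme.{u}} (f : Y ⟶ X) [Etale f] :
    Pi1.IsNormalScheme Y := by
  intro y
  obtain ⟨_, ⟨U, hU, rfl⟩, hyU, -⟩ :=
    X.isBasis_affineOpens.exists_subset_of_mem_open (Set.mem_univ (f y)) isOpen_univ
  obtain ⟨_, ⟨V, hV, rfl⟩, hyV, hVU⟩ :=
    Y.isBasis_affineOpens.exists_subset_of_mem_open (show y ∈ f ⁻¹ᵁ U from hyU) (f ⁻¹ᵁ U).2
  replace hU : IsAffineOpen U := hU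
  replace hV : IsAffineOpen V := hV
  have : Nonempty U := ⟨⟨f y, hyU⟩⟩
  have := EGA73.isIntegrallyClosed_sections hX hU
  let _ : Algebra Γ(X, U) Γ(Y, V) := (f.appLE U V hVU).hom.toAlgebra
  have : Algebra.Etale Γ(X, U) Γ(Y, V) :=
    HasRingHomProperty.appLE @Etale f inferInstance ⟨U, hU⟩ ⟨V, hV⟩ hVU
  let _ := TopCat.Presheaf.algebra_section_stalk Y.presheaf ⟨y, hyV⟩
  have := hV.isLocalization_stalk ⟨y, hyV⟩
  obtain ⟨h1, h2⟩ := Unr55.isNormalDomain_localization_of_etale (A := Γ(X, U))
    (hV.primeIdealOf ⟨y, hyV⟩).asIdeal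
  let e := (IsLocalization.algEquiv (hV.primeIdealOf ⟨y, hyV⟩).asIdeal.primeCompl
    (Y.presheaf.stalk y) (Localization.AtPrime (hV.primeIdealOf ⟨y, hyV⟩).asIdeal)).toRingEquiv
  exact ⟨e.toMulEquiv.isDomain _, IsIntegrallyClosed.of_equiv e.symm⟩

theorem isNormalScheme_cover (hX : Pi1.IsNormalScheme X) (Y : FEt.Cat X) :
    Pi1.IsNormalScheme Y.left :=
  have : Etale Y.hom := Y.prop.2
  isNormalScheme_of_etale hX Y.hom

set_option backward.isDefEq.respectTransparency.types false in
/-- Every point of a cover generalizes to a point over the generic point. -/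
theorem exists_generization (Y : FEt.Cat X) (y : Y.left) :
    ∃ g : Y.left, g ⤳ y ∧ Y.hom g = genericPoint X := by
  have : Etale Y.hom := Y.prop.2
  obtain ⟨g, hg, e⟩ := generalizingMap_of_flat Y.hom ((genericPoint_spec X).specializes (by trivial) : genericPoint X ⤳ Y.hom y)
  exact ⟨g, hg, e⟩

set_option backward.isDefEq.respectTransparency.types false in
theorem eq_of_specializes_generic (Y : FEt.Cat X) {g g' : Y.left} (h : g ⤳ g')
    (hg' : Y.hom g' = genericPoint X) : g = g' := by
  have : IsFinite Y.hom := Y.prop.1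
  have hg : Y.hom g = genericPoint X :=
    ((h.map Y.hom.continuous).trans (hg'.symm ▸ specializes_rfl)).antisymm
      ((genericPoint_spec X).specializes (by trivial)) |>.eq
  have := isDiscrete_iff_discreteTopology.mp (Y.hom.isDiscrete_preimage_singleton (genericPoint X))
  exact congrArg Subtype.val (specializes_iff_eq.mp
    ((Topology.IsInducing.subtypeVal.specializes_iff
      (x := (⟨g, hg⟩ : Y.hom ⁻¹' {genericPoint X})) (y := ⟨g', hg'⟩)).mp h))

set_option backward.isDefEq.respectTransparency.types false in
theorem closure_mem_irreducibleComponents (Y : FEt.Cat X) {g : Y.left}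
    (hg : Y.hom g = genericPoint X) : closure {g} ∈ irreducibleComponents Y.left := by
  obtain ⟨Z, hZ, hgZ⟩ : ∃ Z ∈ irreducibleComponents Y.left, g ∈ Z :=
    ⟨_, irreducibleComponent_mem_irreducibleComponents g, mem_irreducibleComponent⟩
  have hc := hZ.1.genericPoint_closure_eq.trans (isClosed_of_mem_irreducibleComponents Z hZ).closure_eq
  have : hZ.1.genericPoint = g := eq_of_specializes_generic Y
    (specializes_iff_mem_closure.mpr (hc.symm ▸ hgZ)) hg
  rw [← this, hc]
  exact hZ

set_option backward.isDefEq.respectTransparency.types false in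
theorem irreducibleComponents_finite (Y : FEt.Cat X) : (irreducibleComponents Y.left).Finite := by
  have : IsFinite Y.hom := Y.prop.1
  refine ((Y.hom.finite_preimage_singleton (genericPoint X)).image fun g => closure {g}).subset
    fun Z hZ => ?_
  obtain ⟨g, hg, e⟩ := exists_generization Y hZ.1.genericPoint
  have hc := hZ.1.genericPoint_closure_eq.trans (isClosed_of_mem_irreducibleComponents Z hZ).closure_eq
  refine ⟨g, e, (hZ.2 (closure_mem_irreducibleComponents Y e).1 ?_).antisymm ?_⟩ <;>
    rw [← hc] <;> exact closure_minimal (Set.singleton_subset_iff.mpr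
      (specializes_iff_mem_closure.mp hg)) isClosed_closure

set_option backward.isDefEq.respectTransparency.types false in
theorem isClopen_of_mem_irreducibleComponents (hX : Pi1.IsNormalScheme X) (Y : FEt.Cat X)
    {Z : Set Y.left} (hZ : Z ∈ irreducibleComponents Y.left) : IsClopen Z := by
  refine ⟨isClosed_of_mem_irreducibleComponents Z hZ, ?_⟩
  have : Zᶜ = ⋃₀ (irreducibleComponents Y.left \ {Z}) := by
    refine Set.Subset.antisymm (fun x hx => ⟨_, ⟨irreducibleComponent_mem_irreducibleComponents x,
      fun h => hx (h ▸ mem_irreducibleComponent)⟩, mem_irreducibleComponent⟩) ?_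
    rintro x ⟨Z', ⟨hZ', hne⟩, hx⟩ hxZ
    exact hne (Props58.eq_of_isDomain_stalk x (isNormalScheme_cover hX Y x).1 Z' hZ' Z hZ hx hxZ)
  rw [← isClosed_compl_iff, this]
  rw [Set.sUnion_eq_biUnion]
  exact ((irreducibleComponents_finite Y).subset Set.sdiff_subset).isClosed_biUnion
    fun Z' hZ' => isClosed_of_mem_irreducibleComponents Z' hZ'.1

set_option backward.isDefEq.respectTransparency.types false in
theorem isIntegral_cover (hX : Pi1.IsNormalScheme X) (Y : FEt.Cat X) [ConnectedSpace Y.left] :
    IsIntegral Y.left := by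
  obtain ⟨y⟩ : Nonempty Y.left := inferInstance
  have hc := irreducibleComponent_mem_irreducibleComponents y
  have hu : irreducibleComponent y = Set.univ :=
    (isClopen_of_mem_irreducibleComponents hX Y hc).eq_univ ⟨y, mem_irreducibleComponent⟩
  have : IrreducibleSpace Y.left := by
    rw [irreducibleSpace_def, Set.top_eq_univ, ← hu]
    exact hc.1
  have (x : Y.left) : _root_.IsReduced (Y.left.presheaf.stalk x) :=
    have := (isNormalScheme_cover hX Y x).1
    inferInstance
  have := isReduced_of_isReduced_stalk Y.left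
  exact isIntegral_of_irreducibleSpace_of_isReduced Y.left

set_option backward.isDefEq.respectTransparency.types false in
theorem meetsClopens_of_generic {X' : Scheme.{u}} (f : X' ⟶ X)
    (hη : genericPoint X ∈ Set.range f) : MeetsClopens f := by
  rintro Y C hC ⟨y, hy⟩
  obtain ⟨g, hgy, hg⟩ := exists_generization Y y
  obtain ⟨x, hx⟩ := hη
  obtain ⟨z, hz⟩ := exists_point Y (hg.trans hx.symm)
  exact ⟨z, hz ▸ hgy.mem_open hC.2 hy⟩

set_option backward.isDefEq.respectTransparency.types false in
theorem liftsClopens_of_generic (hX : Pi1.IsNormalScheme X) {X' : Scheme.{u}} (f : X' ⟶ X)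
    [IsPreimmersion f] (hη : genericPoint X ∈ Set.range f) : LiftsClopens f := by
  intro Y C₀ hC₀
  obtain ⟨x₀, hx₀⟩ := hη
  have hfst : IsPreimmersion (pullback.fst Y.hom f) :=
    MorphismProperty.pullback_fst Y.hom f inferInstance
  -- a point of the pullback and its generization over the generic point
  have key : ∀ z : (pullback Y.hom f : Scheme.{u}), ∃ w, w ⤳ z ∧
      Y.hom (pullback.fst Y.hom f w) = genericPoint X := fun z => by
    obtain ⟨g, hgy, hg⟩ := exists_generization Y (pullback.fst Y.hom f z)
    obtain ⟨w, hw⟩ := exists_point Y (hg.trans hx₀.symm)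
    exact ⟨w, (pullback.fst Y.hom f).isEmbedding.isInducing.specializes_iff.mp (hw ▸ hgy), hw ▸ hg⟩
  let S : Set Y.left := {g | Y.hom g = genericPoint X ∧ g ∈ pullback.fst Y.hom f '' C₀}
  have hS : S.Finite := by
    have : IsFinite Y.hom := Y.prop.1
    exact (Y.hom.finite_preimage_singleton (genericPoint X)).subset fun g hg => hg.1
  have hcl : ∀ g ∈ S, IsClopen (closure {g}) := fun g hg =>
    isClopen_of_mem_irreducibleComponents hX Y (closure_mem_irreducibleComponents Y hg.1)
  refine ⟨⋃ g ∈ S, closure {g}, hS.isClopen_biUnion hcl, Set.ext fun z => ?_⟩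
  obtain ⟨w, hwz, hw⟩ := key z
  constructor
  · intro hz
    obtain ⟨g, hgS, hgz⟩ := Set.mem_iUnion₂.mp hz
    have hgw : g ⤳ pullback.fst Y.hom f w := specializes_iff_mem_closure.mpr
      ((hwz.map (pullback.fst Y.hom f).continuous).mem_open (hcl g hgS).2 hgz)
    obtain ⟨w', hw', e⟩ := hgS.2
    rw [eq_of_specializes_generic Y hgw hw] at e
    rw [(pullback.fst Y.hom f).isEmbedding.injective e] at hw'
    exact hwz.mem_closed hC₀.1 hw'
  · intro hz
    exact Set.mem_iUnion₂.mpr ⟨_, ⟨hw, w, hwz.mem_open hC₀.2 hz, rfl⟩,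
      (hwz.map (pullback.fst Y.hom f).continuous).mem_closure⟩

/-- Restriction of covers of a normal integral scheme along a preimmersion through the generic
point is fully faithful. -/
theorem fullyFaithful_of_generic (hX : Pi1.IsNormalScheme X) {X' : Scheme.{u}} (f : X' ⟶ X)
    [IsPreimmersion f] (hη : genericPoint X ∈ Set.range f) :
    (FEt.restrict f).Full ∧ (FEt.restrict f).Faithful :=
  ⟨full_of_lifts (meetsClopens_of_generic f hη) (liftsClopens_of_generic hX f hη),
    faithful_of_meets (meetsClopens_of_generic f hη)⟩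

end Groth.Agent.FEt83
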