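import Groth.Prelude.Def_FEt
import Mathlib.RingTheory.Etale.Finite
import Mathlib.AlgebraicGeometry.Morphisms.FlatMono

/-!
# Finite étale covers of an affine scheme are finite étale algebras
-/

universe u

open CategoryTheory Limits AlgebraicGeometry Opposite

namespace Groth.Agent.FEt83

variable (R : Type u) [CommRing R]

theorem prop_specMap (C : CommAlgCat.FiniteEtale.{u} R) :
    FEt.prop (Spec.map (CommRingCat.ofHom (algebraMap R C.obj))) :=
  ⟨(IsFinite.SpecMap_iff _).mpr (RingHom.finite_algebraMap.mpr inferInstance),
    (HasRingHomProperty.Spec_iff (P := @Etale)).mpr (RingHom.etale_algebraMap.mpr inferInstance)⟩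

/-- `C ↦ Spec C`, from finite étale algebras to finite étale covers. -/
noncomputable def specFunctor :
    (CommAlgCat.FiniteEtale.{u} R)ᵒᵖ ⥤ FEt.Cat (Spec (CommRingCat.of R)) where
  obj C := MorphismProperty.Over.mk ⊤ (Spec.map (CommRingCat.ofHom (algebraMap R C.unop.obj)))
    (prop_specMap R C.unop)
  map {C D} f := MorphismProperty.Over.homMk
    (Spec.map (CommRingCat.ofHom (f.unop.hom.hom : D.unop.obj →ₐ[R] C.unop.obj).toRingHom)) (by
      refine (Spec.map_comp _ _).symm.trans (congrArg Spec.map ?_)
      ext x
      exact (f.unop.hom.hom).commutes x)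
  map_id C := MorphismProperty.Over.Hom.ext (Spec.map_id _)
  map_comp f g := MorphismProperty.Over.Hom.ext
    (Spec.map_comp (CommRingCat.ofHom g.unop.hom.hom.toRingHom) (CommRingCat.ofHom f.unop.hom.hom.toRingHom))

instance : (specFunctor R).Faithful where
  map_injective {C D f g} h := by
    have h' := Spec.map_injective (congrArg (fun k => k.left) h)
    apply Quiver.Hom.unop_inj
    ext x
    exact congr($h' x)

instance : (specFunctor R).Full where
  map_surjective {C D} k := by
    let φ := Spec.preimage k.left
    have hw : CommRingCat.ofHom (algebraMap R D.unop.obj) ≫ φ =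
        CommRingCat.ofHom (algebraMap R C.unop.obj) := by
      apply Spec.map_injective
      exact (Spec.map_comp _ _).trans
        ((congrArg (· ≫ _) (Spec.map_preimage k.left)).trans (Over.w k.hom))
    let ψ : D.unop.obj →ₐ[R] C.unop.obj := ⟨φ.hom, fun r => congr($hw r)⟩
    exact ⟨(ObjectProperty.homMk (CommAlgCat.ofHom ψ)).op,
      MorphismProperty.Over.Hom.ext (Spec.map_preimage k.left)⟩

instance : (specFunctor R).EssSurj where
  mem_essImage P := by
    have : IsFinite P.hom := P.prop.1
    have : Etale P.hom := P.prop.2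
    have : IsAffine P.left := @isAffine_of_isAffineHom _ (Spec (CommRingCat.of R)) P.hom _ inferInstance
    let φ : CommRingCat.of R ⟶ Γ(P.left, ⊤) := Spec.preimage (P.left.isoSpec.inv ≫ P.hom)
    have hφ : Spec.map φ = P.left.isoSpec.inv ≫ P.hom := Spec.map_preimage _
    have hp : FEt.prop (Spec.map φ) := hφ ▸ (FEt.prop.cancel_left_of_respectsIso _ _).mpr P.prop
    let _ : Algebra R Γ(P.left, ⊤) := φ.hom.toAlgebra
    have : Module.Finite R Γ(P.left, ⊤) :=
      RingHom.finite_algebraMap.mp ((IsFinite.SpecMap_iff φ).mp hp.1)
    have : Algebra.Etale R Γ(P.left, ⊤) :=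
      RingHom.etale_algebraMap.mp ((HasRingHomProperty.Spec_iff (P := @Etale)).mp hp.2)
    exact ⟨.op (CommAlgCat.FiniteEtale.of R Γ(P.left, ⊤)),
      ⟨MorphismProperty.Over.isoMk P.left.isoSpec.symm hφ.symm⟩⟩

instance : (specFunctor R).IsEquivalence where

/-- Points of `Spec C` over a point of the base are algebra homomorphisms. -/
noncomputable def specFunctorFiberIso (Ω : Type u) [Field Ω] [Algebra R Ω] :
    specFunctor R ⋙ FEt.fiber (Spec.map (CommRingCat.ofHom (algebraMap R Ω))) ≅
      CommAlgCat.FiniteEtale.fiber.{u} R Ω ⋙ FintypeCat.incl :=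
  NatIso.ofComponents (fun C => Equiv.toIso
    { toFun := fun s => ⟨(Spec.preimage s.1).hom, fun r => by
        have h : CommRingCat.ofHom (algebraMap R C.unop.obj) ≫ Spec.preimage s.1 =
            CommRingCat.ofHom (algebraMap R Ω) := by
          apply Spec.map_injective
          exact (Spec.map_comp _ _).trans
            ((congrArg (· ≫ _) (Spec.map_preimage s.1)).trans s.2)
        exact congr($h r)⟩
      invFun := fun φ => ⟨Spec.map (CommRingCat.ofHom φ.toRingHom), by
        refine (Spec.map_comp _ _).symm.trans (congrArg Spec.map ?_)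
        ext r
        exact φ.commutes r⟩
      left_inv := fun s => Subtype.ext (Spec.map_preimage s.1)
      right_inv := fun φ => AlgHom.ext fun x =>
        congr($(Spec.preimage_map (CommRingCat.ofHom φ.toRingHom)) x) }) (fun {C D} f =>
    ConcreteCategory.hom_ext _ _ fun s => AlgHom.ext fun x => by
      show Spec.preimage (s.1 ≫ ((specFunctor R).map f).left) x =
        Spec.preimage s.1 (f.unop.hom.hom x)
      have h : Spec.preimage (s.1 ≫ ((specFunctor R).map f).left) =
          CommRingCat.ofHom (f.unop.hom.hom : D.unop.obj →ₐ[R] C.unop.obj).toRingHom ≫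
            Spec.preimage s.1 := by
        apply Spec.map_injective
        exact (Spec.map_preimage _).trans ((Spec.map_comp _ _).trans
          (congrArg (· ≫ _) (Spec.map_preimage s.1))).symm
      exact congr($h x))

end Groth.Agent.FEt83
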