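import Groth.Agent.FEt83.FullFaithful

/-!
# Full faithfulness of restriction from bijectivity on global functions of covers
-/

universe u

open CategoryTheory Limits AlgebraicGeometry TopologicalSpace Opposite

namespace Groth.Agent.FEt83

variable {X X' : Scheme.{u}}

set_option backward.isDefEq.respectTransparency.types false in
/-- Clopen subsets of a scheme are cut out by idempotent global functions. -/
theorem exists_idempotent_of_isClopen (C : Set X) (hC : IsClopen C) :
    ∃ e : Γ(X, ⊤), IsIdempotentElem e ∧ (X.basicOpen e : Set X) = C := by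
  let U : Bool → X.Opens := fun b => if b then ⟨C, hC.2⟩ else ⟨Cᶜ, hC.1.isOpen_compl⟩
  have hcov : ⊤ ≤ iSup U := fun x _ => by
    by_cases hx : x ∈ C
    · exact Opens.mem_iSup.mpr ⟨true, hx⟩
    · exact Opens.mem_iSup.mpr ⟨false, hx⟩
  let sf : ∀ b : Bool, Γ(X, U b) := fun b => if b then 1 else 0
  have hdis : ∀ b c, b ≠ c → U b ⊓ U c = ⊥ := by
    intro b c h
    refine Opens.ext ?_
    cases b <;> cases c <;> first | exact absurd rfl h | simp [U]
  have hcomp : TopCat.Presheaf.IsCompatible X.presheaf U sf := by
    intro b c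
    by_cases h : b = c
    · subst h; rfl
    · exact ((CommRingCat.subsingleton_of_isTerminal (X.sheaf.isTerminalOfEqEmpty (hdis b c h)))).elim _ _
  obtain ⟨e, he, -⟩ := X.sheaf.existsUnique_gluing' U ⊤ (fun b => homOfLE le_top) hcov sf hcomp
  have he1 : X.presheaf.map (homOfLE (le_top : U true ≤ ⊤)).op e = 1 := he true
  have he0 : X.presheaf.map (homOfLE (le_top : U false ≤ ⊤)).op e = 0 := he false
  refine ⟨e, ?_, ?_⟩
  · refine X.sheaf.eq_of_locally_eq' U ⊤ (fun b => homOfLE le_top) hcov (e * e) e fun b => ?_
    refine (map_mul (X.presheaf.map (homOfLE (le_top : U b ≤ ⊤)).op).hom e e).trans ?_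
    cases b
    · exact (congrArg₂ (· * ·) he0 he0).trans ((mul_zero _).trans he0.symm)
    · exact (congrArg₂ (· * ·) he1 he1).trans ((mul_one _).trans he1.symm)
  · ext x
    rw [SetLike.mem_coe, Scheme.mem_basicOpen_top]
    by_cases hx : x ∈ C
    · refine iff_of_true ?_ hx
      have h : X.presheaf.germ ⊤ x trivial e = X.presheaf.germ (U true) x hx 1 := by
        rw [← he1]; exact (TopCat.Presheaf.germ_res_apply ..).symm
      exact h ▸ (isUnit_one.map (X.presheaf.germ (U true) x hx).hom)
    · refine iff_of_false (fun hu => ?_) hx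
      have h : X.presheaf.germ ⊤ x trivial e = X.presheaf.germ (U false) x hx 0 := by
        rw [← he0]; exact (TopCat.Presheaf.germ_res_apply ..).symm
      exact not_isUnit_zero ((h.trans (map_zero (X.presheaf.germ (U false) x hx).hom)) ▸ hu)

set_option backward.isDefEq.respectTransparency.types false in
theorem compl_basicOpen_of_idem {e : Γ(X, ⊤)} (he : IsIdempotentElem e) :
    ((X.basicOpen e : Set X))ᶜ = X.basicOpen (1 - e) := by
  ext x
  rw [Set.mem_compl_iff, SetLike.mem_coe, SetLike.mem_coe, Scheme.mem_basicOpen_top,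
    Scheme.mem_basicOpen_top, map_sub, map_one]
  constructor
  · exact fun h => (IsLocalRing.isUnit_or_isUnit_one_sub_self _).resolve_left h
  · intro h h'
    have h0 := (h'.mul h)
    have he' : IsIdempotentElem (X.presheaf.germ ⊤ x trivial e) :=
      he.map (X.presheaf.germ ⊤ x trivial).hom
    rw [he'.mul_one_sub_self] at h0
    exact not_isUnit_zero h0

set_option backward.isDefEq.respectTransparency.types false in
theorem eq_zero_of_idem {e : Γ(X, ⊤)} (he : IsIdempotentElem e) (h : X.basicOpen e = ⊥) : e = 0 := by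
  refine TopCat.Presheaf.section_ext X.sheaf ⊤ e 0 fun x _ => ?_
  have hx : x ∈ X.basicOpen (1 - e) := by
    rw [← SetLike.mem_coe, ← compl_basicOpen_of_idem he, h]
    simp
  rw [Scheme.mem_basicOpen_top] at hx
  refine Eq.trans ?_ (map_zero _).symm
  refine hx.mul_left_eq_zero.mp ?_
  show (X.presheaf.Γgerm x) e * (X.presheaf.Γgerm x) (1 - e) = 0
  rw [← map_mul, he.mul_one_sub_self, map_zero]

variable (f : X' ⟶ X)

set_option backward.isDefEq.respectTransparency.types false in
theorem meetsClopens_of_injective
    (h : ∀ Y : FEt.Cat X, Function.Injective (pullback.fst Y.hom f).appTop) : MeetsClopens f := by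
  intro Y C hC hne
  obtain ⟨e, he, hb⟩ := exists_idempotent_of_isClopen C hC
  by_contra hno
  push Not at hno
  have h0 : (pullback.fst Y.hom f).appTop e = 0 := by
    refine eq_zero_of_idem (he.map (pullback.fst Y.hom f).appTop.hom) ?_
    rw [← Scheme.preimage_basicOpen_top]
    refine Opens.ext (Set.eq_empty_of_forall_notMem fun z hz => hno z ?_)
    rw [← hb]
    exact hz
  have : e = 0 := h Y (h0.trans (map_zero _).symm)
  obtain ⟨y, hy⟩ := hne
  rw [← hb, this] at hy
  simp at hy

set_option backward.isDefEq.respectTransparency.types false in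
theorem liftsClopens_of_bijective
    (h : ∀ Y : FEt.Cat X, Function.Bijective (pullback.fst Y.hom f).appTop) : LiftsClopens f := by
  intro Y C₀ hC₀
  obtain ⟨e₀, he₀, hb₀⟩ := exists_idempotent_of_isClopen C₀ hC₀
  obtain ⟨e, rfl⟩ := (h Y).2 e₀
  have he : IsIdempotentElem e := (h Y).1 (by rw [map_mul]; exact he₀)
  refine ⟨Y.left.basicOpen e, ⟨?_, (Y.left.basicOpen e).2⟩, ?_⟩
  · have : ∀ {Z : Scheme.{u}} {e : Γ(Z, ⊤)}, IsIdempotentElem e →
        IsClosed (Z.basicOpen e : Set Z) := fun {Z e} he => by
      rw [← isOpen_compl_iff, compl_basicOpen_of_idem he]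
      exact (Z.basicOpen (1 - e)).2
    exact this he
  · rw [← hb₀]
    exact congrArg SetLike.coe (Scheme.preimage_basicOpen_top (pullback.fst Y.hom f) e)

/-- Restriction is fully faithful if pullback is bijective on global functions of all covers. -/
theorem fullyFaithful_of_appTop_bijective
    (h : ∀ Y : FEt.Cat X, Function.Bijective (pullback.fst Y.hom f).appTop) :
    (FEt.restrict f).Full ∧ (FEt.restrict f).Faithful :=
  have hm := meetsClopens_of_injective f fun Y => (h Y).1
  ⟨full_of_lifts hm (liftsClopens_of_bijective f h), faithful_of_meets hm⟩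

end Groth.Agent.FEt83
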