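import Mathlib.AlgebraicGeometry.Morphisms.Etale
import Mathlib.RingTheory.Unramified.LocalRing
import Groth.Agent.FEt83.ClopenSections
import Groth.Agent.EGA4Alg4.DepthChange
import Groth.Agent.CAlg1.SerreNormal
import Groth.Agent.Div89.DepthTwo
import Groth.Agent.Crv77.Degree
import Groth.Agent.QC70.UnitSub

/-!
# Functions on étale schemes over schemes of depth at least two off an open
-/

universe u

open CategoryTheory Limits AlgebraicGeometry TopologicalSpace Opposite

namespace Groth.Agent.FEt83

variable {X Y : Scheme.{u}}

set_option backward.isDefEq.respectTransparency.types false in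
/-- Depth of local rings is preserved by étale morphisms. -/
theorem depth_stalk_of_etale [IsLocallyNoetherian X] (f : Y ⟶ X) [Etale f] (y : Y) :
    LocCoh.depth (Y.presheaf.stalk y) (Y.presheaf.stalk y) =
      LocCoh.depth (X.presheaf.stalk (f y)) (X.presheaf.stalk (f y)) := by
  have : IsLocallyNoetherian Y := LocallyOfFiniteType.isLocallyNoetherian f
  let _ : Algebra (X.presheaf.stalk (f y)) (Y.presheaf.stalk y) := (f.stalkMap y).hom.toAlgebra
  have : Module.Flat (X.presheaf.stalk (f y)) (Y.presheaf.stalk y) := Flat.stalkMap f y
  have : Algebra.FormallyUnramified (X.presheaf.stalk (f y)) (Y.presheaf.stalk y) :=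
    FormallyUnramified.stalkMap f y
  have : Algebra.EssFiniteType (X.presheaf.stalk (f y)) (Y.presheaf.stalk y) :=
    RingHom.essFiniteType_algebraMap.mp (LocallyOfFiniteType.stalkMap f y)
  have : IsLocalHom (algebraMap (X.presheaf.stalk (f y)) (Y.presheaf.stalk y)) :=
    inferInstanceAs (IsLocalHom (f.stalkMap y).hom)
  rw [← EGA4Alg4.depth_baseChange_eq (B := Y.presheaf.stalk y)
    Algebra.FormallyUnramified.map_maximalIdeal (X.presheaf.stalk (f y))]
  exact (EGA4Alg4.depth_eq_of_equiv (TensorProduct.AlgebraTensorModule.rid _ _ _)).symm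

set_option backward.isDefEq.respectTransparency.types false in
/-- Functions extend uniquely over a closed subset along which the depth is at least two. -/
theorem appTop_bijective_of_depth [IsLocallyNoetherian X] (j : Y ⟶ X) [IsOpenImmersion j]
    (h : ∀ x : X, x ∉ Set.range j → (2 : ℕ∞) ≤ LocCoh.depth (X.presheaf.stalk x) (X.presheaf.stalk x)) :
    Function.Bijective j.appTop := by
  have h1 := Div89.res_bijective_of_depth_two (Coh.structureModule X)
    Crv77.isCoh_structureModule j.opensRange (fun x hx =>
      (h x hx).trans (EGA4Alg4.depth_eq_of_equiv (QC70.unitStalkEquiv x)).le) ⊤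
  have key : ∀ V : X.Opens, ⊤ ⊓ j.opensRange = V →
      Function.Bijective (X.presheaf.map (homOfLE (le_top : V ≤ ⊤)).op) := by
    rintro _ rfl; exact h1
  have h2 : Function.Bijective j.opensRange.ι.appTop := by
    rw [Scheme.Opens.ι_appTop]
    exact key _ (by rw [Scheme.Opens.ι_image_top, top_inf_eq])
  rw [← j.isoOpensRange_hom_ι, Scheme.Hom.comp_appTop]
  have : IsIso j.isoOpensRange.hom.appTop := inferInstanceAs (IsIso (j.isoOpensRange.hom.app ⊤))
  exact (ConcreteCategory.bijective_of_isIso j.isoOpensRange.hom.appTop).comp h2

set_option backward.isDefEq.respectTransparency.types false in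
/-- Restriction of covers to an open is fully faithful if the depth is at least two outside. -/
theorem fullyFaithful_of_depth [IsLocallyNoetherian X] (U : X.Opens)
    (h : ∀ x : X, x ∉ U → (2 : ℕ∞) ≤ LocCoh.depth (X.presheaf.stalk x) (X.presheaf.stalk x)) :
    (FEt.restrict U.ι).Full ∧ (FEt.restrict U.ι).Faithful := by
  refine fullyFaithful_of_appTop_bijective U.ι fun T => ?_
  have : Etale T.hom := T.prop.2
  have : IsLocallyNoetherian T.left := @LocallyOfFiniteType.isLocallyNoetherian _ _ T.hom inferInstance ‹IsLocallyNoetherian X›
  have key := @appTop_bijective_of_depth T.left _ ‹IsLocallyNoetherian T.left› (pullback.fst T.hom U.ι)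
    inferInstance
  refine key fun t ht => ?_
  refine (h _ fun hU => ht ?_).trans
    (@depth_stalk_of_etale X T.left ‹IsLocallyNoetherian X› T.hom inferInstance t).ge
  obtain ⟨z, hz⟩ := exists_point T (f := U.ι) (y := t) (x := ⟨T.hom t, hU⟩) rfl
  exact ⟨z, hz⟩

set_option backward.isDefEq.respectTransparency.types false in
/-- The depth of the local ring of `Spec R` at a prime is that of the localization. -/
theorem depth_stalk_Spec (R : Type u) [CommRing R] [IsNoetherianRing R] (x : PrimeSpectrum R) :
    LocCoh.depth ((Spec (CommRingCat.of R)).presheaf.stalk x)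
      ((Spec (CommRingCat.of R)).presheaf.stalk x) =
    LocCoh.depth (Localization.AtPrime x.asIdeal) (Localization.AtPrime x.asIdeal) := by
  let _ : Algebra R ((Spec (CommRingCat.of R)).presheaf.stalk x) := StructureSheaf.stalkAlgebra R x
  have : IsLocalization.AtPrime ((Spec (CommRingCat.of R)).presheaf.stalk x) x.asIdeal :=
    StructureSheaf.IsLocalization.to_stalk R x
  exact CAlg1.depth_eq_of_ringEquiv (IsLocalization.algEquiv x.asIdeal.primeCompl
    ((Spec (CommRingCat.of R)).presheaf.stalk x) (Localization.AtPrime x.asIdeal)).toRingEquiv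

set_option backward.isDefEq.respectTransparency.types false in
/-- The depth of the local ring of a local scheme at its closed point. -/
theorem depth_stalk_closedPoint (A : Type u) [CommRing A] [IsNoetherianRing A] [IsLocalRing A] :
    LocCoh.depth ((Spec (CommRingCat.of A)).presheaf.stalk (IsLocalRing.closedPoint A))
      ((Spec (CommRingCat.of A)).presheaf.stalk (IsLocalRing.closedPoint A)) =
    LocCoh.depth A A :=
  (depth_stalk_Spec A (IsLocalRing.closedPoint A)).trans (CAlg1.depth_eq_of_ringEquiv
    (IsLocalization.atUnits A (IsLocalRing.maximalIdeal A).primeCompl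
      (S := Localization.AtPrime (IsLocalRing.maximalIdeal A)) fun a ha => by
        exact of_not_not ha).toRingEquiv).symm

end Groth.Agent.FEt83
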