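import Mathlib.RingTheory.TotallySplit
import Mathlib.RingTheory.Flat.FaithfullyFlat.Basic
import Mathlib.RingTheory.Flat.Localization
import Mathlib.RingTheory.LocalRing.Module

/-!
# The difference of two homomorphisms of finite étale algebras has flat cokernel

For two maps `f g : A →ₐ[R] B` of finite étale algebras, the module `B ⧸ range (f - g)` is flat.
After a faithfully flat base change and localisation, `f - g` is an incidence map of a finite graph.
-/

universe u

open TensorProduct

namespace Groth.Agent.FEt83

section Incidence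

variable (T : Type u) [CommRing T] {κ : Type*} [DecidableEq κ]

/-- The incidence map `x ↦ (x (α j) - x (β j))_j` of the graph with edges `j ↦ (α j, β j)`. -/
def incidence {ι : Type*} (α β : ι → κ) : (κ → T) →ₗ[T] (ι → T) :=
  LinearMap.pi fun j =>
    (LinearMap.proj (R := T) (φ := fun _ : κ => T) (α j)) -
      LinearMap.proj (R := T) (φ := fun _ : κ => T) (β j)

omit [DecidableEq κ] in
@[simp]
theorem incidence_apply {ι : Type*} (α β : ι → κ) (x : κ → T) (j : ι) :
    incidence T α β x j = x (α j) - x (β j) := rfl

theorem free_coker_incidence_aux : ∀ (n : ℕ) (ι : Type) [Fintype ι], Fintype.card ι = n →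
    ∀ (α β : ι → κ), Module.Free T ((ι → T) ⧸ LinearMap.range (incidence T α β)) := by
  classical
  intro n
  induction n with
  | zero =>
    intro ι _ h α β
    have : IsEmpty ι := Fintype.card_eq_zero_iff.mp h
    infer_instance
  | succ n ih =>
    intro ι _ h α β
    by_cases he : ∀ j, α j = β j
    · have : incidence T α β = 0 := by
        ext x j
        simp [he j]
      rw [this, LinearMap.range_zero]
      exact Module.Free.of_equiv (Submodule.quotEquivOfEqBot _ rfl).symm
    obtain ⟨j₀, hj₀⟩ := not_forall.mp he
    let v := β j₀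
    let e : κ → T := Pi.single v 1
    let r : κ → κ := fun w => if w = v then α j₀ else w
    let π : (ι → T) →ₗ[T] ({j : ι // j ≠ j₀} → T) :=
      LinearMap.pi fun j => LinearMap.proj (j : ι) +
        (incidence T α β e j) • LinearMap.proj j₀
    have hπ (y : ι → T) (j : {j : ι // j ≠ j₀}) :
        π y j = y j + incidence T α β e j * y j₀ := rfl
    have he0 : incidence T α β e j₀ = -1 := by
      simp [e, v, hj₀]
    have hcomp : π ∘ₗ incidence T α β = incidence T (fun j => r (α j.1)) (fun j => r (β j.1)) := by
      refine LinearMap.ext fun x => funext fun j => ?_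
      rw [LinearMap.comp_apply, hπ]
      simp only [incidence_apply, e, r, Pi.single_apply]
      split_ifs <;> simp_all [v] <;> ring
    have hsurj : Function.Surjective π := fun z =>
      ⟨fun j => if h : j = j₀ then 0 else z ⟨j, h⟩, funext fun j => by simp [hπ, j.2]⟩
    have hker : LinearMap.ker π ≤ LinearMap.range (incidence T α β) := by
      intro y hy
      refine ⟨(- y j₀) • e, ?_⟩
      rw [map_smul]
      funext j
      rw [Pi.smul_apply, smul_eq_mul]
      by_cases hj : j = j₀
      · rw [hj, he0]; simp
      · have := congrFun (LinearMap.mem_ker.mp hy) ⟨j, hj⟩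
        rw [hπ] at this
        rw [eq_neg_of_add_eq_zero_left this]
        ring
    have hcard : Fintype.card {j : ι // j ≠ j₀} = n := by
      simp [Fintype.card_subtype_compl, h]
    have := ih {j : ι // j ≠ j₀} hcard (fun j => r (α j.1)) (fun j => r (β j.1))
    rw [← hcomp, LinearMap.range_comp] at this
    let Q := (Submodule.map π (LinearMap.range (incidence T α β))).mkQ ∘ₗ π
    have hQs : Function.Surjective Q := (Submodule.mkQ_surjective _).comp hsurj
    have hQk : LinearMap.ker Q = LinearMap.range (incidence T α β) := by
      rw [LinearMap.ker_comp, Submodule.ker_mkQ, Submodule.comap_map_eq,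
        sup_eq_left.mpr hker]
    exact Module.Free.of_equiv
      ((Submodule.quotEquivOfEq _ _ hQk.symm).trans (Q.quotKerEquivOfSurjective hQs)).symm

/-- The cokernel of an incidence map of a finite graph is free. -/
theorem free_coker_incidence (n : ℕ) (α β : Fin n → κ) :
    Module.Free T ((Fin n → T) ⧸ LinearMap.range (incidence T α β)) :=
  free_coker_incidence_aux T n (Fin n) (Fintype.card_fin n) α β

/-- An algebra homomorphism `(κ → T) → T` over a local ring is an evaluation. -/
theorem exists_eq_eval [Fintype κ] [IsLocalRing T] (f : (κ → T) →ₐ[T] T) :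
    ∃ k, ∀ x, f x = x k := by
  classical
  have hsum : ∑ k, f (Pi.single k 1) = 1 := by
    rw [← map_sum, Finset.univ_sum_single (fun _ => (1 : T))]
    exact map_one f
  obtain ⟨k, hk⟩ : ∃ k, IsUnit (f (Pi.single k 1)) := by
    by_contra h
    have hm : ∀ k, f (Pi.single k 1) ∈ IsLocalRing.maximalIdeal T := fun k hu => h ⟨k, hu⟩
    exact (IsLocalRing.maximalIdeal.isMaximal T).ne_top
      ((Ideal.eq_top_iff_one _).mpr (hsum ▸ Ideal.sum_mem _ fun k _ => hm k))
  refine ⟨k, fun x => ?_⟩
  have hmul : x * Pi.single k 1 = algebraMap T (κ → T) (x k) * Pi.single k 1 := by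
    funext w
    by_cases hw : w = k <;> simp [hw]
  have := congrArg f hmul
  rw [map_mul, map_mul, AlgHom.commutes] at this
  simpa using hk.mul_right_cancel this

end Incidence

section Flat

variable {R : Type u} [CommRing R]

/-- The linear map `f - g`. -/
abbrev diff {A B : Type u} [CommRing A] [CommRing B] [Algebra R A] [Algebra R B]
    (f g : A →ₐ[R] B) : A →ₗ[R] B :=
  f.toLinearMap - g.toLinearMap

theorem flat_coker_of_local_split [IsLocalRing R] {A B : Type u} [CommRing A] [CommRing B]
    [Algebra R A] [Algebra R B] [Algebra.IsFiniteSplit R A] [Algebra.IsFiniteSplit R B]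
    (f g : A →ₐ[R] B) : Module.Flat R (B ⧸ LinearMap.range (diff f g)) := by
  obtain ⟨m, ⟨eA⟩⟩ := Algebra.IsFiniteSplit.nonempty_algEquiv_fun R A
  obtain ⟨n, ⟨eB⟩⟩ := Algebra.IsFiniteSplit.nonempty_algEquiv_fun R B
  choose α hα using fun j => exists_eq_eval R
    ((Pi.evalAlgHom R (fun _ : Fin n => R) j).comp ((eB.toAlgHom.comp f).comp eA.symm.toAlgHom))
  choose β hβ using fun j => exists_eq_eval R
    ((Pi.evalAlgHom R (fun _ : Fin n => R) j).comp ((eB.toAlgHom.comp g).comp eA.symm.toAlgHom))
  have h : incidence R α β =
      eB.toLinearMap ∘ₗ diff f g ∘ₗ eA.symm.toLinearMap := by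
    refine LinearMap.ext fun x => funext fun j => ?_
    rw [incidence_apply, ← hα j x, ← hβ j x]
    simp [diff, map_sub]
  have := free_coker_incidence R n α β
  have hr : (LinearMap.range (diff f g)).map eB.toLinearEquiv.toLinearMap
      = LinearMap.range (incidence R α β) := by
    rw [h, LinearMap.range_comp, LinearMap.range_comp,
      show LinearMap.range eA.symm.toLinearMap = ⊤ from
        LinearMap.range_eq_top.mpr eA.symm.surjective, Submodule.map_top]
  exact Module.Flat.of_linearEquiv (Submodule.Quotient.equiv _ _ eB.toLinearEquiv hr)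

/-- Flatness of the cokernel of `f - g` after base change is flatness after tensoring it. -/
theorem flat_tensor_coker (S : Type u) [CommRing S] [Algebra R S] {A B : Type u} [CommRing A]
    [CommRing B] [Algebra R A] [Algebra R B] (f g : A →ₐ[R] B)
    (h : Module.Flat S ((S ⊗[R] B) ⧸ LinearMap.range
      (diff (Algebra.TensorProduct.map (AlgHom.id S S) f)
        (Algebra.TensorProduct.map (AlgHom.id S S) g)))) :
    Module.Flat S (S ⊗[R] (B ⧸ LinearMap.range (diff f g))) := by
  let π := (LinearMap.range (diff f g)).mkQ.baseChange S
  have hs : Function.Surjective π := by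
    rw [LinearMap.baseChange_eq_ltensor]
    exact LinearMap.lTensor_surjective S (Submodule.mkQ_surjective _)
  have hd : (diff (Algebra.TensorProduct.map (AlgHom.id S S) f)
      (Algebra.TensorProduct.map (AlgHom.id S S) g)) = (diff f g).baseChange S := by
    ext a
    simp [diff, LinearMap.sub_apply]
  have hex : Function.Exact ((diff f g).baseChange S) π := by
    rw [LinearMap.baseChange_eq_ltensor, LinearMap.baseChange_eq_ltensor]
    exact lTensor_exact S (LinearMap.exact_map_mkQ_range _) (Submodule.mkQ_surjective _)
  rw [hd] at h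
  exact Module.Flat.of_linearEquiv (M := (S ⊗[R] B) ⧸ LinearMap.range ((diff f g).baseChange S))
    ((Submodule.quotEquivOfEq _ _ hex.linearMap_ker_eq.symm).trans
      (π.quotKerEquivOfSurjective hs)).symm

/-- Flatness descends from all localisations at maximal ideals. -/
theorem flat_of_forall_localization (M : Type u) [AddCommGroup M] [Module R M]
    (h : ∀ (P : Ideal R) [P.IsMaximal],
      Module.Flat (Localization.AtPrime P) (Localization.AtPrime P ⊗[R] M)) :
    Module.Flat R M :=
  Module.flat_of_localized_maximal M fun P _ =>
    have := h P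
    have : Module.Flat R (Localization.AtPrime P) := IsLocalization.flat _ P.primeCompl
    have : Module.Flat R (Localization.AtPrime P ⊗[R] M) :=
      Module.Flat.trans R (Localization.AtPrime P) _
    Module.Flat.of_linearEquiv
      ((LocalizedModule.equivTensorProduct P.primeCompl M).restrictScalars R)

theorem flat_coker_of_split {A B : Type u} [CommRing A] [CommRing B] [Algebra R A] [Algebra R B]
    [Algebra.IsFiniteSplit R A] [Algebra.IsFiniteSplit R B] (f g : A →ₐ[R] B) :
    Module.Flat R (B ⧸ LinearMap.range (diff f g)) :=
  flat_of_forall_localization _ fun _ _ =>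
    flat_tensor_coker _ f g (flat_coker_of_local_split _ _)

theorem flat_coker_of_rank_right {A B : Type u} [CommRing A] [CommRing B] [Algebra R A]
    [Algebra R B] [Algebra.IsFiniteSplit R A] [Algebra.Etale R B] [Module.Finite R B] {n : ℕ}
    (hn : Module.rankAtStalk (R := R) B = n) (f g : A →ₐ[R] B) :
    Module.Flat R (B ⧸ LinearMap.range (diff f g)) := by
  obtain ⟨T, _, _, _, _, _, _⟩ := Algebra.IsFiniteSplit.exists_tensorProduct_of_etale hn
  have := flat_tensor_coker T f g (flat_coker_of_split _ _)
  exact Module.Flat.of_flat_tensorProduct _ _ T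

theorem flat_coker_of_rank {A B : Type u} [CommRing A] [CommRing B] [Algebra R A] [Algebra R B]
    [Algebra.Etale R A] [Module.Finite R A] [Algebra.Etale R B] [Module.Finite R B] {m n : ℕ}
    (hm : Module.rankAtStalk (R := R) A = m) (hn : Module.rankAtStalk (R := R) B = n)
    (f g : A →ₐ[R] B) :
    Module.Flat R (B ⧸ LinearMap.range (diff f g)) := by
  obtain ⟨T, _, _, _, _, _, _⟩ := Algebra.IsFiniteSplit.exists_tensorProduct_of_etale hm
  have hnT : Module.rankAtStalk (R := T) (T ⊗[R] B) = n := by
    ext p
    rw [Module.rankAtStalk_baseChange, hn]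
    rfl
  have := flat_tensor_coker T f g (flat_coker_of_rank_right hnT _ _)
  exact Module.Flat.of_flat_tensorProduct _ _ T

theorem rankAtStalk_const_of_isLocalRing [IsLocalRing R] (B : Type u) [CommRing B] [Algebra R B]
    [Algebra.Etale R B] [Module.Finite R B] :
    Module.rankAtStalk (R := R) B = Module.finrank R B :=
  have : Module.Free R B := Module.free_of_flat_of_isLocalRing
  Module.rankAtStalk_eq_finrank_of_free

/-- For homomorphisms of finite étale algebras, the cokernel of `f - g` is flat. -/
theorem flat_coker {A B : Type u} [CommRing A] [CommRing B] [Algebra R A] [Algebra R B]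
    [Algebra.Etale R A] [Module.Finite R A] [Algebra.Etale R B] [Module.Finite R B]
    (f g : A →ₐ[R] B) : Module.Flat R (B ⧸ LinearMap.range (diff f g)) :=
  flat_of_forall_localization _ fun _ _ =>
    flat_tensor_coker _ f g (flat_coker_of_rank (rankAtStalk_const_of_isLocalRing _)
      (rankAtStalk_const_of_isLocalRing _) _ _)

end Flat

end Groth.Agent.FEt83
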