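import Mathlib.RingTheory.Etale.Field
import Mathlib.RingTheory.Smooth.Fiber
import Mathlib.RingTheory.Flat.Equalizer
import Mathlib.RingTheory.Finiteness.ModuleFinitePresentation
import Mathlib.FieldTheory.Perfect
import Groth.Agent.FEt83.Incidence

/-!
# Equalizers of finite étale algebras are finite étale and commute with base change
-/

universe u

open TensorProduct

namespace Groth.Agent.FEt83

variable {R : Type u} [CommRing R] {A B : Type u} [CommRing A] [CommRing B] [Algebra R A]
  [Algebra R B]

/-- A finite algebra, finitely presented as an algebra, is finitely presented as a module. -/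
theorem modFP (B : Type u) [CommRing B] [Algebra R B] [Algebra.Etale R B] [Module.Finite R B] :
    Module.FinitePresentation R B :=
  have : Algebra.FinitePresentation R B := inferInstance
  Module.FinitePresentation.of_finite_of_finitePresentation R B

/-- A finite étale algebra is projective. -/
theorem modProj (B : Type u) [CommRing B] [Algebra R B] [Algebra.Etale R B] [Module.Finite R B] :
    Module.Projective R B :=
  have := modFP (R := R) B
  Module.Flat.projective_of_finitePresentation

variable [Algebra.Etale R A] [Module.Finite R A] [Algebra.Etale R B] [Module.Finite R B]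
  (f g : A →ₐ[R] B)

/-- `f - g` has a generalised inverse. -/
theorem exists_quasiInverse : ∃ h : B →ₗ[R] A, diff f g ∘ₗ h ∘ₗ diff f g = diff f g := by
  let D := diff f g
  have := modFP (R := R) B
  have := modProj (R := R) B
  have := flat_coker f g
  have : Module.FinitePresentation R (B ⧸ LinearMap.range D) :=
    Module.finitePresentation_of_surjective _ (Submodule.mkQ_surjective (LinearMap.range D))
      (by rw [Submodule.ker_mkQ, LinearMap.range_eq_map]; exact Module.Finite.fg_top.map _)
  have : Module.Projective R (B ⧸ LinearMap.range D) :=
    Module.Flat.projective_of_finitePresentation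
  obtain ⟨s, hs⟩ := Module.projective_lifting_property (LinearMap.range D).mkQ LinearMap.id
    (Submodule.mkQ_surjective _)
  let p : B →ₗ[R] LinearMap.range D :=
    (LinearMap.id - s ∘ₗ (LinearMap.range D).mkQ).codRestrict (LinearMap.range D) fun b => by
      rw [← Submodule.Quotient.mk_eq_zero]
      have := LinearMap.congr_fun hs (Submodule.Quotient.mk b)
      simp only [LinearMap.comp_apply, Submodule.mkQ_apply, LinearMap.id_apply] at this
      simp [this]
  have hp : p ∘ₗ (LinearMap.range D).subtype = LinearMap.id := by
    ext ⟨b, hb⟩
    have : (LinearMap.range D).mkQ b = 0 := (Submodule.Quotient.mk_eq_zero _).mpr hb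
    simp [p, (Submodule.Quotient.mk_eq_zero _).mpr hb]
  have : Module.Projective R (LinearMap.range D) := Module.Projective.of_split _ p hp
  obtain ⟨t, ht⟩ := Module.projective_lifting_property D.rangeRestrict LinearMap.id
    D.surjective_rangeRestrict
  refine ⟨t ∘ₗ p, LinearMap.ext fun a => ?_⟩
  have h1 : p (D a) = D.rangeRestrict a := LinearMap.congr_fun hp (D.rangeRestrict a)
  have h2 := congrArg Subtype.val (LinearMap.congr_fun ht (D.rangeRestrict a))
  show D (t (p (D a))) = D a
  rw [h1]
  exact h2

omit [Algebra.Etale R A] [Module.Finite R A] [Algebra.Etale R B] [Module.Finite R B] in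
theorem mem_equalizer_iff_diff (x : A) : x ∈ AlgHom.equalizer f g ↔ diff f g x = 0 := by
  simp [diff, sub_eq_zero]

/-- The equalizer is a linear retract of the source. -/
theorem exists_retraction : ∃ r : A →ₗ[R] AlgHom.equalizer f g,
    (∀ x, r x.1 = x) ∧
      ∀ (S : Type u) [CommRing S] [Algebra R S] (z : S ⊗[R] A),
        (diff f g).baseChange S z = 0 →
          (AlgHom.equalizer f g).val.toLinearMap.baseChange S (r.baseChange S z) = z := by
  obtain ⟨h, hh⟩ := exists_quasiInverse f g
  let e : A →ₗ[R] A := LinearMap.id - h ∘ₗ diff f g
  have he (a : A) : e a ∈ AlgHom.equalizer f g := by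
    rw [mem_equalizer_iff_diff, show e a = a - h (diff f g a) from rfl, map_sub,
      show diff f g (h (diff f g a)) = diff f g a from LinearMap.congr_fun hh a, sub_self]
  refine ⟨e.codRestrict (Subalgebra.toSubmodule (AlgHom.equalizer f g)) he,
    fun x => Subtype.ext ?_, fun S _ _ z hz => ?_⟩
  · show x.1 - h (diff f g x.1) = x.1
    rw [(mem_equalizer_iff_diff f g x.1).mp x.2]; simp
  · rw [← LinearMap.comp_apply, ← LinearMap.baseChange_comp]
    show e.baseChange S z = z
    simp only [e, LinearMap.baseChange_sub, LinearMap.baseChange_comp, LinearMap.sub_apply,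
      LinearMap.comp_apply] at hz ⊢
    rw [hz, map_zero, sub_zero, LinearMap.baseChange_id, LinearMap.id_apply]

theorem finite_equalizer : Module.Finite R (AlgHom.equalizer f g) := by
  obtain ⟨r, hr, -⟩ := exists_retraction f g
  exact Module.Finite.of_surjective r fun x => ⟨x.1, hr x⟩

theorem projective_equalizer : Module.Projective R (AlgHom.equalizer f g) := by
  obtain ⟨r, hr, -⟩ := exists_retraction f g
  have := modProj (R := R) A
  exact Module.Projective.of_split (AlgHom.equalizer f g).val.toLinearMap r (LinearMap.ext hr)

/-- The base change of the inclusion of the equalizer is injective and has the equalizer as its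
image. -/
theorem baseChange_equalizer (S : Type u) [CommRing S] [Algebra R S] :
    Function.Injective (Algebra.TensorProduct.map (AlgHom.id S S) (AlgHom.equalizer f g).val) ∧
      ∀ z : S ⊗[R] A, z ∈ (Algebra.TensorProduct.map (AlgHom.id S S)
          (AlgHom.equalizer f g).val).range ↔
        Algebra.TensorProduct.map (AlgHom.id S S) f z =
          Algebra.TensorProduct.map (AlgHom.id S S) g z := by
  obtain ⟨r, hr, hr'⟩ := exists_retraction f g
  have hv : (Algebra.TensorProduct.map (AlgHom.id S S) (AlgHom.equalizer f g).val).toLinearMap =
      (AlgHom.equalizer f g).val.toLinearMap.baseChange S := by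
    ext; simp
  have hd (z : S ⊗[R] A) : (diff f g).baseChange S z =
      Algebra.TensorProduct.map (AlgHom.id S S) f z -
        Algebra.TensorProduct.map (AlgHom.id S S) g z := by
    induction z with
    | zero => simp
    | tmul s a => simp [diff]
    | add x y hx hy => simp only [map_add, hx, hy]; abel
  refine ⟨?_, fun z => ⟨?_, fun hz => ?_⟩⟩
  · apply Function.LeftInverse.injective (g := r.baseChange S)
    intro z
    have := LinearMap.congr_fun hv z
    rw [AlgHom.toLinearMap_apply] at this
    rw [this, ← LinearMap.comp_apply, ← LinearMap.baseChange_comp,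
      show r ∘ₗ (AlgHom.equalizer f g).val.toLinearMap = LinearMap.id from LinearMap.ext hr]
    simp
  · rintro ⟨w, rfl⟩
    induction w with
    | zero => simp
    | tmul s a => exact congrArg (fun b => s ⊗ₜ[R] b) a.2
    | add x y hx hy => simp only [map_add, hx, hy]
  · refine ⟨r.baseChange S z, ?_⟩
    exact (LinearMap.congr_fun hv _).trans (hr' S z (by rw [hd, hz, sub_self]))

/-- A finite reduced algebra over an algebraically closed field is formally unramified. -/
theorem formallyUnramified_of_isReduced (K C : Type u) [Field K] [IsAlgClosed K] [CommRing C]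
    [Algebra K C] [Module.Finite K C] [IsReduced C] : Algebra.FormallyUnramified K C := by
  have : IsArtinianRing C := isArtinian_of_tower K inferInstance
  let _ (I : MaximalSpectrum C) : Field (C ⧸ I.asIdeal) := Ideal.Quotient.field _
  have (I : MaximalSpectrum C) : Algebra.FormallyEtale K (C ⧸ I.asIdeal) := by
    have : Module.Finite K (C ⧸ I.asIdeal) := inferInstance
    exact Algebra.FormallyEtale.of_isSeparable K _
  have : Algebra.FormallyEtale K C :=
    .of_equiv ((IsArtinianRing.equivPi C).restrictScalars K).symm
  infer_instance

/-- The equalizer of two maps of finite étale algebras is étale. -/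
theorem etale_equalizer : Algebra.Etale R (AlgHom.equalizer f g) := by
  let E := AlgHom.equalizer f g
  have : Module.Finite R E := finite_equalizer f g
  have : Module.Projective R E := projective_equalizer f g
  have : Module.FinitePresentation R E := Module.finitePresentation_of_projective R E
  have : Module.Finite E Ω[E⁄R] := inferInstance
  have : Module.Finite R Ω[E⁄R] := Module.Finite.trans E _
  have hunr : Algebra.FormallyUnramified R E := by
    refine ⟨not_nontrivial_iff_subsingleton.mp fun hn => ?_⟩
    obtain ⟨p, hp⟩ := Module.nonempty_support_of_nontrivial (R := R) (M := Ω[E⁄R])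
    rw [Module.mem_support_iff_nontrivial_residueField_tensorProduct] at hp
    let κ := p.asIdeal.ResidueField
    let K := AlgebraicClosure κ
    let _ : Algebra E (K ⊗[R] E) := Algebra.TensorProduct.rightAlgebra
    have : Algebra.Etale K (K ⊗[R] A) := inferInstance
    have : IsReduced (K ⊗[R] A) := Algebra.FormallyUnramified.isReduced_of_field K _
    have : IsReduced (K ⊗[R] E) := isReduced_of_injective
      (Algebra.TensorProduct.map (AlgHom.id K K) E.val) (baseChange_equalizer f g K).1
    have : Algebra.FormallyUnramified K (K ⊗[R] E) := formallyUnramified_of_isReduced K _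
    have hK : Subsingleton (K ⊗[R] Ω[E⁄R]) :=
      (KaehlerDifferential.tensorKaehlerEquivBase R K E (K ⊗[R] E)).subsingleton
    have : Subsingleton (K ⊗[κ] (κ ⊗[R] Ω[E⁄R])) :=
      (AlgebraTensorModule.cancelBaseChange R κ K K Ω[E⁄R]).subsingleton
    exact not_nontrivial_iff_subsingleton.mpr
      (Module.FaithfullyFlat.lTensor_reflects_triviality κ K _) hp
  exact Algebra.Etale.of_formallyUnramified_of_flat

end Groth.Agent.FEt83
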