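import Mathlib.RingTheory.IsTensorProduct
import Mathlib.RingTheory.RingHom.Etale
import Mathlib.RingTheory.RingHom.Finite
import Mathlib.RingTheory.Localization.Away.Basic
import Groth.Agent.FEt83.Equalizer

/-!
# Equalizers of ring maps: finite étaleness, localisation, base change
-/

universe u

open TensorProduct

namespace Groth.Agent.FEt83

variable {E B A : Type u} [CommRing E] [CommRing B] [CommRing A]

/-- `π` is an equalizer of `a` and `b`. -/
structure IsEqz (π : E →+* B) (a b : B →+* A) : Prop where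
  inj : Function.Injective π
  iff : ∀ y, a y = b y ↔ y ∈ Set.range π

theorem IsEqz.comp_eq {π : E →+* B} {a b : B →+* A} (h : IsEqz π a b) : a.comp π = b.comp π :=
  RingHom.ext fun x => (h.iff _).mpr ⟨x, rfl⟩

theorem isEqz_eqLocus (a b : B →+* A) : IsEqz (a.eqLocus b).subtype a b :=
  ⟨Subtype.val_injective, fun y => ⟨fun h => ⟨⟨y, h⟩, rfl⟩, by rintro ⟨x, rfl⟩; exact x.2⟩⟩

theorem IsEqz.exists_lift {π : E →+* B} {a b : B →+* A} (h : IsEqz π a b) {C : Type u}
    [CommRing C] (χ : C →+* B) (hχ : a.comp χ = b.comp χ) :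
    ∃! χ' : C →+* E, π.comp χ' = χ := by
  choose φ hφ using fun c => (h.iff (χ c)).mp (RingHom.congr_fun hχ c)
  refine ⟨⟨⟨⟨φ, ?_⟩, ?_⟩, ?_, ?_⟩, RingHom.ext hφ, fun ψ hψ => RingHom.ext fun c => h.inj ?_⟩
  · exact h.inj (by simp [hφ])
  · exact fun x y => h.inj (by simp [hφ])
  · exact h.inj (by simp [hφ])
  · exact fun x y => h.inj (by simp [hφ])
  · exact (RingHom.congr_fun hψ c).trans (hφ c).symm

theorem IsEqz.bijective {π : E →+* B} {a b : B →+* A} (h : IsEqz π a b) {E' : Type u} [CommRing E']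
    {π' : E' →+* B} (h' : IsEqz π' a b) (φ : E →+* E') (hφ : π'.comp φ = π) :
    Function.Bijective φ := by
  refine ⟨fun x y hxy => h.inj ?_, fun z => ?_⟩
  · rw [← hφ, RingHom.comp_apply, RingHom.comp_apply, hxy]
  · obtain ⟨x, hx⟩ := (h.iff (π' z)).mp ((h'.iff _).mpr ⟨z, rfl⟩)
    exact ⟨x, h'.inj ((RingHom.congr_fun hφ x).trans hx)⟩

/-- The ring map from the base to the equalizer of two maps over the base is finite étale. -/
theorem finite_etale_lift {R : Type u} [CommRing R] (φ : R →+* B) (a b : B →+* A)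
    (hab : a.comp φ = b.comp φ) (hB : φ.Finite ∧ φ.Etale)
    (hA : (a.comp φ).Finite ∧ (a.comp φ).Etale) :
    (φ.codRestrict (a.eqLocus b) (RingHom.congr_fun hab)).Finite ∧
      (φ.codRestrict (a.eqLocus b) (RingHom.congr_fun hab)).Etale := by
  obtain ⟨hB1, hB2⟩ := hB
  obtain ⟨hA1, hA2⟩ := hA
  let _ : Algebra R B := φ.toAlgebra
  let _ : Algebra R A := (a.comp φ).toAlgebra
  have : Module.Finite R B := hB1
  have : Algebra.Etale R B := hB2
  have : Module.Finite R A := hA1
  have : Algebra.Etale R A := hA2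
  let f : B →ₐ[R] A := ⟨a, fun r => rfl⟩
  let g : B →ₐ[R] A := ⟨b, fun r => (RingHom.congr_fun hab r).symm⟩
  have h1 := finite_equalizer f g
  have h2 := etale_equalizer f g
  let _ : Algebra R (a.eqLocus b) := (φ.codRestrict (a.eqLocus b) (RingHom.congr_fun hab)).toAlgebra
  let e : AlgHom.equalizer f g ≃ₐ[R] a.eqLocus b :=
    { toFun x := ⟨x.1, x.2⟩
      invFun x := ⟨x.1, x.2⟩
      left_inv _ := rfl
      right_inv _ := rfl
      map_mul' _ _ := rfl
      map_add' _ _ := rfl
      commutes' _ := rfl }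
  exact ⟨Module.Finite.equiv e.toLinearEquiv, Algebra.Etale.of_equiv e⟩

/-- Equalizers commute with inverting an element. -/
theorem isLocalizationAway_eqz {E' B' A' : Type u} [CommRing E'] [CommRing B'] [CommRing A']
    [Algebra E E'] [Algebra B B'] [Algebra A A'] {π : E →+* B} {a b : B →+* A}
    {π' : E' →+* B'} {a' b' : B' →+* A'} (h : IsEqz π a b) (h' : IsEqz π' a' b') (t : E)
    [IsLocalization.Away (π t) B'] [IsLocalization.Away (a (π t)) A']
    (hu : IsUnit (algebraMap E E' t))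
    (hπ : ∀ x, π' (algebraMap E E' x) = algebraMap B B' (π x))
    (ha : ∀ y, a' (algebraMap B B' y) = algebraMap A A' (a y))
    (hb : ∀ y, b' (algebraMap B B' y) = algebraMap A A' (b y)) :
    IsLocalization.Away t E' := by
  have hbt : b (π t) = a (π t) := ((h.iff _).mpr ⟨t, rfl⟩).symm
  refine (isLocalization_iff _ _).mpr ⟨fun m => ?_, fun z => ?_, fun {x y} hxy => ?_⟩
  · obtain ⟨n, hn⟩ := m.2
    rw [← hn]
    simpa using hu.pow n
  · obtain ⟨⟨y, ⟨_, n, rfl⟩⟩, hy⟩ := IsLocalization.surj (Submonoid.powers (π t)) (π' z)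
    simp only at hy
    have hz := (h'.iff _).mpr ⟨z, rfl⟩
    have h1 := congrArg a' hy
    have h2 := congrArg b' hy
    simp only [map_mul, map_pow, ha, hb, hz, hbt] at h1 h2
    rw [h1] at h2
    obtain ⟨⟨_, m, rfl⟩, hm⟩ := IsLocalization.exists_of_eq (M := Submonoid.powers (a (π t))) h2
    obtain ⟨x, hx⟩ := (h.iff (π t ^ m * y)).mp (by simpa [hbt] using hm)
    refine ⟨⟨x, ⟨t ^ (n + m), n + m, rfl⟩⟩, h'.inj ?_⟩
    simp only [map_mul, map_pow, hπ, hx, pow_add]
    rw [← hy]
    simp only [map_pow]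
    ring
  · have := congrArg π' hxy
    rw [hπ, hπ] at this
    obtain ⟨⟨_, m, rfl⟩, hm⟩ := IsLocalization.exists_of_eq (M := Submonoid.powers (π t)) this
    exact ⟨⟨t ^ m, m, rfl⟩, h.inj (by simpa using hm)⟩

/-- Equalizers of maps of finite étale algebras commute with base change. -/
theorem isEqz_baseChange {R S : Type u} [CommRing R] [CommRing S] [Algebra R S]
    {E' B' A' : Type u} [CommRing E'] [CommRing B'] [CommRing A']
    [Algebra R E] [Algebra R B] [Algebra R A] [Algebra.Etale R A] [Module.Finite R A]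
    [Algebra.Etale R B] [Module.Finite R B]
    [Algebra R E'] [Algebra S E'] [IsScalarTower R S E'] [Algebra E E'] [IsScalarTower R E E']
    [Algebra R B'] [Algebra S B'] [IsScalarTower R S B'] [Algebra B B'] [IsScalarTower R B B']
    [Algebra R A'] [Algebra S A'] [IsScalarTower R S A'] [Algebra A A'] [IsScalarTower R A A']
    [Algebra.IsPushout R S E E'] [Algebra.IsPushout R S B B'] [Algebra.IsPushout R S A A']
    (π : E →ₐ[R] B) (f g : B →ₐ[R] A) (π' : E' →ₐ[S] B') (f' g' : B' →ₐ[S] A')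
    (hπ : ∀ x, π' (algebraMap E E' x) = algebraMap B B' (π x))
    (hf : ∀ y, f' (algebraMap B B' y) = algebraMap A A' (f y))
    (hg : ∀ y, g' (algebraMap B B' y) = algebraMap A A' (g y))
    (h : IsEqz (π : E →+* B) (f : B →+* A) (g : B →+* A)) :
    IsEqz (π' : E' →+* B') (f' : B' →+* A') (g' : B' →+* A') := by
  obtain ⟨hinj, hrange⟩ := baseChange_equalizer f g S
  let eE := Algebra.IsPushout.equiv R S E E'
  let eB := Algebra.IsPushout.equiv R S B B'
  let eA := Algebra.IsPushout.equiv R S A A'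
  have nat {X Y X' Y' : Type u} [CommRing X] [CommRing Y] [CommRing X'] [CommRing Y']
      [Algebra R X] [Algebra R Y] [Algebra R X'] [Algebra R Y'] [Algebra S X'] [Algebra S Y']
      [IsScalarTower R S X'] [IsScalarTower R S Y'] [Algebra X X'] [Algebra Y Y']
      [IsScalarTower R X X'] [IsScalarTower R Y Y'] [Algebra.IsPushout R S X X']
      [Algebra.IsPushout R S Y Y'] (k : X →ₐ[R] Y) (k' : X' →ₐ[S] Y')
      (hk : ∀ x, k' (algebraMap X X' x) = algebraMap Y Y' (k x)) (z : S ⊗[R] X) :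
      k' (Algebra.IsPushout.equiv R S X X' z) =
        Algebra.IsPushout.equiv R S Y Y' (Algebra.TensorProduct.map (AlgHom.id S S) k z) := by
    induction z with
    | zero => simp
    | tmul s x => simp [Algebra.IsPushout.equiv_tmul, hk, map_mul]
    | add x y hx hy => simp only [map_add, hx, hy]
  let ι : E →ₐ[R] AlgHom.equalizer f g :=
    π.codRestrict _ fun x => (h.iff _).mpr ⟨x, rfl⟩
  have hι : Function.Bijective ι :=
    ⟨fun x y hxy => h.inj (congrArg Subtype.val hxy), fun z => by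
      obtain ⟨x, hx⟩ := (h.iff _).mp z.2
      exact ⟨x, Subtype.ext hx⟩⟩
  let eι := AlgEquiv.ofBijective ι hι
  let T := Algebra.TensorProduct.congr (AlgEquiv.refl : S ≃ₐ[S] S) eι
  have hT (z : S ⊗[R] E) : Algebra.TensorProduct.map (AlgHom.id S S) π z =
      Algebra.TensorProduct.map (AlgHom.id S S) (AlgHom.equalizer f g).val (T z) := by
    induction z with
    | zero => simp
    | tmul s x => simp only [T, eι, ι]; rfl
    | add x y hx hy => simp only [map_add, hx, hy]
  refine ⟨fun x₁ x₂ hx => ?_, fun y => ?_⟩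
  · obtain ⟨z₁, rfl⟩ := eE.surjective x₁
    obtain ⟨z₂, rfl⟩ := eE.surjective x₂
    change π' (eE z₁) = π' (eE z₂) at hx
    rw [nat π π' hπ, nat π π' hπ, hT, hT] at hx
    rw [T.injective (hinj (eB.injective hx))]
  · obtain ⟨z, rfl⟩ := eB.surjective y
    show f' (eB z) = g' (eB z) ↔ _
    rw [nat f f' hf, nat g g' hg, eA.injective.eq_iff, ← hrange]
    constructor
    · rintro ⟨w, hw⟩
      obtain ⟨w, rfl⟩ := T.surjective w
      exact ⟨eE w, (nat π π' hπ w).trans (congrArg eB ((hT w).trans hw))⟩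
    · rintro ⟨x, hx⟩
      obtain ⟨w, rfl⟩ := eE.surjective x
      exact ⟨T w, (hT w).symm.trans (eB.injective ((nat π π' hπ w).symm.trans hx))⟩

end Groth.Agent.FEt83
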