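import Mathlib.AlgebraicGeometry.Morphisms.Affine
import Mathlib.AlgebraicGeometry.Sites.SmallAffineZariski

/-!
# Morphisms out of schemes affine over a base, through their rings of sections
-/

universe u

open CategoryTheory Limits AlgebraicGeometry Opposite Topology

namespace Groth.Agent.FEt83

variable {X Y Z W : Scheme.{u}}

theorem le_preimage {y : Y ⟶ X} {z : Z ⟶ X} (k : Y ⟶ Z) (w : k ≫ z = y) (U : X.Opens) :
    y ⁻¹ᵁ U ≤ k ⁻¹ᵁ z ⁻¹ᵁ U := by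
  rw [← Scheme.Hom.comp_preimage, w]

/-- The map on sections over an open of the base induced by a morphism over the base. -/
noncomputable def mapΓ {y : Y ⟶ X} {z : Z ⟶ X} (k : Y ⟶ Z) (w : k ≫ z = y) (U : X.Opens) :
    Γ(Z, z ⁻¹ᵁ U) ⟶ Γ(Y, y ⁻¹ᵁ U) :=
  k.appLE (z ⁻¹ᵁ U) (y ⁻¹ᵁ U) (le_preimage k w U)

theorem mapΓ_congr {y : Y ⟶ X} {z : Z ⟶ X} {k l : Y ⟶ Z} (h : k = l) (w : k ≫ z = y)
    (w' : l ≫ z = y) (U : X.Opens) : mapΓ k w U = mapΓ l w' U := by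
  subst h; rfl

theorem mapΓ_comp {y : Y ⟶ X} {z : Z ⟶ X} {v : W ⟶ X} (k : Y ⟶ Z) (l : Z ⟶ W) (wk : k ≫ z = y)
    (wl : l ≫ v = z) (U : X.Opens) :
    mapΓ l wl U ≫ mapΓ k wk U = mapΓ (k ≫ l) (by rw [Category.assoc, wl, wk]) U :=
  Scheme.Hom.appLE_comp_appLE ..

theorem app_mapΓ {y : Y ⟶ X} {z : Z ⟶ X} (k : Y ⟶ Z) (w : k ≫ z = y) (U : X.Opens) :
    z.app U ≫ mapΓ k w U = y.app U := by
  subst w
  rw [mapΓ, z.app_eq_appLE, Scheme.Hom.appLE_comp_appLE, (k ≫ z).app_eq_appLE]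

theorem mapΓ_naturality {y : Y ⟶ X} {z : Z ⟶ X} (k : Y ⟶ Z) (w : k ≫ z = y) {U V : X.Opens}
    (h : V ≤ U) :
    Z.presheaf.map (homOfLE (z.preimage_mono h)).op ≫ mapΓ k w V =
      mapΓ k w U ≫ Y.presheaf.map (homOfLE (y.preimage_mono h)).op := by
  simp [mapΓ, Scheme.Hom.appLE_map, Scheme.Hom.map_appLE]

theorem app_naturality (z : Z ⟶ X) {U V : X.Opens} (h : V ≤ U) :
    z.app U ≫ Z.presheaf.map (homOfLE (z.preimage_mono h)).op =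
      X.presheaf.map (homOfLE h).op ≫ z.app V :=
  (z.naturality (homOfLE h).op).symm

theorem fromSpec_mapΓ {y : Y ⟶ X} {z : Z ⟶ X} [IsAffineHom y] [IsAffineHom z] (k : Y ⟶ Z)
    (w : k ≫ z = y) (U : X.Opens) (hU : IsAffineOpen U) :
    Spec.map (mapΓ k w U) ≫ (hU.preimage z).fromSpec = (hU.preimage y).fromSpec ≫ k :=
  IsAffineOpen.SpecMap_appLE_fromSpec k (hU.preimage z) (hU.preimage y) _

theorem eq_mapΓ_of_fromSpec {y : Y ⟶ X} {z : Z ⟶ X} [IsAffineHom y] [IsAffineHom z] (k : Y ⟶ Z)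
    (w : k ≫ z = y) (U : X.Opens) (hU : IsAffineOpen U) (χ : Γ(Z, z ⁻¹ᵁ U) ⟶ Γ(Y, y ⁻¹ᵁ U))
    (h : (hU.preimage y).fromSpec ≫ k = Spec.map χ ≫ (hU.preimage z).fromSpec) :
    mapΓ k w U = χ :=
  Spec.map_injective ((cancel_mono (hU.preimage z).fromSpec).mp ((fromSpec_mapΓ k w U hU).trans h))

theorem iSup_preimage_affine (y : Y ⟶ X) :
    TopologicalSpace.IsOpenCover fun U : X.AffineZariskiSite => y ⁻¹ᵁ U.1 :=
  top_le_iff.mp fun x _ => by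
    obtain ⟨U, hU⟩ := TopologicalSpace.Opens.mem_iSup.mp
      ((iSup_affineOpens_eq_top X).ge (Set.mem_univ (y x)))
    exact TopologicalSpace.Opens.mem_iSup.mpr ⟨U, hU⟩

/-- Two morphisms out of `Y` agreeing on the preimages of the affine opens of `X` are equal. -/
theorem hom_ext_preimage (y : Y ⟶ X) [IsAffineHom y] {f g : Y ⟶ Z}
    (h : ∀ U : X.AffineZariskiSite,
      (U.2.preimage y).fromSpec ≫ f = (U.2.preimage y).fromSpec ≫ g) : f = g := by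
  refine (Y.openCoverOfIsOpenCover _ (iSup_preimage_affine y)).hom_ext _ _ fun U => ?_
  show (y ⁻¹ᵁ U.1).ι ≫ f = (y ⁻¹ᵁ U.1).ι ≫ g
  rw [← (U.2.preimage y).isoSpec_hom_fromSpec, Category.assoc, Category.assoc, h U]

/-- Morphisms between schemes affine over the base are determined on sections. -/
theorem hom_ext_mapΓ {y : Y ⟶ X} {z : Z ⟶ X} [IsAffineHom y] [IsAffineHom z] {k l : Y ⟶ Z}
    (wk : k ≫ z = y) (wl : l ≫ z = y)
    (h : ∀ U : X.AffineZariskiSite, mapΓ k wk U.1 = mapΓ l wl U.1) : k = l :=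
  hom_ext_preimage y fun U => by
    rw [← fromSpec_mapΓ k wk U.1 U.2, ← fromSpec_mapΓ l wl U.1 U.2, h U]

/-- A morphism out of a scheme affine over `X` may be glued from its restrictions to the preimages
of the affine opens, compatible with passing to basic opens. -/
theorem exists_glue (y : Y ⟶ X) [IsAffineHom y]
    (Φ : ∀ U : X.AffineZariskiSite, Spec Γ(Y, y ⁻¹ᵁ U.1) ⟶ Z)
    (hΦ : ∀ {V U : X.AffineZariskiSite} (h : V ≤ U),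
      Spec.map (Y.presheaf.map (homOfLE (y.preimage_mono
        (Scheme.AffineZariskiSite.toOpens_mono h))).op) ≫ Φ U = Φ V) :
    ∃ π : Y ⟶ Z, ∀ U : X.AffineZariskiSite, (U.2.preimage y).fromSpec ≫ π = Φ U := by
  let 𝒰 := Y.openCoverOfIsOpenCover _ (iSup_preimage_affine y)
  let g (U : X.AffineZariskiSite) : (y ⁻¹ᵁ U.1).toScheme ⟶ Z :=
    (U.2.preimage y).isoSpec.hom ≫ Φ U
  have hg {V U : X.AffineZariskiSite} (h : V ≤ U) :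
      Y.homOfLE (y.preimage_mono (Scheme.AffineZariskiSite.toOpens_mono h)) ≫ g U = g V := by
    simp only [g, IsAffineOpen.isoSpec_hom]
    rw [← Scheme.Opens.toSpecΓ_SpecMap_presheaf_map_assoc, hΦ h]
  have hc : ∀ U V : X.AffineZariskiSite,
      pullback.fst (y ⁻¹ᵁ U.1).ι (y ⁻¹ᵁ V.1).ι ≫ g U =
        pullback.snd (y ⁻¹ᵁ U.1).ι (y ⁻¹ᵁ V.1).ι ≫ g V := by
    intro U V
    let P := pullback (y ⁻¹ᵁ U.1).ι (y ⁻¹ᵁ V.1).ι
    let t : P ⟶ Y := pullback.fst (y ⁻¹ᵁ U.1).ι (y ⁻¹ᵁ V.1).ι ≫ (y ⁻¹ᵁ U.1).ι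
    let ι' := {W : X.AffineZariskiSite // W ≤ U ∧ W ≤ V}
    have hcov : TopologicalSpace.IsOpenCover fun W : ι' => t ⁻¹ᵁ y ⁻¹ᵁ W.1.1 := top_le_iff.mp
      fun x _ => by
        have hU : t x ∈ y ⁻¹ᵁ U.1 := by
          simp only [t, Scheme.Hom.comp_apply]
          exact (pullback.fst (y ⁻¹ᵁ U.1).ι (y ⁻¹ᵁ V.1).ι x).2
        have hV : t x ∈ y ⁻¹ᵁ V.1 := by
          simp only [t, pullback.condition, Scheme.Hom.comp_apply]
          exact (pullback.snd (y ⁻¹ᵁ U.1).ι (y ⁻¹ᵁ V.1).ι x).2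
        obtain ⟨f, f', e, hxf⟩ := exists_basicOpen_le_affine_inter U.2 V.2 (y (t x)) ⟨hU, hV⟩
        exact TopologicalSpace.Opens.mem_iSup.mpr
          ⟨⟨U.basicOpen f, U.basicOpen_le f, ⟨f', e.symm⟩⟩, hxf⟩
    refine (P.openCoverOfIsOpenCover _ hcov).hom_ext _ _ fun W => ?_
    show (t ⁻¹ᵁ y ⁻¹ᵁ W.1.1).ι ≫ _ = (t ⁻¹ᵁ y ⁻¹ᵁ W.1.1).ι ≫ _
    let s : (t ⁻¹ᵁ y ⁻¹ᵁ W.1.1).toScheme ⟶ (y ⁻¹ᵁ W.1.1).toScheme := t ∣_ (y ⁻¹ᵁ W.1.1)
    have h1 : (t ⁻¹ᵁ y ⁻¹ᵁ W.1.1).ι ≫ pullback.fst (y ⁻¹ᵁ U.1).ι (y ⁻¹ᵁ V.1).ι =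
        s ≫ Y.homOfLE (y.preimage_mono (Scheme.AffineZariskiSite.toOpens_mono W.2.1)) := by
      rw [← cancel_mono (y ⁻¹ᵁ U.1).ι, Category.assoc, Category.assoc, Scheme.homOfLE_ι,
        morphismRestrict_ι]
    have h2 : (t ⁻¹ᵁ y ⁻¹ᵁ W.1.1).ι ≫ pullback.snd (y ⁻¹ᵁ U.1).ι (y ⁻¹ᵁ V.1).ι =
        s ≫ Y.homOfLE (y.preimage_mono (Scheme.AffineZariskiSite.toOpens_mono W.2.2)) := by
      rw [← cancel_mono (y ⁻¹ᵁ V.1).ι, Category.assoc, Category.assoc, Scheme.homOfLE_ι,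
        morphismRestrict_ι, ← pullback.condition]
    rw [reassoc_of% h1, reassoc_of% h2, hg W.2.1, hg W.2.2]
  refine ⟨𝒰.glueMorphisms g hc, fun U => ?_⟩
  rw [← (U.2.preimage y).isoSpec_inv_ι, Category.assoc]
  exact (congrArg ((U.2.preimage y).isoSpec.inv ≫ ·) (𝒰.ι_glueMorphisms g hc U)).trans
    (Iso.inv_hom_id_assoc _ _)

end Groth.Agent.FEt83
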