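import Groth.Prelude.Def_FEt
import Groth.Agent.FEt83.Glue
import Groth.Agent.FEt83.EqRing

/-!
# Coequalizers of finite étale covers

For `a b : A ⟶ B` in `FEt.Cat X` the coequalizer is glued from the equalizers of the rings of
sections over the affine opens of `X`.
-/

universe u

open CategoryTheory Limits AlgebraicGeometry Opposite Topology

namespace Groth.Agent.FEt83

variable {X A B Q Z : Scheme.{u}} {p : A ⟶ X} {q : B ⟶ X} {r : Q ⟶ X}

/-- Over the open `U`, the sections of `Q` are the equalizer of those of `B` under `a` and `b`. -/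
def GoodAt (a b : A ⟶ B) (ha : a ≫ q = p) (hb : b ≫ q = p) (π : B ⟶ Q) (hπ : π ≫ r = q)
    (U : X.Opens) : Prop :=
  IsEqz (mapΓ π hπ U).hom (mapΓ a ha U).hom (mapΓ b hb U).hom

variable {a b : A ⟶ B} {ha : a ≫ q = p} {hb : b ≫ q = p}

theorem comp_eq_of_good [IsAffineHom p] [IsAffineHom r] {π : B ⟶ Q} {hπ : π ≫ r = q}
    (h : ∀ U : X.AffineZariskiSite, GoodAt a b ha hb π hπ U.1) : a ≫ π = b ≫ π := by
  refine hom_ext_mapΓ (y := p) (z := r) (by rw [Category.assoc, hπ, ha])
    (by rw [Category.assoc, hπ, hb]) fun U => ?_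
  rw [← mapΓ_comp a π ha hπ, ← mapΓ_comp b π hb hπ]
  exact CommRingCat.hom_ext (h U).comp_eq

/-- A good morphism is the coequalizer among schemes affine over the base. -/
theorem existsUnique_desc [IsAffineHom p] [IsAffineHom q] [IsAffineHom r] {π : B ⟶ Q}
    {hπ : π ≫ r = q} (h : ∀ U : X.AffineZariskiSite, GoodAt a b ha hb π hπ U.1) {z : Z ⟶ X}
    [IsAffineHom z] (k : B ⟶ Z) (hk : k ≫ z = q) (hak : a ≫ k = b ≫ k) :
    ∃! d : Q ⟶ Z, d ≫ z = r ∧ π ≫ d = k := by
  have hχ (U : X.AffineZariskiSite) : ∃! χ : Γ(Z, z ⁻¹ᵁ U.1) →+* Γ(Q, r ⁻¹ᵁ U.1),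
      (mapΓ π hπ U.1).hom.comp χ = (mapΓ k hk U.1).hom := by
    refine (h U).exists_lift _ ?_
    have := congrArg CommRingCat.Hom.hom ((mapΓ_comp a k ha hk U.1).trans
      ((mapΓ_congr hak _ (by rw [Category.assoc, hk, hb]) U.1).trans (mapΓ_comp b k hb hk U.1).symm))
    simpa using this
  choose χ hχ' using fun U => (hχ U).exists
  have hχc (U : X.AffineZariskiSite) : CommRingCat.ofHom (χ U) ≫ mapΓ π hπ U.1 = mapΓ k hk U.1 :=
    CommRingCat.hom_ext (hχ' U)
  obtain ⟨d, hd⟩ := exists_glue r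
      (fun U => Spec.map (CommRingCat.ofHom (χ U)) ≫ (U.2.preimage z).fromSpec) (by
    intro V U hVU
    have hle := Scheme.AffineZariskiSite.toOpens_mono hVU
    have hsq : CommRingCat.ofHom (χ U) ≫ Q.presheaf.map (homOfLE (r.preimage_mono hle)).op =
        Z.presheaf.map (homOfLE (z.preimage_mono hle)).op ≫ CommRingCat.ofHom (χ V) := by
      refine CommRingCat.hom_ext (RingHom.ext fun x => (h V).inj ?_)
      have h1 : (CommRingCat.ofHom (χ U) ≫ Q.presheaf.map (homOfLE (r.preimage_mono hle)).op) ≫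
          mapΓ π hπ V.1 = (Z.presheaf.map (homOfLE (z.preimage_mono hle)).op ≫
            CommRingCat.ofHom (χ V)) ≫ mapΓ π hπ V.1 := by
        rw [Category.assoc, Category.assoc, mapΓ_naturality π hπ hle, ← Category.assoc, hχc, hχc,
          mapΓ_naturality k hk hle]
      exact congr($h1 x)
    rw [← Spec.map_comp_assoc, hsq, Spec.map_comp_assoc,
      IsAffineOpen.map_fromSpec _ (V.2.preimage z)])
  have hdz : d ≫ z = r := hom_ext_preimage r fun U => by
    rw [reassoc_of% (hd U), ← IsAffineOpen.SpecMap_appLE_fromSpec z U.2 (U.2.preimage z) le_rfl,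
      ← Spec.map_comp_assoc, ← IsAffineOpen.SpecMap_appLE_fromSpec r U.2 (U.2.preimage r) le_rfl]
    congr 2
    rw [← z.app_eq_appLE, ← r.app_eq_appLE]
    refine CommRingCat.hom_ext (RingHom.ext fun x => (h U).inj ?_)
    have h1 : (z.app U.1 ≫ CommRingCat.ofHom (χ U)) ≫ mapΓ π hπ U.1 =
        r.app U.1 ≫ mapΓ π hπ U.1 := by
      rw [Category.assoc, hχc, app_mapΓ, app_mapΓ]
    exact congr($h1 x)
  have hdΓ (U : X.AffineZariskiSite) : mapΓ d hdz U.1 = CommRingCat.ofHom (χ U) :=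
    eq_mapΓ_of_fromSpec d hdz U.1 U.2 _ (hd U)
  refine ⟨d, ⟨hdz, hom_ext_mapΓ (by rw [Category.assoc, hdz, hπ]) hk fun U => ?_⟩,
    fun e he => hom_ext_mapΓ he.1 hdz fun U => ?_⟩
  · rw [← mapΓ_comp π d hπ hdz, hdΓ, hχc]
  · refine CommRingCat.hom_ext (RingHom.ext fun x => (h U).inj ?_)
    have h1 : mapΓ e he.1 U.1 ≫ mapΓ π hπ U.1 = mapΓ d hdz U.1 ≫ mapΓ π hπ U.1 := by
      rw [hdΓ, hχc, mapΓ_comp]
      exact mapΓ_congr he.2 _ _ _
    exact congr($h1 x)

/-- A morphism of good cocones is bijective on sections. -/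
theorem isIso_mapΓ_of_goodAt {Q' : Scheme.{u}} {r' : Q' ⟶ X} {π : B ⟶ Q} {hπ : π ≫ r = q}
    {π' : B ⟶ Q'} {hπ' : π' ≫ r' = q} (c : Q ⟶ Q') (hc : c ≫ r' = r) (w : π ≫ c = π')
    {U : X.Opens} (h : GoodAt a b ha hb π hπ U) (h' : GoodAt a b ha hb π' hπ' U) :
    IsIso (mapΓ c hc U) := by
  have e : mapΓ c hc U ≫ mapΓ π hπ U = mapΓ π' hπ' U :=
    (mapΓ_comp π c hπ hc U).trans (mapΓ_congr w _ _ U)
  exact (ConcreteCategory.isIso_iff_bijective _).mpr
    (h'.bijective h _ (congrArg CommRingCat.Hom.hom e))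

set_option backward.isDefEq.respectTransparency.types false in
/-- A morphism over `X` of schemes affine over `X`, bijective on sections over an affine cover,
is an isomorphism. -/
theorem isIso_of_isIso_mapΓ {Q' : Scheme.{u}} {r' : Q' ⟶ X} [IsAffineHom r] [IsAffineHom r']
    (c : Q ⟶ Q') (hc : c ≫ r' = r) {ι : Type*} (U : ι → X.Opens) (hU : ∀ i, IsAffineOpen (U i))
    (hcov : TopologicalSpace.IsOpenCover U) (h : ∀ i, IsIso (mapΓ c hc (U i))) : IsIso c := by
  have : IsAffineHom (c ≫ r') := hc ▸ inferInstance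
  have : IsAffineHom c := MorphismProperty.of_postcomp (W := @IsAffineHom) (W' := @IsSeparated)
    c r' inferInstance this
  have hV : TopologicalSpace.IsOpenCover fun i => r' ⁻¹ᵁ U i := top_le_iff.mp fun x _ => by
    obtain ⟨i, hi⟩ := TopologicalSpace.Opens.mem_iSup.mp (hcov.ge (Set.mem_univ (r' x)))
    exact TopologicalSpace.Opens.mem_iSup.mpr ⟨i, hi⟩
  refine (IsZariskiLocalAtTarget.iff_of_iSup_eq_top (P := .isomorphisms _) _ hV).mpr fun i => ?_
  show IsIso (c ∣_ (r' ⁻¹ᵁ U i))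
  rw [isIso_morphismRestrict_iff_isIso_app _ ((hU i).preimage r')]
  have e : r ⁻¹ᵁ U i = c ⁻¹ᵁ r' ⁻¹ᵁ U i := by rw [← Scheme.Hom.comp_preimage, hc]
  have : IsIso (mapΓ c hc (U i)) := h i
  have h2 : c.app (r' ⁻¹ᵁ U i) = mapΓ c hc (U i) ≫ Q.presheaf.map (eqToHom e.symm).op := by
    rw [mapΓ, Scheme.Hom.appLE_map, ← Scheme.Hom.app_eq_appLE]
  rw [h2]
  infer_instance

section Build

variable (a b : A ⟶ B) (ha : a ≫ q = p) (hb : b ≫ q = p)

/-- The equalizer subring of sections over `U`. -/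
noncomputable abbrev eqSub (U : X.Opens) : Subring Γ(B, q ⁻¹ᵁ U) :=
  (mapΓ a ha U).hom.eqLocus (mapΓ b hb U).hom

theorem res_mem {U V : X.Opens} (h : V ≤ U) (x : eqSub a b ha hb U) :
    B.presheaf.map (homOfLE (q.preimage_mono h)).op x.1 ∈ eqSub a b ha hb V := by
  show mapΓ a ha V _ = mapΓ b hb V _
  rw [← CommRingCat.comp_apply, ← CommRingCat.comp_apply, mapΓ_naturality a ha h,
    mapΓ_naturality b hb h, CommRingCat.comp_apply, CommRingCat.comp_apply,
    show mapΓ a ha U x.1 = mapΓ b hb U x.1 from x.2]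

theorem app_mem (U : X.Opens) (s : Γ(X, U)) : q.app U s ∈ eqSub a b ha hb U := by
  show mapΓ a ha U _ = mapΓ b hb U _
  rw [← CommRingCat.comp_apply, ← CommRingCat.comp_apply, app_mapΓ, app_mapΓ]

/-- The sheaf of equalizer rings on affine opens. -/
noncomputable def eqFunctor : X.AffineZariskiSiteᵒᵖ ⥤ CommRingCat.{u} where
  obj U := CommRingCat.of (eqSub a b ha hb U.unop.1)
  map {U V} i := CommRingCat.ofHom <|
    ((B.presheaf.map (homOfLE (q.preimage_mono
      (Scheme.AffineZariskiSite.toOpens_mono i.unop.le))).op).hom.comp (Subring.subtype _)).codRestrict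
      _ (res_mem a b ha hb (Scheme.AffineZariskiSite.toOpens_mono i.unop.le))
  map_id U := by
    ext x
    show B.presheaf.map _ x.1 = x.1
    rw [Subsingleton.elim (homOfLE _) (𝟙 (q ⁻¹ᵁ U.unop.1)), op_id, B.presheaf.map_id]
    rfl
  map_comp {U V W} i j := by
    ext x
    show B.presheaf.map _ x.1 = B.presheaf.map _ (B.presheaf.map _ x.1)
    rw [← CommRingCat.comp_apply, ← B.presheaf.map_comp]
    rfl

/-- The structure map of the sheaf of equalizer rings. -/
noncomputable def eqStr :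
    (Scheme.AffineZariskiSite.toOpensFunctor X).op ⋙ X.presheaf ⟶ eqFunctor a b ha hb where
  app U := CommRingCat.ofHom ((q.app U.unop.1).hom.codRestrict _ (app_mem a b ha hb U.unop.1))
  naturality U V i := by
    ext x
    apply Subtype.ext
    exact congr($((app_naturality q (Scheme.AffineZariskiSite.toOpens_mono i.unop.le)).symm) x)

theorem coequifibered_eqStr [IsAffineHom p] [IsAffineHom q] :
    (eqStr a b ha hb).Coequifibered := by
  rw [Scheme.AffineZariskiSite.coequifibered_iff_forall_isLocalizationAway]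
  intro U f
  let W := X.basicOpen f
  have hW : W ≤ U.1 := X.basicOpen_le f
  let resB := B.presheaf.map (homOfLE (q.preimage_mono hW)).op
  let resA := A.presheaf.map (homOfLE (p.preimage_mono hW)).op
  let _ : Algebra Γ(B, q ⁻¹ᵁ U.1) Γ(B, q ⁻¹ᵁ W) := resB.hom.toAlgebra
  let _ : Algebra Γ(A, p ⁻¹ᵁ U.1) Γ(A, p ⁻¹ᵁ W) := resA.hom.toAlgebra
  let _ : Algebra (eqSub a b ha hb U.1) (eqSub a b ha hb W) :=
    ((eqFunctor a b ha hb).map (homOfLE (U.basicOpen_le f)).op).hom.toAlgebra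
  have : IsLocalization.Away (q.app U.1 f) Γ(B, q ⁻¹ᵁ W) :=
    (U.2.preimage q).isLocalization_of_eq_basicOpen _ (homOfLE (q.preimage_mono hW))
      (q.preimage_basicOpen f)
  have hap : mapΓ a ha U.1 (q.app U.1 f) = p.app U.1 f := congr($(app_mapΓ a ha U.1) f)
  have : IsLocalization.Away (mapΓ a ha U.1 (q.app U.1 f)) Γ(A, p ⁻¹ᵁ W) := by
    rw [hap]
    exact (U.2.preimage p).isLocalization_of_eq_basicOpen _ (homOfLE (p.preimage_mono hW))
      (p.preimage_basicOpen f)
  let t : eqSub a b ha hb U.1 := (eqStr a b ha hb).app (.op U) f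
  have : IsLocalization.Away ((eqSub a b ha hb U.1).subtype t) Γ(B, q ⁻¹ᵁ W) :=
    show IsLocalization.Away (q.app U.1 f) _ from inferInstance
  have : IsLocalization.Away ((mapΓ a ha U.1).hom ((eqSub a b ha hb U.1).subtype t)) Γ(A, p ⁻¹ᵁ W) :=
    show IsLocalization.Away (mapΓ a ha U.1 (q.app U.1 f)) _ from inferInstance
  show IsLocalization.Away t (eqSub a b ha hb W)
  refine isLocalizationAway_eqz (π := (eqSub a b ha hb U.1).subtype)
    (π' := (eqSub a b ha hb W).subtype) (B' := Γ(B, q ⁻¹ᵁ W)) (A' := Γ(A, p ⁻¹ᵁ W))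
    (isEqz_eqLocus _ _) (isEqz_eqLocus _ _) t ?_ (fun _ => rfl)
    (fun y => congr($(mapΓ_naturality a ha hW) y)) (fun y => congr($(mapΓ_naturality b hb hW) y))
  have hu : IsUnit (X.presheaf.map (homOfLE (X.basicOpen_le f)).op f) :=
    RingedSpace.isUnit_res_basicOpen _ f
  have := congr($((eqStr a b ha hb).naturality (homOfLE (U.basicOpen_le f)).op) f)
  show IsUnit ((eqFunctor a b ha hb).map (homOfLE (U.basicOpen_le f)).op
    ((eqStr a b ha hb).app (.op U) f))
  refine (congrArg IsUnit (show _ = _ from this)).mp ?_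
  exact hu.map ((eqStr a b ha hb).app (.op (U.basicOpen f))).hom

set_option backward.isDefEq.respectTransparency.types false in
/-- Two morphisms of finite étale covers have a good cocone. -/
theorem exists_good (hp : FEt.prop p) (hq : FEt.prop q) :
    ∃ (Q : Scheme.{u}) (r : Q ⟶ X) (π : B ⟶ Q) (hπ : π ≫ r = q),
      FEt.prop r ∧ ∀ U : X.AffineZariskiSite, GoodAt a b ha hb π hπ U.1 := by
  have := hp.1
  have := hq.1
  let d := Scheme.AffineZariskiSite.relativeGluingData (coequifibered_eqStr a b ha hb)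
  have : (d.functor ⋙ Scheme.forget).IsLocallyDirected :=
    Scheme.Cover.RelativeGluingData.instIsLocallyDirectedI₀CompFunctorForgetOfIsThin ..
  let r := d.toBase
  let F := eqFunctor a b ha hb
  let α (U : X.AffineZariskiSite) : Γ(X, U.1) ⟶ F.obj (.op U) := (eqStr a b ha hb).app (.op U)
  let incl (U : X.AffineZariskiSite) : F.obj (.op U) ⟶ Γ(B, q ⁻¹ᵁ U.1) :=
    CommRingCat.ofHom (eqSub a b ha hb U.1).subtype
  have hαincl (U : X.AffineZariskiSite) : α U ≫ incl U = q.app U.1 := rfl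
  have hr : FEt.prop r := by
    refine (IsZariskiLocalAtTarget.iff_of_openCover (P := FEt.prop)
      (Scheme.AffineZariskiSite.directedCover X)).mpr fun U => ?_
    have hsnd := (d.isPullback_natTrans_ι_toBase U).flip.isoPullback_inv_snd
    show FEt.prop (pullback.snd d.toBase ((Scheme.AffineZariskiSite.directedCover X).f U))
    refine Eq.mp (congrArg (fun m => FEt.prop m) hsnd) ?_
    refine (MorphismProperty.cancel_left_of_respectsIso FEt.prop _ _).mpr ?_
    show FEt.prop (Spec.map (α U) ≫ U.2.isoSpec.inv)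
    rw [FEt.prop.cancel_right_of_respectsIso]
    have hq' : ((q.app U.1).hom).Finite ∧ ((q.app U.1).hom).Etale :=
      ⟨hq.1.finite_app U.1 U.2, by
        have := hq.2
        have h := HasRingHomProperty.appLE @Etale q this ⟨U.1, U.2⟩
          ⟨q ⁻¹ᵁ U.1, U.2.preimage q⟩ le_rfl
        rwa [← Scheme.Hom.app_eq_appLE] at h⟩
    have hp' : ((p.app U.1).hom).Finite ∧ ((p.app U.1).hom).Etale :=
      ⟨hp.1.finite_app U.1 U.2, by
        have := hp.2
        have h := HasRingHomProperty.appLE @Etale p this ⟨U.1, U.2⟩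
          ⟨p ⁻¹ᵁ U.1, U.2.preimage p⟩ le_rfl
        rwa [← Scheme.Hom.app_eq_appLE] at h⟩
    have hab : (mapΓ a ha U.1).hom.comp (q.app U.1).hom =
        (mapΓ b hb U.1).hom.comp (q.app U.1).hom :=
      congrArg CommRingCat.Hom.hom ((app_mapΓ a ha U.1).trans (app_mapΓ b hb U.1).symm)
    have h := finite_etale_lift (q.app U.1).hom _ _ hab hq'
      (by rwa [← CommRingCat.hom_comp, app_mapΓ])
    exact ⟨(IsFinite.SpecMap_iff (α U)).mpr h.1, (HasRingHomProperty.Spec_iff (P := @Etale)).mpr h.2⟩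
  have := hr.1
  have hι (U : X.AffineZariskiSite) :
      colimit.ι d.functor U ≫ r = Spec.map (α U) ≫ U.2.fromSpec := by
    rw [d.ι_toBase]
    exact Category.assoc _ _ _
  have hrange (U : X.AffineZariskiSite) :
      Set.range (colimit.ι d.functor U) = Set.range (U.2.preimage r).fromSpec := by
    rw [IsAffineOpen.range_fromSpec, ← d.preimage_toBase_eq_range_ι U]
    show r ⁻¹' Set.range U.1.ι = _
    rw [Scheme.Opens.range_ι]
    rfl
  obtain ⟨π, hπ⟩ := exists_glue q (fun U => Spec.map (incl U) ≫ colimit.ι d.functor U) (by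
    intro V U hVU
    refine Eq.trans ?_ (congrArg (Spec.map (incl V) ≫ ·) (colimit.w d.functor (homOfLE hVU)))
    refine Eq.trans (Category.assoc _ _ _).symm (Eq.trans ?_ (Category.assoc _ _ _))
    refine congrArg (· ≫ colimit.ι d.functor U) ?_
    show _ = Spec.map (incl V) ≫ Spec.map (F.map (homOfLE hVU).op)
    rw [← Spec.map_comp, ← Spec.map_comp]
    rfl)
  have hπr : π ≫ r = q := hom_ext_preimage q fun U => by
    refine ((reassoc_of% (hπ U)) r).trans ((congrArg (Spec.map (incl U) ≫ ·) (hι U)).trans ?_)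
    refine (Spec.map_comp_assoc _ _ _).symm.trans ?_
    rw [hαincl, q.app_eq_appLE]
    exact IsAffineOpen.SpecMap_appLE_fromSpec q U.2 (U.2.preimage q) le_rfl
  refine ⟨d.glued, r, π, hπr, hr, fun U => ?_⟩
  let e := IsOpenImmersion.isoOfRangeEq (colimit.ι d.functor U) (U.2.preimage r).fromSpec (hrange U)
  let φ : Γ(d.glued, r ⁻¹ᵁ U.1) ⟶ F.obj (.op U) := Spec.preimage e.hom
  have hφ : Spec.map φ = e.hom := Spec.map_preimage e.hom
  have hφi : IsIso φ := by
    refine ⟨Spec.preimage e.inv, ?_, ?_⟩ <;> apply Spec.map_injective <;>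
      rw [Spec.map_comp, hφ, Spec.map_preimage, Spec.map_id]
    · exact e.inv_hom_id
    · exact e.hom_inv_id
  have hπΓ : mapΓ π hπr U.1 = φ ≫ incl U := eq_mapΓ_of_fromSpec π hπr U.1 U.2 _ (by
    rw [hπ U, Spec.map_comp_assoc, hφ]
    exact congrArg (Spec.map (incl U) ≫ ·) (IsOpenImmersion.isoOfRangeEq_hom_fac _ _ _).symm)
  have hb' : Function.Bijective φ.hom := (ConcreteCategory.isIso_iff_bijective φ).mp hφi
  refine ⟨?_, fun y => ?_⟩
  · rw [hπΓ]
    exact Subtype.val_injective.comp hb'.1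
  · rw [hπΓ]
    constructor
    · intro hy
      obtain ⟨x, hx⟩ := hb'.2 ⟨y, hy⟩
      exact ⟨x, congrArg Subtype.val hx⟩
    · rintro ⟨x, rfl⟩
      exact (φ.hom x).2

end Build

end Groth.Agent.FEt83
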