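import Mathlib.Algebra.Category.Ring.Constructions
import Groth.Agent.FEt83.EqRing

/-!
# Base change of equalizers, in terms of pushout squares of rings
-/

universe u

open CategoryTheory

namespace Groth.Agent.FEt83

theorem isEqz_of_isPushout {R S E B A E' B' A' : CommRingCat.{u}} {ρ : R ⟶ S} {e : R ⟶ E}
    {β : R ⟶ B} {α : R ⟶ A} {e' : S ⟶ E'} {β' : S ⟶ B'} {α' : S ⟶ A'} {gE : E ⟶ E'}
    {gB : B ⟶ B'} {gA : A ⟶ A'} (hE : IsPushout e ρ gE e') (hB : IsPushout β ρ gB β')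
    (hA : IsPushout α ρ gA α') {π : E ⟶ B} {a b : B ⟶ A} {π' : E' ⟶ B'} {a' b' : B' ⟶ A'}
    (we : e ≫ π = β) (wa : β ≫ a = α) (wb : β ≫ b = α)
    (we' : e' ≫ π' = β') (wa' : β' ≫ a' = α') (wb' : β' ≫ b' = α')
    (hπ : gE ≫ π' = π ≫ gB) (ha : gB ≫ a' = a ≫ gA) (hb : gB ≫ b' = b ≫ gA)
    (hβ : β.hom.Finite ∧ β.hom.Etale) (hα : α.hom.Finite ∧ α.hom.Etale)
    (h : IsEqz π.hom a.hom b.hom) : IsEqz π'.hom a'.hom b'.hom := by
  obtain ⟨hβ1, hβ2⟩ := hβ
  obtain ⟨hα1, hα2⟩ := hα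
  let _ : Algebra R S := ρ.hom.toAlgebra
  let _ : Algebra R E := e.hom.toAlgebra
  let _ : Algebra R B := β.hom.toAlgebra
  let _ : Algebra R A := α.hom.toAlgebra
  let _ : Algebra S E' := e'.hom.toAlgebra
  let _ : Algebra S B' := β'.hom.toAlgebra
  let _ : Algebra S A' := α'.hom.toAlgebra
  let _ : Algebra E E' := gE.hom.toAlgebra
  let _ : Algebra B B' := gB.hom.toAlgebra
  let _ : Algebra A A' := gA.hom.toAlgebra
  let _ : Algebra R E' := (ρ ≫ e').hom.toAlgebra
  let _ : Algebra R B' := (ρ ≫ β').hom.toAlgebra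
  let _ : Algebra R A' := (ρ ≫ α').hom.toAlgebra
  have : IsScalarTower R S E' := .of_algebraMap_eq' rfl
  have : IsScalarTower R S B' := .of_algebraMap_eq' rfl
  have : IsScalarTower R S A' := .of_algebraMap_eq' rfl
  have : IsScalarTower R E E' := .of_algebraMap_eq' (congrArg CommRingCat.Hom.hom hE.w.symm)
  have : IsScalarTower R B B' := .of_algebraMap_eq' (congrArg CommRingCat.Hom.hom hB.w.symm)
  have : IsScalarTower R A A' := .of_algebraMap_eq' (congrArg CommRingCat.Hom.hom hA.w.symm)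
  have : Algebra.IsPushout R S E E' := CommRingCat.isPushout_iff_isPushout.mp hE.flip
  have : Algebra.IsPushout R S B B' := CommRingCat.isPushout_iff_isPushout.mp hB.flip
  have : Algebra.IsPushout R S A A' := CommRingCat.isPushout_iff_isPushout.mp hA.flip
  have : Module.Finite R B := hβ1
  have : Algebra.Etale R B := hβ2
  have : Module.Finite R A := hα1
  have : Algebra.Etale R A := hα2
  exact isEqz_baseChange (R := R) (S := S) (E := E) (B := B) (A := A) (E' := E') (B' := B')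
    (A' := A') ⟨π.hom, fun r => congr($we r)⟩ ⟨a.hom, fun r => congr($wa r)⟩
    ⟨b.hom, fun r => congr($wb r)⟩ ⟨π'.hom, fun r => congr($we' r)⟩
    ⟨a'.hom, fun r => congr($wa' r)⟩ ⟨b'.hom, fun r => congr($wb' r)⟩
    (fun x => congr($hπ x)) (fun x => congr($ha x)) (fun x => congr($hb x)) h

end Groth.Agent.FEt83
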