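import Mathlib.CategoryTheory.Limits.Constructions.FiniteProductsOfBinaryProducts
import Mathlib.CategoryTheory.Limits.Constructions.LimitsOfProductsAndEqualizers
import Mathlib.CategoryTheory.Limits.MorphismProperty
import Mathlib.AlgebraicGeometry.Morphisms.Flat
import Mathlib.AlgebraicGeometry.Limits
import Groth.Agent.FEt83.Coeq
import Groth.Agent.FEt83.EqPush

/-!
# Finite limits and colimits of finite étale covers, and their preservation by base change
-/

universe u

open CategoryTheory Limits AlgebraicGeometry Opposite Topology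

namespace Groth.Agent.FEt83

variable {X Y : Scheme.{u}}

instance : (FEt.prop.{u}).HasOfPostcompProperty FEt.prop.{u} where
  of_postcomp f g hg hfg :=
    have := hg.1
    have := hg.2
    have := hfg.1
    have := hfg.2
    ⟨IsFinite.of_comp f g, Etale.of_comp f g⟩

section Hom

variable {A B : FEt.Cat X}

instance (A : FEt.Cat X) : IsFinite A.hom := A.prop.1

instance (A : FEt.Cat X) : Etale A.hom := A.prop.2

theorem w_left (a : A ⟶ B) : a.left ≫ B.hom = A.hom := Over.w a.hom

end Hom

theorem congr_appLE {P Z : Scheme.{u}} {f g : P ⟶ Z} (h : f = g) {U : Z.Opens} {V : P.Opens}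
    (e : V ≤ f ⁻¹ᵁ U) (e' : V ≤ g ⁻¹ᵁ U) : f.appLE U V e = g.appLE U V e' := by
  subst h; rfl

set_option backward.isDefEq.respectTransparency.types false in
/-- The square of sections for base change of a finite étale cover. -/
theorem isPushout_sections {P Z : Scheme.{u}} {g : X ⟶ Y} {z : Z ⟶ Y} {fst : P ⟶ Z} {p : P ⟶ X}
    [IsAffineHom z] (H : IsPullback fst p z g) {U : Y.Opens} {U' : X.Opens} (hU : IsAffineOpen U)
    (hU' : IsAffineOpen U') (hle : U' ≤ g ⁻¹ᵁ U) (e : p ⁻¹ᵁ U' ≤ fst ⁻¹ᵁ z ⁻¹ᵁ U) :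
    IsPushout (z.app U) (g.appLE U U' hle) (fst.appLE (z ⁻¹ᵁ U) (p ⁻¹ᵁ U') e) (p.app U') := by
  have h := (isIso_pushoutSection_iff H (US := U) (UT := U') (UX := z ⁻¹ᵁ U)
    (UY := p ⁻¹ᵁ U') hle le_rfl (inf_eq_right.mpr e).symm).mp
    (isIso_pushoutSection_of_isAffineOpen H hle le_rfl (inf_eq_right.mpr e).symm hU hU'
      (hU.preimage z))
  rw [← Scheme.Hom.app_eq_appLE, ← Scheme.Hom.app_eq_appLE] at h
  exact h

set_option backward.isDefEq.respectTransparency.types false in
theorem finite_etale_app {Z : Scheme.{u}} {z : Z ⟶ Y} (hz : FEt.prop z) {U : Y.Opens}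
    (hU : IsAffineOpen U) : (z.app U).hom.Finite ∧ (z.app U).hom.Etale :=
  ⟨hz.1.finite_app U hU, by
    have := hz.1
    have := hz.2
    have h := HasRingHomProperty.appLE @Etale z this ⟨U, hU⟩ ⟨z ⁻¹ᵁ U, hU.preimage z⟩ le_rfl
    rwa [← Scheme.Hom.app_eq_appLE] at h⟩

/-- A good cocone is the coequalizer in `FEt.Cat`. -/
theorem nonempty_isColimit_of_good {A B Q : FEt.Cat X} {a b : A ⟶ B} (π : B ⟶ Q)
    (w : a ≫ π = b ≫ π)
    (h : ∀ U : X.AffineZariskiSite,
      GoodAt a.left b.left (w_left a) (w_left b) π.left (w_left π) U.1) :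
    Nonempty (IsColimit (Cofork.ofπ π w)) := by
  have hd (s : Cofork a b) := existsUnique_desc h (z := s.pt.hom) s.π.left (w_left s.π)
    (congrArg (fun k => k.left) s.condition)
  choose d hd hd' using hd
  refine ⟨Cofork.IsColimit.mk _ (fun s => MorphismProperty.Over.homMk (d s) (hd s).1)
    (fun s => MorphismProperty.Over.Hom.ext (hd s).2) (fun s m hm => MorphismProperty.Over.Hom.ext
      (hd' s m.left ⟨w_left m, congrArg (fun k => k.left) hm⟩))⟩

theorem exists_good_cofork {A B : FEt.Cat X} (a b : A ⟶ B) :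
    ∃ (Q : FEt.Cat X) (π : B ⟶ Q) (_ : a ≫ π = b ≫ π), ∀ U : X.AffineZariskiSite,
      GoodAt a.left b.left (w_left a) (w_left b) π.left (w_left π) U.1 := by
  obtain ⟨Q, r, π, hπ, hr, h⟩ := exists_good a.left b.left (w_left a) (w_left b) A.prop B.prop
  have := hr.1
  have hw : a.left ≫ π = b.left ≫ π :=
    @comp_eq_of_good X A.left B.left Q A.hom B.hom r a.left b.left (w_left a) (w_left b)
      inferInstance inferInstance π hπ h
  exact ⟨MorphismProperty.Over.mk ⊤ r hr, MorphismProperty.Over.homMk π hπ,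
    MorphismProperty.Over.Hom.ext hw, h⟩

instance hasCoequalizers : HasCoequalizers (FEt.Cat X) :=
  have {A B : FEt.Cat X} {a b : A ⟶ B} : HasColimit (parallelPair a b) := by
    obtain ⟨Q, π, w, h⟩ := exists_good_cofork a b
    exact ⟨⟨⟨_, (nonempty_isColimit_of_good π w h).some⟩⟩⟩
  hasCoequalizers_of_hasColimit_parallelPair _

/-- A cofork good over an affine cover is a colimit. -/
theorem nonempty_isColimit_of_good_cover {A B Q : FEt.Cat X} {a b : A ⟶ B} (π : B ⟶ Q)
    (w : a ≫ π = b ≫ π) {ι : Type*} (U : ι → X.Opens) (hU : ∀ i, IsAffineOpen (U i))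
    (hcov : TopologicalSpace.IsOpenCover U)
    (h : ∀ i, GoodAt a.left b.left (w_left a) (w_left b) π.left (w_left π) (U i)) :
    Nonempty (IsColimit (Cofork.ofπ π w)) := by
  obtain ⟨Q₀, π₀, w₀, h₀⟩ := exists_good_cofork a b
  obtain ⟨hc₀⟩ := nonempty_isColimit_of_good π₀ w₀ h₀
  let c : Q₀ ⟶ Q := Cofork.IsColimit.desc hc₀ π w
  have hc : π₀ ≫ c = π := Cofork.IsColimit.π_desc' hc₀ π w
  have : IsIso c.left := isIso_of_isIso_mapΓ c.left (w_left c) U hU hcov fun i =>
    isIso_mapΓ_of_goodAt c.left (w_left c) (congrArg (fun k => k.left) hc)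
      (h₀ ⟨U i, hU i⟩) (h i)
  have : IsIso c := by
    refine ⟨MorphismProperty.Over.homMk (inv c.left) ?_, ?_, ?_⟩
    · rw [IsIso.inv_comp_eq]; exact (w_left c).symm
    · exact MorphismProperty.Over.Hom.ext (IsIso.hom_inv_id c.left)
    · exact MorphismProperty.Over.Hom.ext (IsIso.inv_hom_id c.left)
  exact ⟨IsColimit.ofIsoColimit hc₀ (Cofork.ext (asIso c) hc)⟩

set_option backward.isDefEq.respectTransparency.types false in
/-- Base change preserves coequalizers. -/
theorem preservesCoequalizer (g : X ⟶ Y) {A B : FEt.Cat Y} (a b : A ⟶ B) :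
    PreservesColimit (parallelPair a b) (FEt.restrict g) := by
  obtain ⟨Q, π, w, h⟩ := exists_good_cofork a b
  refine preservesColimit_of_preserves_colimit_cocone (nonempty_isColimit_of_good π w h).some ?_
  refine (isColimitMapCoconeCoforkEquiv (FEt.restrict g) w).symm ?_
  let R := FEt.restrict g
  let ι := {p : X.AffineZariskiSite // ∃ U : Y.AffineZariskiSite, p.1 ≤ g ⁻¹ᵁ U.1}
  have hcov : TopologicalSpace.IsOpenCover fun p : ι => p.1.1 := top_le_iff.mp fun x _ => by
    obtain ⟨_, ⟨U, hU, rfl⟩, hxU, -⟩ :=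
      Y.isBasis_affineOpens.exists_subset_of_mem_open (Set.mem_univ (g x)) isOpen_univ
    obtain ⟨_, ⟨V, hV, rfl⟩, hxV, hVU⟩ :=
      X.isBasis_affineOpens.exists_subset_of_mem_open hxU (g ⁻¹ᵁ U).isOpen
    exact TopologicalSpace.Opens.mem_iSup.mpr ⟨⟨⟨V, hV⟩, ⟨U, hU⟩, hVU⟩, hxV⟩
  refine (nonempty_isColimit_of_good_cover (R.map π) _ _ (fun p : ι => p.1.2) hcov
    fun p => ?_).some
  obtain ⟨U, hle⟩ := p.2
  have sq (Z : FEt.Cat Y) : IsPullback (pullback.fst Z.hom g) (R.obj Z).hom Z.hom g :=
    IsPullback.of_hasPullback Z.hom g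
  have hl (Z : FEt.Cat Y) :
      (R.obj Z).hom ⁻¹ᵁ p.1.1 ≤ pullback.fst Z.hom g ⁻¹ᵁ Z.hom ⁻¹ᵁ U.1 := by
    rw [← Scheme.Hom.comp_preimage, (sq Z).w, Scheme.Hom.comp_preimage]
    exact Scheme.Hom.preimage_mono _ hle
  have hnat {Z W : FEt.Cat Y} (k : Z ⟶ W) :
      (pullback.fst W.hom g).appLE _ _ (hl W) ≫ mapΓ (R.map k).left (w_left (R.map k)) p.1.1 =
        mapΓ k.left (w_left k) U.1 ≫ (pullback.fst Z.hom g).appLE _ _ (hl Z) := by
    refine (Scheme.Hom.appLE_comp_appLE ..).trans
      ((congr_appLE ?_ _ _).trans (Scheme.Hom.appLE_comp_appLE ..).symm)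
    exact pullback.lift_fst _ _ _
  exact isEqz_of_isPushout (isPushout_sections (sq Q) U.2 p.1.2 hle (hl Q))
    (isPushout_sections (sq B) U.2 p.1.2 hle (hl B)) (isPushout_sections (sq A) U.2 p.1.2 hle (hl A))
    (app_mapΓ π.left (w_left π) U.1) (app_mapΓ a.left (w_left a) U.1)
    (app_mapΓ b.left (w_left b) U.1) (app_mapΓ (R.map π).left (w_left _) p.1.1)
    (app_mapΓ (R.map a).left (w_left _) p.1.1) (app_mapΓ (R.map b).left (w_left _) p.1.1)
    (hnat π) (hnat a) (hnat b) (finite_etale_app B.prop U.2) (finite_etale_app A.prop U.2) (h U)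

set_option backward.isDefEq.respectTransparency.types false in
theorem etale_coprodDesc {A B : Scheme.{u}} (f : A ⟶ X) (g : B ⟶ X) [Etale f] [Etale g] :
    Etale (coprod.desc f g) := by
  refine (IsZariskiLocalAtSource.iff_of_openCover (P := @Etale) (coprodOpenCover.{u, u} A B)).mpr ?_
  rintro (⟨⟨⟩⟩ | ⟨⟨⟩⟩)
  · show Etale (coprod.inl ≫ coprod.desc f g); rw [coprod.inl_desc]; assumption
  · show Etale (coprod.inr ≫ coprod.desc f g); rw [coprod.inr_desc]; assumption

/-- The disjoint union of two covers. -/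
noncomputable def coprodObj (A B : FEt.Cat X) : FEt.Cat X :=
  MorphismProperty.Over.mk ⊤ (coprod.desc A.hom B.hom) ⟨inferInstance,
    etale_coprodDesc A.hom B.hom⟩

noncomputable def coprodCofan (A B : FEt.Cat X) : BinaryCofan A B :=
  BinaryCofan.mk (P := coprodObj A B) (MorphismProperty.Over.homMk coprod.inl (coprod.inl_desc _ _))
    (MorphismProperty.Over.homMk coprod.inr (coprod.inr_desc _ _))

/-- A binary cofan in `FEt.Cat` which is a colimit cofan of schemes is a colimit. -/
noncomputable def isColimitOfLeft {A B P : FEt.Cat X} (i : A ⟶ P) (j : B ⟶ P)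
    (h : IsColimit (BinaryCofan.mk i.left j.left)) : IsColimit (BinaryCofan.mk i j) :=
  BinaryCofan.IsColimit.mk _
    (fun {T} f g => MorphismProperty.Over.homMk
      (BinaryCofan.IsColimit.desc h f.left g.left)
      (BinaryCofan.IsColimit.hom_ext h
        ((Category.assoc _ _ _).symm.trans ((congrArg (· ≫ T.hom)
          (BinaryCofan.IsColimit.inl_desc h _ _)).trans ((w_left f).trans (w_left i).symm)))
        ((Category.assoc _ _ _).symm.trans ((congrArg (· ≫ T.hom)
          (BinaryCofan.IsColimit.inr_desc h _ _)).trans ((w_left g).trans (w_left j).symm)))))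
    (fun f g => MorphismProperty.Over.Hom.ext (BinaryCofan.IsColimit.inl_desc h _ _))
    (fun f g => MorphismProperty.Over.Hom.ext (BinaryCofan.IsColimit.inr_desc h _ _))
    (fun f g m h₁ h₂ => MorphismProperty.Over.Hom.ext <| BinaryCofan.IsColimit.hom_ext h
      ((congrArg (fun k => k.left) h₁).trans (BinaryCofan.IsColimit.inl_desc h _ _).symm)
      ((congrArg (fun k => k.left) h₂).trans (BinaryCofan.IsColimit.inr_desc h _ _).symm))

instance hasBinaryCoproducts : HasBinaryCoproducts (FEt.Cat X) :=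
  have {A B : FEt.Cat X} : HasColimit (pair A B) :=
    ⟨⟨⟨coprodCofan A B, isColimitOfLeft _ _ (coprodIsCoprod A.left B.left)⟩⟩⟩
  hasBinaryCoproducts_of_hasColimit_pair _

set_option backward.isDefEq.respectTransparency.types false in
/-- Base change preserves binary coproducts. -/
theorem preservesBinaryCoproduct (g : X ⟶ Y) (A B : FEt.Cat Y) :
    PreservesColimit (pair A B) (FEt.restrict g) := by
  let R := FEt.restrict g
  let i : A ⟶ coprodObj A B := MorphismProperty.Over.homMk coprod.inl (coprod.inl_desc _ _)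
  let j : B ⟶ coprodObj A B := MorphismProperty.Over.homMk coprod.inr (coprod.inr_desc _ _)
  refine preservesColimit_of_preserves_colimit_cocone
    (isColimitOfLeft i j (coprodIsCoprod A.left B.left)) ?_
  refine (isColimitMapCoconeBinaryCofanEquiv R i j).symm ?_
  refine isColimitOfLeft (R.map i) (R.map j) (Nonempty.some ?_)
  have sq {Z : FEt.Cat Y} (k : Z ⟶ coprodObj A B) :
      IsPullback (R.map k).left (pullback.fst Z.hom g) (pullback.fst (coprodObj A B).hom g) k.left := by
    refine IsPullback.flip ?_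
    refine IsPullback.of_bot (v₂₁ := pullback.snd (coprodObj A B).hom g) ?_
      (pullback.lift_fst _ _ _).symm (IsPullback.of_hasPullback _ g)
    rw [w_left]
    have h := IsPullback.of_hasPullback Z.hom g
    rwa [show (R.map k).left ≫ pullback.snd (coprodObj A B).hom g = pullback.snd Z.hom g from
      pullback.lift_snd _ _ _]
  refine FinitaryPreExtensive.universal' _ (coprodIsCoprod A.left B.left) _
    (mapPair (pullback.fst A.hom g) (pullback.fst B.hom g))
    (pullback.fst (coprodObj A B).hom g) ?_ (.of_discrete _) ?_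
  · ext ⟨⟨⟩⟩
    · exact (pullback.lift_fst _ _ _).symm
    · exact (pullback.lift_fst _ _ _).symm
  · rintro ⟨⟨⟩⟩
    · exact sq i
    · exact sq j

/-- The empty cover. -/
noncomputable def initialObj (X : Scheme.{u}) : FEt.Cat X :=
  MorphismProperty.Over.mk ⊤ (Scheme.emptyTo X) ⟨inferInstance, inferInstance⟩

/-- A cover with empty total space is initial. -/
noncomputable def isInitialOfEmpty (A : FEt.Cat X) [IsEmpty A.left] : IsInitial A :=
  IsInitial.ofUniqueHom
    (fun T => MorphismProperty.Over.homMk (isInitialOfIsEmpty.to T.left)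
      (isInitialOfIsEmpty.hom_ext _ _))
    (fun _ _ => MorphismProperty.Over.Hom.ext (isInitialOfIsEmpty.hom_ext _ _))

instance (X : Scheme.{u}) : IsEmpty (initialObj X).left :=
  inferInstanceAs (IsEmpty (∅ : Scheme.{u}))

instance hasInitial : HasInitial (FEt.Cat X) := (isInitialOfEmpty (initialObj X)).hasInitial

instance hasFiniteCoproducts : HasFiniteCoproducts (FEt.Cat X) :=
  hasFiniteCoproducts_of_has_binary_and_initial

instance hasFiniteColimits : HasFiniteColimits (FEt.Cat X) :=
  hasFiniteColimits_of_hasCoequalizers_and_finite_coproducts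

set_option backward.isDefEq.respectTransparency.types false in
theorem preservesFiniteColimits_restrict (g : X ⟶ Y) : PreservesFiniteColimits (FEt.restrict g) := by
  have : PreservesColimitsOfShape WalkingParallelPair (FEt.restrict g) := ⟨fun {K} => by
    have := preservesCoequalizer g (K.map WalkingParallelPairHom.left)
      (K.map WalkingParallelPairHom.right)
    exact preservesColimit_of_iso_diagram _ (diagramIsoParallelPair K).symm⟩
  have : PreservesColimitsOfShape (Discrete WalkingPair) (FEt.restrict g) := ⟨fun {K} => by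
    have := preservesBinaryCoproduct g (K.obj ⟨.left⟩) (K.obj ⟨.right⟩)
    exact preservesColimit_of_iso_diagram _ (diagramIsoPair K).symm⟩
  have : IsEmpty ((FEt.restrict g).obj (initialObj Y)).left :=
    have : IsEmpty (initialObj Y).left := inferInstance
    @Function.isEmpty _ _ this (pullback.fst (initialObj Y).hom g).base
  have : PreservesColimit (Functor.empty.{0} (FEt.Cat Y)) (FEt.restrict g) :=
    preservesColimit_of_preserves_colimit_cocone (isInitialOfEmpty (initialObj Y))
      ((isColimitMapCoconeEmptyCoconeEquiv (FEt.restrict g) (initialObj Y)).symm (isInitialOfEmpty _))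
  have : PreservesColimitsOfShape (Discrete.{0} PEmpty) (FEt.restrict g) :=
    preservesColimitsOfShape_pempty_of_preservesInitial (FEt.restrict g)
  have : PreservesFiniteCoproducts (FEt.restrict g) :=
    ⟨fun n => PreservesFiniteCoproducts.of_preserves_binary_and_initial _ (Fin n)⟩
  exact preservesFiniteColimits_of_preservesCoequalizers_and_finiteCoproducts _

end Groth.Agent.FEt83
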