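import Groth.Agent.FEt83.FFGlue
import Groth.Agent.FEt83.DepthSections
import Groth.Agent.Pure83.DescFlat
import Mathlib.AlgebraicGeometry.Morphisms.UniversallyOpen
import Groth.Prelude.Def_SGA2

/-!
# Purity descends along faithfully flat morphisms
-/

universe u

open CategoryTheory Limits AlgebraicGeometry TopologicalSpace

namespace Groth.Agent.FEt83

set_option backward.isDefEq.respectTransparency.types false in
/-- The local extension at a maximal missing point. -/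
theorem exists_local_extension_of_flat {X X₁ : Scheme.{u}} [IsLocallyNoetherian X] (U : X.Opens)
    (hU : ∀ x : X, x ∉ U → (2 : ℕ∞) ≤ LocCoh.depth (X.presheaf.stalk x) (X.presheaf.stalk x))
    (f : X₁ ⟶ X) [Flat f] [Surjective f]
    (h : ∀ (W : Scheme.{u}) (w : W ⟶ X₁) [IsOpenImmersion w],
      (FEt.restrict (w ⁻¹ᵁ f ⁻¹ᵁ U).ι).IsEquivalence)
    (O : X.Opens) (hle : U ≤ O) (x : X) (hx : x ∉ O) (hgen : ∀ y, y ∉ O → y ⤳ x → y = x)
    (Z : FEt.Cat (O : Scheme.{u})) :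
    ∃ Y : FEt.Cat (Spec (X.presheaf.stalk x)),
      Nonempty ((FEt.restrict ((X.fromSpecStalk x) ⁻¹ᵁ O).ι).obj Y ≅
        (FEt.restrict (X.fromSpecStalk x ∣_ O)).obj Z) := by
  -- a maximal point over `x`
  obtain ⟨x₁, hx₁⟩ : ∃ x₁ : X₁, f x₁ = x := by
    obtain ⟨x₁, h⟩ := f.surjective x
    exact ⟨x₁, h⟩
  subst hx₁
  set x := f x₁
  -- the pulled back cover extends over the whole of `X₁`
  let O₁ : X₁.Opens := f ⁻¹ᵁ O
  let r : (O₁ : Scheme.{u}) ⟶ O := f ∣_ O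
  let U₁ : X₁.Opens := f ⁻¹ᵁ U
  let s : (U₁ : Scheme.{u}) ⟶ O₁ := X₁.homOfLE (f.preimage_mono hle)
  let B : FEt.Cat (O₁ : Scheme.{u}) := (FEt.restrict r).obj Z
  have hX₁ : (FEt.restrict U₁.ι).IsEquivalence := h X₁ (𝟙 X₁)
  obtain ⟨Y₁, ⟨eY₁⟩⟩ := hX₁.essSurj.mem_essImage ((FEt.restrict s).obj B)
  let u' : ((O₁.ι ⁻¹ᵁ U₁) : Scheme.{u}) ⟶ O₁ := (O₁.ι ⁻¹ᵁ U₁).ι
  have hO₁ : (FEt.restrict u').IsEquivalence := h _ O₁.ι
  let t : ((O₁.ι ⁻¹ᵁ U₁) : Scheme.{u}) ⟶ U₁ := O₁.ι ∣_ U₁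
  have ht : t ≫ U₁.ι = u' ≫ O₁.ι := morphismRestrict_ι _ _
  have hts : t ≫ s = u' := by
    rw [← cancel_mono O₁.ι, Category.assoc, X₁.homOfLE_ι]
    exact ht
  let eA : (FEt.restrict u').obj ((FEt.restrict O₁.ι).obj Y₁) ≅ (FEt.restrict u').obj B :=
    restrictSqIso u' O₁.ι t U₁.ι ht.symm Y₁ ≪≫ (FEt.restrict t).mapIso eY₁ ≪≫
      ((restrictCompIso t s).app B).symm ≪≫ restrictEqIso hts B
  let φ : (FEt.restrict O₁.ι).obj Y₁ ≅ B := (FEt.restrict u').preimageIso eA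
  -- descend from the stalk
  suffices key : ∀ (Q : (Spec (X.presheaf.stalk x)).Opens), Q = FEt.puncturedSpec (X.presheaf.stalk x) →
      ∀ (r₀ : (Q : Scheme.{u}) ⟶ O), r₀ ≫ O.ι = Q.ι ≫ X.fromSpecStalk x →
        ∃ Y : FEt.Cat (Spec (X.presheaf.stalk x)),
          Nonempty ((FEt.restrict Q.ι).obj Y ≅ (FEt.restrict r₀).obj Z) from
    key _ (preimage_eq_punctured O x hx hgen) _ (morphismRestrict_ι _ _)
  rintro Q rfl r₀ hr₀
  let _ : Algebra (X.presheaf.stalk x) (X₁.presheaf.stalk x₁) := (f.stalkMap x₁).hom.toAlgebra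
  have : Module.Flat (X.presheaf.stalk x) (X₁.presheaf.stalk x₁) := Flat.stalkMap f x₁
  have : IsLocalHom (algebraMap (X.presheaf.stalk x) (X₁.presheaf.stalk x₁)) :=
    inferInstanceAs (IsLocalHom (f.stalkMap x₁).hom)
  have : Module.FaithfullyFlat (X.presheaf.stalk x) (X₁.presheaf.stalk x₁) :=
    Module.FaithfullyFlat.of_flat_of_isLocalHom
  let π := pullback.fst (FEt.puncturedSpec (X.presheaf.stalk x)).ι
    (Pure83.descMap (X.presheaf.stalk x) (X₁.presheaf.stalk x₁))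
  let σ := pullback.snd (FEt.puncturedSpec (X.presheaf.stalk x)).ι
    (Pure83.descMap (X.presheaf.stalk x) (X₁.presheaf.stalk x₁))
  have hd : Pure83.descMap (X.presheaf.stalk x) (X₁.presheaf.stalk x₁) ≫ X.fromSpecStalk x = X₁.fromSpecStalk x₁ ≫ f :=
    Scheme.SpecMap_stalkMap_fromSpecStalk f
  have hσ : (σ ≫ X₁.fromSpecStalk x₁) ≫ f = (π ≫ r₀) ≫ O.ι := by
    refine (Category.assoc _ _ _).trans ((congrArg (σ ≫ ·) hd.symm).trans ?_)
    refine (Category.assoc _ _ _).symm.trans ((congrArg (· ≫ _) pullback.condition.symm).trans ?_)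
    refine (Category.assoc _ _ _).trans ((congrArg (π ≫ ·) hr₀.symm).trans ?_)
    exact (Category.assoc _ _ _).symm
  have hrg : Set.range (σ ≫ X₁.fromSpecStalk x₁) ⊆ Set.range O₁.ι := by
    rintro _ ⟨z, rfl⟩
    rw [Scheme.Opens.range_ι]
    show f ((σ ≫ X₁.fromSpecStalk x₁) z) ∈ O
    rw [← Scheme.Hom.comp_apply, hσ]
    exact (r₀ (π z)).2
  let l := IsOpenImmersion.lift O₁.ι (σ ≫ X₁.fromSpecStalk x₁) hrg
  have hl : l ≫ O₁.ι = σ ≫ X₁.fromSpecStalk x₁ := IsOpenImmersion.lift_fac _ _ _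
  have hlr : l ≫ r = π ≫ r₀ := by
    rw [← cancel_mono O.ι, Category.assoc, morphismRestrict_ι, ← Category.assoc, hl, hσ]
  exact Pure83.extends_of_faithfullyFlat (A := ↑(X.presheaf.stalk x)) (C := ↑(X₁.presheaf.stalk x₁)) (hU _ fun hxU => hx (hle hxU)) ((FEt.restrict r₀).obj Z)
    ((FEt.restrict (X₁.fromSpecStalk x₁)).obj Y₁)
    (restrictSqIso σ _ l O₁.ι hl.symm Y₁ ≪≫ (FEt.restrict l).mapIso φ ≪≫
      restrictSqIso l r π r₀ hlr Z)

set_option backward.isDefEq.respectTransparency.types false in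
/-- Extension over affine opens. -/
theorem exists_extension_affine_of_flat {X X₁ : Scheme.{u}} [IsLocallyNoetherian X] (U : X.Opens)
    (hU : ∀ x : X, x ∉ U → (2 : ℕ∞) ≤ LocCoh.depth (X.presheaf.stalk x) (X.presheaf.stalk x))
    (f : X₁ ⟶ X) [Flat f] [Surjective f]
    (h : ∀ (W : Scheme.{u}) (w : W ⟶ X₁) [IsOpenImmersion w],
      (FEt.restrict (w ⁻¹ᵁ f ⁻¹ᵁ U).ι).IsEquivalence)
    (E : FEt.Cat (U : Scheme.{u})) (W : X.Opens) (hW : IsAffineOpen W) :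
    ∃ (O : X.Opens) (hle : U ≤ O) (Z : FEt.Cat (O : Scheme.{u})),
      W ≤ O ∧ Nonempty ((FEt.restrict (X.homOfLE hle)).obj Z ≅ E) := by
  have : IsNoetherianRing Γ(X, W) := IsLocallyNoetherian.component_noetherian ⟨W, hW⟩
  have hNW : NoetherianSpace W := noetherianSpace_of_isAffineOpen W hW
  let trace : X.Opens → TopologicalSpace.Opens W := fun O => ⟨Subtype.val ⁻¹' (O : Set X),
    O.2.preimage continuous_subtype_val⟩
  let S : Set (TopologicalSpace.Opens W) := {o | ∃ (O : X.Opens) (hle : U ≤ O)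
    (Z : FEt.Cat (O : Scheme.{u})),
    trace O = o ∧ Nonempty ((FEt.restrict (X.homOfLE hle)).obj Z ≅ E)}
  have hU' : trace U ∈ S := ⟨U, le_rfl, E, rfl, ⟨restrictEqIso (X.homOfLE_rfl U) E ≪≫
    restrictIdIso E⟩⟩
  obtain ⟨o, hO, hmax⟩ := (wellFounded_gt (α := TopologicalSpace.Opens W)).has_min S ⟨_, hU'⟩
  obtain ⟨O, hle, Z, rfl, ⟨eZ⟩⟩ := hO
  by_cases htop : W ≤ O
  · exact ⟨O, hle, Z, htop, ⟨eZ⟩⟩
  obtain ⟨w₀, hw₀W, hw₀O⟩ := SetLike.not_le_iff_exists.mp htop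
  obtain ⟨⟨x, hxW⟩, hx, hgen⟩ : ∃ w : W, w.1 ∉ O ∧ ∀ y : W, y.1 ∉ O → y.1 ⤳ w.1 → y = w := by
    obtain ⟨w, hw, hmin⟩ := exists_generic (X := (W : Scheme.{u})) (W.ι ⁻¹' (O : Set X)ᶜ)
      (O.2.isClosed_compl.preimage W.ι.continuous) ⟨⟨w₀, hw₀W⟩, hw₀O⟩
    exact ⟨w, hw, fun y hy hyw => hmin y hy (Topology.IsInducing.subtypeVal.specializes_iff.mp hyw)⟩
  obtain ⟨O', hle', Z', hx', ⟨e'⟩⟩ := exists_extend_step_of_local O x Z
    (exists_local_extension_of_flat U hU f h O hle x hx (fun y hy hyx =>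
      congrArg Subtype.val (hgen ⟨y, hyx.mem_open W.2 hxW⟩ hy hyx)) Z)
  refine absurd (lt_of_le_of_ne (fun (z : W) hz => hle' hz) fun he => hx ?_)
    (hmax (trace O') ⟨O', hle.trans hle', Z', rfl, ⟨?_⟩⟩)
  · have : (⟨x, hxW⟩ : W) ∈ trace O := he.ge hx'
    exact this
  exact restrictEqIso (X.homOfLE_homOfLE hle hle').symm Z' ≪≫
    (restrictCompIso _ _).app Z' ≪≫ (FEt.restrict _).mapIso e' ≪≫ eZ

set_option backward.isDefEq.respectTransparency.types false in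
/-- Restriction to the open is an equivalence. -/
theorem isEquivalence_of_flat {X X₁ : Scheme.{u}} [IsLocallyNoetherian X] (U : X.Opens)
    (hU : ∀ x : X, x ∉ U → (2 : ℕ∞) ≤ LocCoh.depth (X.presheaf.stalk x) (X.presheaf.stalk x))
    (f : X₁ ⟶ X) [Flat f] [Surjective f]
    (h : ∀ (W : Scheme.{u}) (w : W ⟶ X₁) [IsOpenImmersion w],
      (FEt.restrict (w ⁻¹ᵁ f ⁻¹ᵁ U).ι).IsEquivalence) :
    (FEt.restrict U.ι).IsEquivalence := by
  have hFF : ∀ W : X.Opens,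
      (FEt.restrict (W.ι ⁻¹ᵁ U).ι).Full ∧ (FEt.restrict (W.ι ⁻¹ᵁ U).ι).Faithful := fun W => by
    refine fullyFaithful_of_depth _ fun z hz => ?_
    exact (hU (W.ι z) hz).trans
      (CAlg1.depth_eq_of_ringEquiv (asIso (W.ι.stalkMap z)).commRingCatIsoToRingEquiv).le
  obtain ⟨_, _⟩ := fullyFaithful_of_depth U hU
  have : (FEt.restrict U.ι).EssSurj :=
    ⟨fun E => FF.exists_extension_of_local hFF E fun W => exists_extension_affine_of_flat U hU f h E W.1 W.2⟩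
  exact { }

set_option backward.isDefEq.respectTransparency.types false in
/-- Restriction along an isomorphism is an equivalence. -/
theorem isEquivalence_restrict_of_iso {X' X : Scheme.{u}} (e : X' ≅ X) :
    (FEt.restrict e.hom).IsEquivalence := by
  have hid : ∀ (Y : Scheme.{u}), Nonempty (FEt.restrict (𝟙 Y) ≅ 𝟭 (FEt.Cat Y)) := fun Y =>
    ⟨NatIso.ofComponents (fun A => restrictIdIso A) fun {A B} k =>
      MorphismProperty.Over.Hom.ext (pullback.lift_fst _ _ _)⟩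
  have hη : FEt.restrict e.hom ⋙ FEt.restrict e.inv ≅ 𝟭 _ :=
    (restrictCompIso e.inv e.hom).symm ≪≫ eqToIso (by rw [e.inv_hom_id]) ≪≫ (hid X).some
  have hε : FEt.restrict e.inv ⋙ FEt.restrict e.hom ≅ 𝟭 _ :=
    (restrictCompIso e.hom e.inv).symm ≪≫ eqToIso (by rw [e.hom_inv_id]) ≪≫ (hid X').some
  exact (CategoryTheory.Equivalence.mk (FEt.restrict e.hom) (FEt.restrict e.inv) hη.symm hε).isEquivalence_functor

set_option backward.isDefEq.respectTransparency.types false in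
/-- A pure pair restricts to all open subschemes. -/
theorem isEquivalence_of_isPurePair {X : Scheme.{u}} {U : X.Opens} (h : SGA2.IsPurePair X U)
    (W : Scheme.{u}) (w : W ⟶ X) [IsOpenImmersion w] :
    (FEt.restrict (w ⁻¹ᵁ U).ι).IsEquivalence := by
  let V := w.opensRange
  have := h V
  have := isEquivalence_restrict_of_iso w.isoOpensRange
  have hrg : Set.range ((w ⁻¹ᵁ U).ι ≫ w) = Set.range (V ⊓ U).ι := by
    rw [Scheme.Opens.range_ι]
    refine Set.ext fun y => ⟨?_, fun hy => ?_⟩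
    · rintro ⟨z, rfl⟩
      exact ⟨⟨z.1, rfl⟩, z.2⟩
    · obtain ⟨⟨z, rfl⟩, hU⟩ := hy
      exact ⟨⟨z, hU⟩, rfl⟩
  let a := IsOpenImmersion.isoOfRangeEq ((w ⁻¹ᵁ U).ι ≫ w) (V ⊓ U).ι hrg
  have ha : a.hom ≫ (V ⊓ U).ι = (w ⁻¹ᵁ U).ι ≫ w := IsOpenImmersion.isoOfRangeEq_hom_fac _ _ _
  have := isEquivalence_restrict_of_iso a
  have hsq : a.hom ≫ X.homOfLE (inf_le_left : V ⊓ U ≤ V) = (w ⁻¹ᵁ U).ι ≫ w.isoOpensRange.hom := by
    rw [← cancel_mono V.ι, Category.assoc, Category.assoc, X.homOfLE_ι, ha, w.isoOpensRange_hom_ι]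
  let i : FEt.restrict w.isoOpensRange.hom ⋙ FEt.restrict (w ⁻¹ᵁ U).ι ≅
      FEt.restrict (X.homOfLE (inf_le_left : V ⊓ U ≤ V)) ⋙ FEt.restrict a.hom :=
    (restrictCompIso _ _).symm ≪≫ eqToIso (by rw [hsq]) ≪≫ restrictCompIso _ _
  have : (FEt.restrict w.isoOpensRange.hom ⋙ FEt.restrict (w ⁻¹ᵁ U).ι).IsEquivalence :=
    Functor.isEquivalence_of_iso i.symm
  exact Functor.isEquivalence_of_comp_left (FEt.restrict w.isoOpensRange.hom) _

set_option backward.isDefEq.respectTransparency.types false in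
/-- Purity descends along faithfully flat morphisms. -/
theorem isPurePair_of_flat {X X₁ : Scheme.{u}} [IsLocallyNoetherian X] (U : X.Opens)
    (hU : ∀ x : X, x ∉ U → (2 : ℕ∞) ≤ LocCoh.depth (X.presheaf.stalk x) (X.presheaf.stalk x))
    (f : X₁ ⟶ X) [Flat f] [Surjective f] (h : SGA2.IsPurePair X₁ (f ⁻¹ᵁ U)) :
    SGA2.IsPurePair X U := by
  intro V
  have : IsLocallyNoetherian (V : Scheme.{u}) := isLocallyNoetherian_of_isOpenImmersion V.ι
  have hU' : ∀ z : (V : Scheme.{u}), z ∉ V.ι ⁻¹ᵁ U →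
      (2 : ℕ∞) ≤ LocCoh.depth ((V : Scheme.{u}).presheaf.stalk z) ((V : Scheme.{u}).presheaf.stalk z) :=
    fun z hz => (hU (V.ι z) hz).trans
      (CAlg1.depth_eq_of_ringEquiv (asIso (V.ι.stalkMap z)).commRingCatIsoToRingEquiv).le
  have hflat : Flat (f ∣_ V) := IsZariskiLocalAtTarget.restrict (P := @Flat) ‹_› V
  have hsurj : Surjective (f ∣_ V) := IsZariskiLocalAtTarget.restrict (P := @Surjective) ‹_› V
  have hV := isEquivalence_of_flat (V.ι ⁻¹ᵁ U) hU' (f ∣_ V) fun W w _ => by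
    have he : w ⁻¹ᵁ (f ∣_ V) ⁻¹ᵁ V.ι ⁻¹ᵁ U = (w ≫ (f ⁻¹ᵁ V).ι) ⁻¹ᵁ f ⁻¹ᵁ U := by
      rw [← Scheme.Hom.comp_preimage, ← Scheme.Hom.comp_preimage, ← Scheme.Hom.comp_preimage,
        Category.assoc, Category.assoc, morphismRestrict_ι]
    rw [he]
    exact isEquivalence_of_isPurePair h W (w ≫ (f ⁻¹ᵁ V).ι)
  have hrg : Set.range (X.homOfLE (inf_le_left : V ⊓ U ≤ V)) = Set.range (V.ι ⁻¹ᵁ U).ι := by
    rw [Scheme.Opens.range_ι]
    refine Set.ext fun z => ⟨?_, fun hz => ?_⟩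
    · rintro ⟨y, rfl⟩
      show V.ι (X.homOfLE inf_le_left y) ∈ U
      rw [← Scheme.Hom.comp_apply, X.homOfLE_ι]
      exact y.2.2
    · exact ⟨⟨z.1, z.2, hz⟩, V.ι.isOpenEmbedding.injective
        congr($(X.homOfLE_ι (inf_le_left : V ⊓ U ≤ V)).base ⟨z.1, z.2, hz⟩)⟩
  let a := IsOpenImmersion.isoOfRangeEq (X.homOfLE (inf_le_left : V ⊓ U ≤ V)) (V.ι ⁻¹ᵁ U).ι hrg
  have ha : a.hom ≫ (V.ι ⁻¹ᵁ U).ι = X.homOfLE inf_le_left := IsOpenImmersion.isoOfRangeEq_hom_fac _ _ _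
  have := isEquivalence_restrict_of_iso a
  exact Functor.isEquivalence_of_iso
    ((restrictCompIso a.hom (V.ι ⁻¹ᵁ U).ι).symm ≪≫ eqToIso (by rw [ha]))

end Groth.Agent.FEt83
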