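import Mathlib.AlgebraicGeometry.Morphisms.FlatRank
import Mathlib.AlgebraicGeometry.Morphisms.FlatMono
import Mathlib.AlgebraicGeometry.Morphisms.UniversallyOpen
import Groth.Agent.FEt83.Colim
import Groth.Agent.Unr55.Rigid

/-!
# Full faithfulness of restriction in terms of clopen subsets of covers

`restrict f` is faithful if every nonempty clopen subset of every cover meets the preimage, and full
if moreover every clopen subset of a pulled back cover is the preimage of one.
-/

universe u

open CategoryTheory Limits AlgebraicGeometry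

namespace Groth.Agent.FEt83

variable {X X' : Scheme.{u}} {f : X' ⟶ X}

/-- Every nonempty clopen subset of every cover meets the image of the pulled back cover. -/
def MeetsClopens (f : X' ⟶ X) : Prop :=
  ∀ (Y : FEt.Cat X) (C : Set Y.left), IsClopen C → C.Nonempty →
    ∃ z : (pullback Y.hom f : Scheme.{u}), pullback.fst Y.hom f z ∈ C

/-- Every clopen subset of a pulled back cover is the preimage of a clopen subset. -/
def LiftsClopens (f : X' ⟶ X) : Prop :=
  ∀ (Y : FEt.Cat X) (C₀ : Set (pullback Y.hom f : Scheme.{u})), IsClopen C₀ →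
    ∃ C : Set Y.left, IsClopen C ∧ pullback.fst Y.hom f ⁻¹' C = C₀

set_option backward.isDefEq.respectTransparency.types false in
theorem faithful_of_meets (h : MeetsClopens f) : (FEt.restrict f).Faithful where
  map_injective {A B φ ψ} e := by
    apply MorphismProperty.Over.Hom.ext
    obtain ⟨W, hW, hmem, hcl⟩ :=
      Unr55.exists_eqLocus B.hom φ.left ψ.left ((w_left φ).trans (w_left ψ).symm)
    have hW' : W = ⊤ := by
      refine TopologicalSpace.Opens.ext (Set.compl_empty_iff.mp ?_)
      by_contra hne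
      obtain ⟨z, hz⟩ := h A _ (IsClopen.compl ⟨hcl inferInstance, W.2⟩)
        (Set.nonempty_iff_ne_empty.mpr hne)
      refine hz (hmem (pullback.fst A.hom f) ?_ ⟨z, rfl⟩)
      have h1 := congrArg (fun k => k.left ≫ pullback.fst B.hom f) e
      exact (pullback.lift_fst _ _ _).symm.trans (h1.trans (pullback.lift_fst _ _ _))
    subst hW'
    exact (cancel_epi (Scheme.topIso A.left).hom).mp hW

set_option backward.isDefEq.respectTransparency.types false in
theorem exists_descended_hom (h : MeetsClopens f) (h' : LiftsClopens f) {A B : Scheme.{u}}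
    (pa : A ⟶ X) (pb : B ⟶ X) [IsFinite pa] [Etale pa] [IsFinite pb] [Etale pb]
    (ψ : pullback pa f ⟶ pullback pb f) (hψ : ψ ≫ pullback.snd pb f = pullback.snd pa f) :
    ∃ φ : A ⟶ B, φ ≫ pb = pa ∧ pullback.fst pa f ≫ φ = ψ ≫ pullback.fst pb f := by
  let a := pullback.fst pa pb
  let b := pullback.snd pa pb
  let p := a ≫ pa
  let q := pullback.fst p f
  let fA := pullback.fst pa f
  let fB := pullback.fst pb f
  let pr : pullback p f ⟶ pullback pa f :=
    pullback.lift (q ≫ a) (pullback.snd p f) ((Category.assoc _ _ _).trans pullback.condition)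
  have hg : fA ≫ pa = (ψ ≫ fB) ≫ pb := by
    rw [Category.assoc, pullback.condition, pullback.condition, reassoc_of% hψ]
  let g₀ : pullback pa f ⟶ pullback p f :=
    pullback.lift (pullback.lift fA (ψ ≫ fB) hg) (pullback.snd pa f) (by
      show _ ≫ a ≫ pa = _
      rw [pullback.lift_fst_assoc]
      exact pullback.condition)
  have hq : g₀ ≫ q = pullback.lift fA (ψ ≫ fB) hg := pullback.lift_fst _ _ _
  have hgpr : g₀ ≫ pr = 𝟙 _ := by
    refine pullback.hom_ext ?_ ?_
    · rw [Category.assoc, pullback.lift_fst, reassoc_of% hq, pullback.lift_fst, Category.id_comp]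
    · rw [Category.assoc, pullback.lift_snd, pullback.lift_snd, Category.id_comp]
  have sq : IsPullback pr q fA a := by
    refine (IsPullback.of_right (h₁₂ := pullback.snd pa f) (v₁₃ := f) (h₂₂ := pa) ?_
      (pullback.lift_fst _ _ _) ?_)
    · rw [pullback.lift_snd]
      exact (IsPullback.of_hasPullback p f).flip
    · exact (IsPullback.of_hasPullback pa f).flip
  have : IsFinite pr := MorphismProperty.of_isPullback sq.flip inferInstance
  have : Etale pr := MorphismProperty.of_isPullback sq.flip inferInstance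
  have : IsFinite (g₀ ≫ pr) := by rw [hgpr]; infer_instance
  have : Etale (g₀ ≫ pr) := by rw [hgpr]; infer_instance
  have : Mono (g₀ ≫ pr) := by rw [hgpr]; infer_instance
  have : Mono g₀ := mono_of_mono g₀ pr
  have : IsFinite g₀ := IsFinite.of_comp g₀ pr
  have : Etale g₀ := Etale.of_comp g₀ pr
  have : IsOpenImmersion g₀ := IsOpenImmersion.of_flat_of_mono g₀
  obtain ⟨C, hC, hC₀⟩ := h' (MorphismProperty.Over.mk ⊤ p ⟨inferInstance, inferInstance⟩) _
    ⟨g₀.isClosedMap.isClosed_range, g₀.opensRange.2⟩
  let W : (pullback pa pb).Opens := ⟨C, hC.2⟩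
  have hW : q ⁻¹ᵁ W = g₀.opensRange := TopologicalSpace.Opens.ext hC₀
  have : IsClosedImmersion W.ι := .of_isPreimmersion W.ι (by
    rw [Scheme.Opens.range_ι]; exact hC.1)
  let π : W.toScheme ⟶ A := W.ι ≫ a
  have hbc : IsPullback ((q ⁻¹ᵁ W).ι ≫ pr) (q ∣_ W) fA π :=
    (isPullback_morphismRestrict q W).flip.paste_horiz sq
  have hiso : IsIso ((q ⁻¹ᵁ W).ι ≫ pr) := by
    rw [hW]
    have h1 : g₀.isoOpensRange.hom ≫ g₀.opensRange.ι ≫ pr = 𝟙 _ := by
      rw [Scheme.Hom.isoOpensRange_hom_ι_assoc, hgpr]
    rw [← IsIso.eq_inv_comp, Category.comp_id] at h1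
    rw [h1]
    infer_instance
  have : IsIso π := by
    rw [Scheme.Hom.isIso_iff_finrank_eq]
    by_contra hne
    obtain ⟨y₀, hy₀⟩ := Function.ne_iff.mp hne
    obtain ⟨z, hz⟩ := h (MorphismProperty.Over.mk ⊤ pa ⟨inferInstance, inferInstance⟩)
      {y | π.finrank y ≠ 1}
      ((Scheme.Hom.isLocallyConstant_finrank π).isClopen_fiber 1).compl ⟨y₀, hy₀⟩
    apply hz
    show π.finrank (fA z) = 1
    rw [← Scheme.Hom.finrank_of_isPullback (f := π) (g := fA) (q ∣_ W) ((q ⁻¹ᵁ W).ι ≫ pr) hbc.flip z,
      Scheme.Hom.finrank_eq_one_of_isIso]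
    rfl
  let t : pullback pa f ⟶ W.toScheme := IsOpenImmersion.lift W.ι (g₀ ≫ q) (by
    rw [Scheme.Opens.range_ι]
    rintro _ ⟨x, rfl⟩
    exact hC₀.ge ⟨x, rfl⟩)
  have ht : t ≫ W.ι = g₀ ≫ q := IsOpenImmersion.lift_fac _ _ _
  have ht' : t = fA ≫ inv π := by
    rw [IsIso.eq_comp_inv, reassoc_of% ht, reassoc_of% hq, pullback.lift_fst]
  refine ⟨inv π ≫ W.ι ≫ b, ?_, ?_⟩
  · rw [Category.assoc, Category.assoc, ← pullback.condition, IsIso.inv_comp_eq, Category.assoc]
  · rw [← Category.assoc, ← ht', reassoc_of% ht, reassoc_of% hq, pullback.lift_snd]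

set_option backward.isDefEq.respectTransparency.types false in
theorem full_of_lifts (h : MeetsClopens f) (h' : LiftsClopens f) : (FEt.restrict f).Full where
  map_surjective {A B} ψ := by
    obtain ⟨φ, hφ, hφ'⟩ := exists_descended_hom h h' A.hom B.hom ψ.left (w_left ψ)
    exact ⟨MorphismProperty.Over.homMk φ hφ, MorphismProperty.Over.Hom.ext <| pullback.hom_ext
      ((pullback.lift_fst _ _ _).trans hφ') ((pullback.lift_snd _ _ _).trans (w_left ψ).symm)⟩

set_option backward.isDefEq.respectTransparency.types false in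
/-- The image of a clopen subset of a cover is clopen. -/
theorem isClopen_image (Y : FEt.Cat X) {C : Set Y.left} (hC : IsClopen C) :
    IsClopen (Y.hom '' C : Set X) :=
  ⟨Y.hom.isClosedMap _ hC.1, Y.hom.isOpenMap _ hC.2⟩

set_option backward.isDefEq.respectTransparency.types false in
/-- A point of a cover over a point of the image of `f` is in the image of the pulled back
cover. -/
theorem exists_point (Y : FEt.Cat X) {y : Y.left} {x : X'} (h : Y.hom y = f x) :
    ∃ z : (pullback Y.hom f : Scheme.{u}), pullback.fst Y.hom f z = y := by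
  obtain ⟨z, hz, -⟩ := Scheme.Pullback.exists_preimage_pullback y x h
  exact ⟨z, hz⟩

set_option backward.isDefEq.respectTransparency.types false in
theorem meetsClopens_of_components
    (h : ∀ x : X, (connectedComponent x ∩ Set.range f).Nonempty) : MeetsClopens f := by
  intro Y C hC hne
  obtain ⟨y, hy⟩ := hne
  obtain ⟨_, hx, x', rfl⟩ := h (Y.hom y)
  obtain ⟨y', hy', e⟩ :=
    (isClopen_image Y hC).connectedComponent_subset (Set.mem_image_of_mem _ hy) hx
  obtain ⟨z, hz⟩ := exists_point Y e
  exact ⟨z, by rwa [hz]⟩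

set_option backward.isDefEq.respectTransparency.types false in
theorem meetsClopens_of_denseRange (h : DenseRange f) : MeetsClopens f := by
  intro Y C hC hne
  obtain ⟨_, ⟨y, hy, rfl⟩, x, hx⟩ :=
    h.inter_open_nonempty _ (isClopen_image Y hC).2 (hne.image Y.hom)
  obtain ⟨z, hz⟩ := exists_point Y hx.symm
  exact ⟨z, by rwa [hz]⟩

end Groth.Agent.FEt83
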