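import Groth.Agent.FEt83.RegularGlue

/-!
# Gluing local extensions when restriction is fully faithful
-/

universe u

open CategoryTheory Limits AlgebraicGeometry TopologicalSpace

namespace Groth.Agent.FEt83.FF

variable {X : Scheme.{u}} {U : X.Opens}
  (hFF : ∀ W : X.Opens, (FEt.restrict (W.ι ⁻¹ᵁ U).ι).Full ∧ (FEt.restrict (W.ι ⁻¹ᵁ U).ι).Faithful)

include hFF

section
variable {E : FEt.Cat (U : Scheme.{u})}

set_option backward.isDefEq.respectTransparency.types false in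
/-- Maps between extensions are determined by their restriction. -/
theorem piece_hom_ext {W : X.Opens} (P : Piece U E W) (T : FEt.Cat (W : Scheme.{u}))
    {φ ψ : P.T ⟶ T} (h : P.a ≫ φ.left = P.a ≫ ψ.left) : φ = ψ := by
  have := P.isOpenImmersion
  have := (hFF W).2
  refine (FEt.restrict (W.ι ⁻¹ᵁ U).ι).map_injective (MorphismProperty.Over.Hom.ext ?_)
  have hrl : Set.range (pullback.fst P.T.hom (W.ι ⁻¹ᵁ U).ι) ⊆ Set.range P.a := by
    rw [Scheme.Pullback.range_fst, P.range_eq, Scheme.Opens.range_ι]; rfl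
  let l := IsOpenImmersion.lift P.a (pullback.fst P.T.hom (W.ι ⁻¹ᵁ U).ι) hrl
  have hl : l ≫ P.a = pullback.fst P.T.hom (W.ι ⁻¹ᵁ U).ι := IsOpenImmersion.lift_fac _ _ _
  refine pullback.hom_ext ?_ ?_
  · refine (pullback.lift_fst _ _ _).trans (Eq.trans ?_ (pullback.lift_fst _ _ _).symm)
    rw [← hl]
    exact (Category.assoc _ _ _).trans ((congrArg (l ≫ ·) h).trans (Category.assoc _ _ _).symm)
  · exact (pullback.lift_snd _ _ _).trans (pullback.lift_snd _ _ _).symm

set_option backward.isDefEq.respectTransparency.types false in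
/-- Two pieces over the same open are related by a unique map. -/
theorem exists_piece_hom {W : X.Opens} (P Q : Piece U E W) :
    ∃ φ : P.T ⟶ Q.T, P.a ≫ φ.left = Q.a := by
  have := P.isOpenImmersion
  have := (hFF W).1
  have hrl : Set.range (pullback.fst P.T.hom (W.ι ⁻¹ᵁ U).ι) ⊆ Set.range P.a := by
    rw [Scheme.Pullback.range_fst, P.range_eq, Scheme.Opens.range_ι]; rfl
  let l := IsOpenImmersion.lift P.a (pullback.fst P.T.hom (W.ι ⁻¹ᵁ U).ι) hrl
  have hl : l ≫ P.a = pullback.fst P.T.hom (W.ι ⁻¹ᵁ U).ι := IsOpenImmersion.lift_fac _ _ _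
  have hw : (l ≫ Q.a) ≫ Q.T.hom = pullback.snd P.T.hom (W.ι ⁻¹ᵁ U).ι ≫ (W.ι ⁻¹ᵁ U).ι := by
    refine (Category.assoc _ _ _).trans ((congrArg (l ≫ ·) Q.fac).trans ?_)
    refine (congrArg (l ≫ ·) P.fac.symm).trans ((Category.assoc _ _ _).symm.trans ?_)
    exact (congrArg (· ≫ P.T.hom) hl).trans pullback.condition
  let ψ : (FEt.restrict (W.ι ⁻¹ᵁ U).ι).obj P.T ⟶ (FEt.restrict (W.ι ⁻¹ᵁ U).ι).obj Q.T :=
    MorphismProperty.Over.homMk (pullback.lift (l ≫ Q.a) (pullback.snd _ _) hw)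
      (pullback.lift_snd _ _ _)
  obtain ⟨φ, hφ⟩ := (FEt.restrict (W.ι ⁻¹ᵁ U).ι).map_surjective ψ
  refine ⟨φ, ?_⟩
  have hu : Set.range (coverToX U E ∣_ W) ⊆ Set.range (W.ι ⁻¹ᵁ U).ι := by
    rintro _ ⟨p, rfl⟩
    rw [Scheme.Opens.range_ι]
    show W.ι _ ∈ U
    rw [← Scheme.Hom.comp_apply, morphismRestrict_ι]
    exact (E.hom _).2
  let s := pullback.lift P.a (IsOpenImmersion.lift (W.ι ⁻¹ᵁ U).ι (coverToX U E ∣_ W) hu)
    (P.fac.trans (IsOpenImmersion.lift_fac _ _ _).symm)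
  have hs : s ≫ l = 𝟙 _ := by
    rw [← cancel_mono P.a, Category.assoc, hl, Category.id_comp]
    exact pullback.lift_fst _ _ _
  have h := congrArg (fun t : (FEt.restrict (W.ι ⁻¹ᵁ U).ι).obj P.T ⟶ _ =>
    s ≫ t.left ≫ pullback.fst Q.T.hom (W.ι ⁻¹ᵁ U).ι) hφ
  refine Eq.trans ?_ ((h.trans ((congrArg (s ≫ ·) (pullback.lift_fst _ _ _)).trans
    ((Category.assoc _ _ _).symm.trans ((congrArg (· ≫ Q.a) hs).trans (Category.id_comp _))))))
  refine (congrArg (· ≫ φ.left) (show s ≫ pullback.fst P.T.hom (W.ι ⁻¹ᵁ U).ι = P.a from pullback.lift_fst _ _ _).symm).trans ?_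
  refine (Category.assoc _ _ _).trans (congrArg (s ≫ ·) ?_)
  exact (pullback.lift_fst (f := Q.T.hom) (g := (W.ι ⁻¹ᵁ U).ι) _ _ _).symm

set_option backward.isDefEq.respectTransparency.types false in
/-- The transition maps between pieces. -/
theorem exists_transition {W W' : X.Opens} (i : W' ≤ W) (P' : Piece U E W') (P : Piece U E W) :
    ∃ m : P'.T.left ⟶ P.T.left, m ≫ P.T.hom = P'.T.hom ≫ X.homOfLE i ∧
      P'.a ≫ m = E.left.homOfLE ((coverToX U E).preimage_mono i) ≫ P.a ∧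
      IsPullback m P'.T.hom P.T.hom (X.homOfLE i) := by
  obtain ⟨Q, -, m, hm, ha, hpb⟩ := exists_piece_baseChange i P
  obtain ⟨φ, hφ⟩ := exists_piece_hom hFF P' Q
  obtain ⟨ψ, hψ⟩ := exists_piece_hom hFF Q P'
  have h1 : φ ≫ ψ = 𝟙 _ := piece_hom_ext hFF P' _ (by
    refine (Category.assoc _ _ _).symm.trans ((congrArg (· ≫ ψ.left) hφ).trans (hψ.trans ?_))
    exact (Category.comp_id _).symm)
  have h2 : ψ ≫ φ = 𝟙 _ := piece_hom_ext hFF Q _ (by
    refine (Category.assoc _ _ _).symm.trans ((congrArg (· ≫ φ.left) hψ).trans (hφ.trans ?_))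
    exact (Category.comp_id _).symm)
  let e : P'.T ≅ Q.T := ⟨φ, ψ, h1, h2⟩
  have : IsIso φ.left :=
    ((MorphismProperty.Over.forget _ _ _ ⋙ CategoryTheory.Over.forget _).mapIso e).isIso_hom
  have hw : φ.left ≫ Q.T.hom = P'.T.hom := Over.w φ.hom
  refine ⟨φ.left ≫ m, ?_, ?_, ?_⟩
  · exact (Category.assoc _ _ _).trans ((congrArg (φ.left ≫ ·) hm).trans
      ((Category.assoc _ _ _).symm.trans (congrArg (· ≫ X.homOfLE i) hw)))
  · exact ((Category.assoc _ _ _).symm.trans ((congrArg (· ≫ m) hφ).trans ha))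
  · exact IsPullback.of_iso hpb (@asIso _ _ _ _ φ.left ‹_›).symm (Iso.refl _) (Iso.refl _)
      (Iso.refl _)
      ((Category.comp_id m).trans ((congrArg (· ≫ m) (IsIso.inv_hom_id φ.left)).trans
        (Category.id_comp m) |>.symm.trans (Category.assoc _ _ _)))
      ((Category.comp_id _).trans (((IsIso.inv_comp_eq φ.left).mpr hw.symm).symm))
      ((Category.comp_id _).trans (Category.id_comp _).symm)
      ((Category.comp_id _).trans (Category.id_comp _).symm)

set_option backward.isDefEq.respectTransparency.types false in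
/-- Transition maps are unique. -/
theorem transition_unique {W W' : X.Opens} (i : W' ≤ W) (P' : Piece U E W') (P : Piece U E W)
    {m₁ m₂ : P'.T.left ⟶ P.T.left} (h₁ : m₁ ≫ P.T.hom = P'.T.hom ≫ X.homOfLE i)
    (h₂ : m₂ ≫ P.T.hom = P'.T.hom ≫ X.homOfLE i) (h : P'.a ≫ m₁ = P'.a ≫ m₂) : m₁ = m₂ := by
  let φ₁ : P'.T ⟶ (FEt.restrict (X.homOfLE i)).obj P.T :=
    MorphismProperty.Over.homMk (pullback.lift m₁ P'.T.hom h₁) (pullback.lift_snd _ _ _)
  let φ₂ : P'.T ⟶ (FEt.restrict (X.homOfLE i)).obj P.T :=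
    MorphismProperty.Over.homMk (pullback.lift m₂ P'.T.hom h₂) (pullback.lift_snd _ _ _)
  have e : φ₁ = φ₂ := piece_hom_ext hFF P' _ (by
    refine pullback.hom_ext ?_ ?_
    · refine (Category.assoc _ _ _).trans (((congrArg (P'.a ≫ ·) (pullback.lift_fst _ _ _)).trans
        (h.trans ((congrArg (P'.a ≫ ·) (pullback.lift_fst _ _ _)).symm))).trans
        (Category.assoc _ _ _).symm)
    · exact (Category.assoc _ _ _).trans (((congrArg (P'.a ≫ ·) (pullback.lift_snd _ _ _)).trans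
        (congrArg (P'.a ≫ ·) (pullback.lift_snd _ _ _)).symm).trans (Category.assoc _ _ _).symm))
  exact ((pullback.lift_fst _ _ _).symm.trans
    ((congrArg (fun t : P'.T ⟶ _ => t.left ≫ pullback.fst _ _) e))).trans (pullback.lift_fst _ _ _)

end

set_option backward.isDefEq.respectTransparency.types false in
set_option backward.defeqAttrib.useBackward true in
/-- Local extensions of a cover glue when restriction is fully faithful. -/
theorem exists_extension_of_local (E : FEt.Cat (U : Scheme.{u}))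
    (hloc : ∀ W : X.AffineZariskiSite, ∃ (O : X.Opens) (hle : U ≤ O) (Z : FEt.Cat (O : Scheme.{u})),
      W.1 ≤ O ∧ Nonempty ((FEt.restrict (X.homOfLE hle)).obj Z ≅ E)) :
    ∃ Y' : FEt.Cat X, Nonempty ((FEt.restrict U.ι).obj Y' ≅ E) := by
  have hpiece : ∀ W : X.AffineZariskiSite, Nonempty (Piece U E W.1) := fun W => by
    obtain ⟨O, hle, Z, hWO, ⟨e⟩⟩ := hloc W
    obtain ⟨P⟩ := nonempty_piece_of_ext hle Z e
    obtain ⟨P', -⟩ := exists_piece_baseChange hWO P
    exact ⟨P'⟩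
  let P := fun W => (hpiece W).some
  choose m hm ha hpb using fun (W' W : X.AffineZariskiSite) (i : W' ≤ W) =>
    exists_transition hFF (Scheme.AffineZariskiSite.toOpens_mono i) (P W') (P W)
  have huniq := fun (W' W : X.AffineZariskiSite) (i : W' ≤ W)
      (m₁ : (P W').T.left ⟶ (P W).T.left)
      (h₁ : m₁ ≫ (P W).T.hom = (P W').T.hom ≫ X.homOfLE (Scheme.AffineZariskiSite.toOpens_mono i))
      (h : (P W').a ≫ m₁ = E.left.homOfLE ((coverToX U E).preimage_mono
        (Scheme.AffineZariskiSite.toOpens_mono i)) ≫ (P W).a) =>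
    transition_unique hFF (Scheme.AffineZariskiSite.toOpens_mono i) (P W') (P W) h₁ (hm W' W i)
      (h.trans (ha W' W i).symm)
  let F : X.AffineZariskiSite ⥤ Scheme.{u} :=
    { obj := fun W => (P W).T.left
      map := fun {W' W} i => m W' W i.le
      map_id := fun W => (huniq W W le_rfl (𝟙 _)
          ((Category.id_comp _).trans ((congrArg (_ ≫ ·) (X.homOfLE_rfl _)).trans (Category.comp_id _)).symm)
          ((Category.comp_id _).trans ((congrArg (· ≫ _) (E.left.homOfLE_rfl _)).trans (Category.id_comp _)).symm)).symm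
      map_comp := fun {W₁ W₂ W₃} i j => (huniq W₁ W₃ (i ≫ j).le _ (by
          refine (Category.assoc _ _ _).trans ((congrArg (m W₁ W₂ i.le ≫ ·) (hm W₂ W₃ j.le)).trans ?_)
          refine (Category.assoc _ _ _).symm.trans ((congrArg (· ≫ _) (hm W₁ W₂ i.le)).trans ?_)
          exact (Category.assoc _ _ _).trans (congrArg (_ ≫ ·) (X.homOfLE_homOfLE _ _))) (by
          refine (Category.assoc _ _ _).symm.trans ((congrArg (· ≫ _) (ha W₁ W₂ i.le)).trans ?_)
          refine (Category.assoc _ _ _).trans ((congrArg (_ ≫ ·) (ha W₂ W₃ j.le)).trans ?_)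
          exact (Category.assoc _ _ _).symm.trans (congrArg (· ≫ _) (E.left.homOfLE_homOfLE _ _)))).symm }
  let d : (Scheme.AffineZariskiSite.directedCover X).RelativeGluingData :=
    { functor := F
      natTrans :=
        { app := fun W => (P W).T.hom
          naturality := fun W' W i => hm W' W i.le }
      equifibered := fun {W' W} i => hpb W' W i.le }
  -- the glued cover
  have : (d.functor ⋙ Scheme.forget).IsLocallyDirected :=
    Scheme.Cover.RelativeGluingData.instIsLocallyDirectedI₀CompFunctorForgetOfIsThin ..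
  have : ∀ {i j : X.AffineZariskiSite} (f : i ⟶ j), IsOpenImmersion (d.functor.map f) :=
    fun f => MorphismProperty.of_isPullback (P := @IsOpenImmersion) (hpb _ _ f.le).flip inferInstance
  have hcol : HasColimit d.functor := inferInstance
  let G := d.glued
  let q : G ⟶ X := d.toBase
  have hsq : ∀ W : X.AffineZariskiSite,
      IsPullback (P W).T.hom (colimit.ι d.functor W) W.1.ι q := fun W => d.isPullback_natTrans_ι_toBase W
  have hq : FEt.prop q := by
    have h1 : IsFinite q := by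
      rw [IsZariskiLocalAtTarget.iff_of_openCover (P := @IsFinite)
        (Scheme.AffineZariskiSite.directedCover X)]
      intro W
      have h := (hsq W).flip
      exact (MorphismProperty.cancel_left_of_respectsIso @IsFinite h.isoPullback.hom _).mp
        (Eq.subst (motive := fun t => IsFinite t) h.isoPullback_hom_snd.symm (P W).T.prop.1)
    have h2 : Etale q := by
      rw [IsZariskiLocalAtTarget.iff_of_openCover (P := @Etale)
        (Scheme.AffineZariskiSite.directedCover X)]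
      intro W
      have h := (hsq W).flip
      exact (MorphismProperty.cancel_left_of_respectsIso @Etale h.isoPullback.hom _).mp
        (Eq.subst (motive := fun t => Etale t) h.isoPullback_hom_snd.symm (P W).T.prop.2)
    exact ⟨h1, h2⟩
  -- the inclusion of the original cover
  let g := coverToX U E
  have hcovE : IsOpenCover fun W : X.AffineZariskiSite => g ⁻¹ᵁ W.1 :=
    top_le_iff.mp fun p _ => by
      obtain ⟨W, hW⟩ := Opens.mem_iSup.mp ((iSup_affineOpens_eq_top X).ge (Set.mem_univ (g p)))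
      exact Opens.mem_iSup.mpr ⟨⟨W.1, W.2⟩, hW⟩
  have hnat : ∀ (W' W : X.AffineZariskiSite) (i : W' ≤ W),
      E.left.homOfLE (g.preimage_mono (Scheme.AffineZariskiSite.toOpens_mono i)) ≫ (P W).a ≫
        colimit.ι d.functor W = (P W').a ≫ colimit.ι d.functor W' := fun W' W i => by
    refine (Category.assoc _ _ _).symm.trans ((congrArg (· ≫ _) (ha W' W i).symm).trans ?_)
    exact (Category.assoc _ _ _).trans (congrArg (_ ≫ ·) (colimit.w d.functor (homOfLE i)))
  let 𝒰 := E.left.openCoverOfIsOpenCover _ hcovE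
  have hglue : ∀ W₁ W₂ : X.AffineZariskiSite,
      pullback.fst (g ⁻¹ᵁ W₁.1).ι (g ⁻¹ᵁ W₂.1).ι ≫ (P W₁).a ≫ colimit.ι d.functor W₁ =
        pullback.snd (g ⁻¹ᵁ W₁.1).ι (g ⁻¹ᵁ W₂.1).ι ≫ (P W₂).a ≫ colimit.ι d.functor W₂ := by
    intro W₁ W₂
    refine Scheme.hom_ext_of_forall _ _ fun z => ?_
    let p := (pullback.fst (g ⁻¹ᵁ W₁.1).ι (g ⁻¹ᵁ W₂.1).ι ≫ (g ⁻¹ᵁ W₁.1).ι) z
    have hp1 : g p ∈ W₁.1 := (pullback.fst (g ⁻¹ᵁ W₁.1).ι (g ⁻¹ᵁ W₂.1).ι z).2
    have hp2 : g p ∈ W₂.1 := by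
      show g ((pullback.fst _ _ ≫ (g ⁻¹ᵁ W₁.1).ι) z) ∈ W₂.1
      rw [pullback.condition]
      exact (pullback.snd (g ⁻¹ᵁ W₁.1).ι (g ⁻¹ᵁ W₂.1).ι z).2
    obtain ⟨f₁, f₂, e, hxf⟩ := exists_basicOpen_le_affine_inter W₁.2 W₂.2 _ ⟨hp1, hp2⟩
    let W' := W₁.basicOpen f₁
    have i₁ : W' ≤ W₁ := W₁.basicOpen_le f₁
    have i₂ : W' ≤ W₂ := ⟨f₂, e.symm⟩
    let o := (pullback.fst (g ⁻¹ᵁ W₁.1).ι (g ⁻¹ᵁ W₂.1).ι ≫ (g ⁻¹ᵁ W₁.1).ι) ⁻¹ᵁ (g ⁻¹ᵁ W'.1)
    refine ⟨o, hxf, ?_⟩
    let r : (o : Scheme.{u}) ⟶ (g ⁻¹ᵁ W'.1 : Scheme.{u}) := _ ∣_ (g ⁻¹ᵁ W'.1)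
    have hr : r ≫ (g ⁻¹ᵁ W'.1).ι = o.ι ≫ pullback.fst _ _ ≫ (g ⁻¹ᵁ W₁.1).ι := morphismRestrict_ι _ _
    have hr1 : r ≫ E.left.homOfLE (g.preimage_mono (Scheme.AffineZariskiSite.toOpens_mono i₁)) =
        o.ι ≫ pullback.fst _ _ := by
      rw [← cancel_mono (g ⁻¹ᵁ W₁.1).ι, Category.assoc, E.left.homOfLE_ι, hr, Category.assoc]
    have hr2 : r ≫ E.left.homOfLE (g.preimage_mono (Scheme.AffineZariskiSite.toOpens_mono i₂)) =
        o.ι ≫ pullback.snd _ _ := by
      rw [← cancel_mono (g ⁻¹ᵁ W₂.1).ι, Category.assoc, E.left.homOfLE_ι, hr, Category.assoc,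
        pullback.condition]
    refine ((Category.assoc _ _ _).symm.trans ((congrArg (· ≫ _) hr1.symm).trans ?_)).trans
      ((congrArg (· ≫ _) hr2).trans (Category.assoc _ _ _))
    refine (Category.assoc _ _ _).trans (((congrArg (r ≫ ·) (hnat W' W₁ i₁)).trans
      (congrArg (r ≫ ·) (hnat W' W₂ i₂)).symm).trans (Category.assoc _ _ _).symm)
  let b : E.left ⟶ G := 𝒰.glueMorphisms (fun W => (P W).a ≫ colimit.ι d.functor W) hglue
  have hb : ∀ W : X.AffineZariskiSite, (g ⁻¹ᵁ W.1).ι ≫ b = (P W).a ≫ colimit.ι d.functor W := fun W => 𝒰.ι_glueMorphisms _ hglue W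
  have hbq : b ≫ q = g := Scheme.Cover.hom_ext 𝒰 _ _ fun (W : X.AffineZariskiSite) => by
    show (g ⁻¹ᵁ W.1).ι ≫ b ≫ q = _
    refine (Category.assoc _ _ _).symm.trans ((congrArg (· ≫ q) (hb W)).trans ?_)
    refine (Category.assoc _ _ _).trans ((congrArg ((P W).a ≫ ·) (hsq W).w.symm).trans ?_)
    refine (Category.assoc _ _ _).symm.trans ((congrArg (· ≫ W.1.ι) (P W).fac).trans ?_)
    exact morphismRestrict_ι g W.1
  have hbW : ∀ W : X.AffineZariskiSite, IsOpenImmersion ((g ⁻¹ᵁ W.1).ι ≫ b) := fun W => by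
    rw [hb W]
    exact MorphismProperty.comp_mem (W := @IsOpenImmersion) _ _ (P W).isOpenImmersion
      (inferInstanceAs (IsOpenImmersion (colimit.ι d.functor W)))
  have hbinj : Function.Injective b := by
    intro p p' e
    have hg : g p = g p' := by rw [← hbq, Scheme.Hom.comp_apply, Scheme.Hom.comp_apply, e]
    obtain ⟨W, hW⟩ := Opens.mem_iSup.mp (hcovE.ge (Set.mem_univ p))
    have hW' : p' ∈ g ⁻¹ᵁ W.1 := (show g p' ∈ W.1 from hg ▸ hW)
    have := (hbW W).base_open.injective (a₁ := ⟨p, hW⟩) (a₂ := ⟨p', hW'⟩) e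
    exact congrArg Subtype.val this
  have hbopen : IsOpenMap b := fun s hs => by
    rw [show b '' s = ⋃ W : X.AffineZariskiSite, ((g ⁻¹ᵁ W.1).ι ≫ b) '' ((g ⁻¹ᵁ W.1).ι ⁻¹' s) from ?_]
    · exact isOpen_iUnion fun W => (hbW W).base_open.isOpenMap _ (hs.preimage (Scheme.Hom.continuous _))
    ext y
    constructor
    · rintro ⟨p, hp, rfl⟩
      obtain ⟨W, hW⟩ := Opens.mem_iSup.mp (hcovE.ge (Set.mem_univ p))
      exact Set.mem_iUnion.mpr ⟨W, ⟨p, hW⟩, hp, rfl⟩
    · intro hy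
      obtain ⟨W, ⟨p, hW⟩, hp, rfl⟩ := Set.mem_iUnion.mp hy
      exact ⟨p, hp, rfl⟩
  have : IsOpenImmersion b := by
    have : ∀ p : E.left, IsIso (b.stalkMap p) := fun p => by
      obtain ⟨W, hW⟩ := Opens.mem_iSup.mp (hcovE.ge (Set.mem_univ p))
      have := hbW W
      have h : IsIso (((g ⁻¹ᵁ W.1).ι ≫ b).stalkMap ⟨p, hW⟩) :=
        (IsOpenImmersion.iff_isIso_stalkMap.mp (hbW W)).2 _
      rw [Scheme.Hom.stalkMap_comp] at h
      have hi : IsIso ((g ⁻¹ᵁ W.1).ι.stalkMap ⟨p, hW⟩) :=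
        (IsOpenImmersion.iff_isIso_stalkMap.mp inferInstance).2 _
      exact @IsIso.of_isIso_comp_right _ _ _ _ _ (b.stalkMap ((g ⁻¹ᵁ W.1).ι ⟨p, hW⟩))
        ((g ⁻¹ᵁ W.1).ι.stalkMap ⟨p, hW⟩) hi h
    exact IsOpenImmersion.of_isIso_stalkMap b
      (.of_continuous_injective_isOpenMap b.continuous hbinj hbopen)
  let c : E.left ⟶ pullback q U.ι := pullback.lift b E.hom hbq
  have hfst : IsOpenImmersion (pullback.fst q U.ι) :=
    MorphismProperty.pullback_fst (P := @IsOpenImmersion) _ _ inferInstance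
  have hc : c ≫ pullback.fst q U.ι = b := pullback.lift_fst _ _ _
  have : IsOpenImmersion (c ≫ pullback.fst q U.ι) := hc.symm ▸ ‹IsOpenImmersion b›
  have : IsOpenImmersion c := IsOpenImmersion.of_comp c (pullback.fst q U.ι)
  have hsurj : Function.Surjective c := fun z => by
    let y := pullback.fst q U.ι z
    have hy : q y ∈ U := by
      have := congr($(pullback.condition (f := q) (g := U.ι)).base z)
      exact (show U.ι (pullback.snd q U.ι z) ∈ U from (pullback.snd q U.ι z).2) |> fun h =>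
        (show q y = U.ι (pullback.snd q U.ι z) from this).symm ▸ h
    obtain ⟨W, hW⟩ := Opens.mem_iSup.mp ((iSup_affineOpens_eq_top X).ge (Set.mem_univ (q y)))
    obtain ⟨t, -, ht⟩ := Scheme.exists_preimage_of_isPullback (hsq ⟨W.1, W.2⟩) ⟨q y, hW⟩ y rfl
    have : (⟨q y, hW⟩ : W.1) = (P ⟨W.1, W.2⟩).T.hom t := by
      refine Subtype.ext ?_
      have h := congr($((hsq ⟨W.1, W.2⟩).w).base t)
      exact (congrArg q ht).symm.trans h.symm
    obtain ⟨p, hp⟩ : t ∈ Set.range (P ⟨W.1, W.2⟩).a := by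
      rw [(P ⟨W.1, W.2⟩).range_eq]
      show ((P ⟨W.1, W.2⟩).T.hom t).1 ∈ U
      rw [← this]
      exact hy
    refine ⟨(g ⁻¹ᵁ W.1).ι p, (pullback.fst q U.ι).isOpenEmbedding.injective ?_⟩
    refine congr($(hc).base _).trans ?_
    exact congr($(hb ⟨W.1, W.2⟩).base p).trans ((congrArg _ hp).trans ht)
  have : Surjective c := ⟨hsurj⟩
  have : IsIso c := (isIso_iff_isOpenImmersion_and_surjective c).mpr ⟨‹_›, ‹_›⟩
  exact ⟨MorphismProperty.Over.mk ⊤ q hq,
    ⟨(MorphismProperty.Over.isoMk (@asIso _ _ _ _ c ‹_›) (pullback.lift_snd _ _ _) :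
      E ≅ (FEt.restrict U.ι).obj (MorphismProperty.Over.mk ⊤ q hq)).symm⟩⟩

end Groth.Agent.FEt83.FF
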