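import Groth.Agent.FEt83.PurityExtend
import Groth.Agent.Pure83.Regular
import Groth.Agent.FDesc60.Topo2
import Mathlib.RingTheory.KrullDimension.Field

/-!
# Extending over regular points a cover unramified in codimension one
-/

universe u

open CategoryTheory Limits AlgebraicGeometry TopologicalSpace

namespace Groth.Agent.FEt83

set_option backward.isDefEq.respectTransparency.types false in
/-- A cover extends to the local scheme at a maximal missing point. -/
theorem exists_local_extension {X : Scheme.{u}} [IsLocallyNoetherian X] (U : X.Opens)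
    (hU : Dense (U : Set X)) (E : FEt.Cat (U : Scheme.{u}))
    (hreg : ∀ x : X, x ∉ U → IsRegularLocalRing (X.presheaf.stalk x))
    (hunr : ∀ ξ : X, ξ ∉ U → ringKrullDim (X.presheaf.stalk ξ) = 1 →
      ∃ Yξ : FEt.Cat (Spec (X.presheaf.stalk ξ)),
        Nonempty ((FEt.restrict (pullback.snd U.ι (X.fromSpecStalk ξ))).obj Yξ ≅
          (FEt.restrict (pullback.fst U.ι (X.fromSpecStalk ξ))).obj E))
    (O : X.Opens) (hle : U ≤ O) (x : X) (hx : x ∉ O) (hgen : ∀ y, y ∉ O → y ⤳ x → y = x)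
    (Z : FEt.Cat (O : Scheme.{u})) (eZ : (FEt.restrict (X.homOfLE hle)).obj Z ≅ E) :
    ∃ Y : FEt.Cat (Spec (X.presheaf.stalk x)),
      Nonempty ((FEt.restrict ((X.fromSpecStalk x) ⁻¹ᵁ O).ι).obj Y ≅
        (FEt.restrict (X.fromSpecStalk x ∣_ O)).obj Z) := by
  have hxU : x ∉ U := fun h => hx (hle h)
  have := hreg x hxU
  have := CAlg1.isDomain_regular (X.presheaf.stalk x)
  by_cases h2 : (2 : WithBot ℕ∞) ≤ ringKrullDim (X.presheaf.stalk x)
  · have hess : (FEt.restrict ((X.fromSpecStalk x) ⁻¹ᵁ O).ι).EssSurj := by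
      rw [preimage_eq_punctured O x hx hgen]; exact Pure83.purityHolds_of_regular _ h2
    exact hess.mem_essImage _
  · have hds := IsRegularLocalRing.spanFinrank_maximalIdeal (R := X.presheaf.stalk x)
    -- every point outside the closed one is in `U`
    let η : PrimeSpectrum (X.presheaf.stalk x) := ⟨⊥, Ideal.isPrime_bot⟩
    have hη : X.fromSpecStalk x η ∈ U := by
      by_contra hn
      obtain ⟨u', hux⟩ := FDesc60.exists_specializes_of_mem_closure_range U.ι
        (y := X.fromSpecStalk x η) (by rw [Scheme.Opens.range_ι]; exact hU _)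
      have hu : U.ι u' ∈ U := u'.2
      set u := U.ι u'
      have hs : X.fromSpecStalk x η ⤳ x :=
        (Scheme.range_fromSpecStalk (X := X) (x := x)).le ⟨η, rfl⟩
      obtain ⟨z, hz⟩ : u ∈ Set.range (X.fromSpecStalk x) := by
        rw [Scheme.range_fromSpecStalk]; exact hux.trans hs
      have hzη : z ⤳ η := (X.fromSpecStalk x).isEmbedding.isInducing.specializes_iff.mp (hz ▸ hux)
      have : z = η := (hzη.antisymm ((PrimeSpectrum.le_iff_specializes η z).mp bot_le)).eq
      exact hn (this ▸ hz ▸ hu)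
    have hd1 : ringKrullDim (X.presheaf.stalk x) = 1 := by
      rw [← hds] at h2 ⊢
      have hlt : (IsLocalRing.maximalIdeal (X.presheaf.stalk x)).spanFinrank < 2 := by
        by_contra hn
        exact h2 (by exact_mod_cast (Nat.le_of_not_lt hn))
      have hne : (IsLocalRing.maximalIdeal (X.presheaf.stalk x)).spanFinrank ≠ 0 := fun h0 => by
        rw [Submodule.spanFinrank_eq_zero_iff_eq_bot (IsNoetherian.noetherian _)] at h0
        have : η = IsLocalRing.closedPoint (X.presheaf.stalk x) := PrimeSpectrum.ext h0.symm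
        rw [this, Scheme.fromSpecStalk_closedPoint] at hη
        exact hxU hη
      have : (IsLocalRing.maximalIdeal (X.presheaf.stalk x)).spanFinrank = 1 := by omega
      rw [this]; rfl
    obtain ⟨Yξ, ⟨eξ⟩⟩ := hunr x hxU hd1
    let P0 : (Spec (X.presheaf.stalk x)).Opens := (X.fromSpecStalk x) ⁻¹ᵁ O
    have hP : ∀ z : Spec (X.presheaf.stalk x), z ∈ P0 → X.fromSpecStalk x z ∈ U := by
      intro z hz
      have hzc : z.asIdeal ≠ IsLocalRing.maximalIdeal (X.presheaf.stalk x) := fun e => hx (by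
        have : z = IsLocalRing.closedPoint (X.presheaf.stalk x) := PrimeSpectrum.ext e
        rw [this] at hz
        have h' : X.fromSpecStalk x (IsLocalRing.closedPoint (X.presheaf.stalk x)) ∈ O := hz
        rwa [Scheme.fromSpecStalk_closedPoint] at h')
      have hz0 : z = η := by
        refine PrimeSpectrum.ext (by_contra fun hne => hzc ?_)
        have : Ring.KrullDimLE 1 (X.presheaf.stalk x) := Ring.krullDimLE_iff.mpr hd1.le
        exact IsLocalRing.eq_maximalIdeal
          (Ring.krullDimLE_one_iff_of_isPrime_bot.mp this z.asIdeal hne z.isPrime)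
      exact hz0 ▸ hη
    have hr : Set.range (P0.ι ≫ X.fromSpecStalk x) ⊆ Set.range U.ι := by
      rintro _ ⟨z, rfl⟩
      rw [Scheme.Opens.range_ι]
      exact hP _ ((Scheme.Opens.range_ι P0).le ⟨z, rfl⟩)
    let r : (P0 : Scheme.{u}) ⟶ U := IsOpenImmersion.lift U.ι (P0.ι ≫ X.fromSpecStalk x) hr
    have hrU : r ≫ U.ι = P0.ι ≫ X.fromSpecStalk x := IsOpenImmersion.lift_fac _ _ _
    let j : (P0 : Scheme.{u}) ⟶ pullback U.ι (X.fromSpecStalk x) := pullback.lift r P0.ι hrU
    have hj : r ≫ X.homOfLE hle = X.fromSpecStalk x ∣_ O := by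
      rw [← cancel_mono O.ι, Category.assoc, X.homOfLE_ι, hrU]
      exact (morphismRestrict_ι _ _).symm
    exact ⟨Yξ, ⟨restrictEqIso (pullback.lift_snd _ _ _).symm Yξ ≪≫ (restrictCompIso j _).app Yξ ≪≫
      (FEt.restrict j).mapIso eξ ≪≫ ((restrictCompIso j _).app E).symm ≪≫
      restrictEqIso (pullback.lift_fst _ _ _) E ≪≫ (FEt.restrict r).mapIso eZ.symm ≪≫
      ((restrictCompIso r _).app Z).symm ≪≫ restrictEqIso hj Z⟩⟩

set_option backward.isDefEq.respectTransparency.types false in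
/-- The cover extends to the union with any affine open. -/
theorem exists_extension_affine {X : Scheme.{u}} [IsLocallyNoetherian X] (U : X.Opens)
    (hU : Dense (U : Set X)) (E : FEt.Cat (U : Scheme.{u}))
    (hreg : ∀ x : X, x ∉ U → IsRegularLocalRing (X.presheaf.stalk x))
    (hunr : ∀ ξ : X, ξ ∉ U → ringKrullDim (X.presheaf.stalk ξ) = 1 →
      ∃ Yξ : FEt.Cat (Spec (X.presheaf.stalk ξ)),
        Nonempty ((FEt.restrict (pullback.snd U.ι (X.fromSpecStalk ξ))).obj Yξ ≅
          (FEt.restrict (pullback.fst U.ι (X.fromSpecStalk ξ))).obj E))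
    (W : X.Opens) (hW : IsAffineOpen W) :
    ∃ (O : X.Opens) (hle : U ≤ O) (Z : FEt.Cat (O : Scheme.{u})),
      W ≤ O ∧ Nonempty ((FEt.restrict (X.homOfLE hle)).obj Z ≅ E) := by
  have : IsNoetherianRing Γ(X, W) := IsLocallyNoetherian.component_noetherian ⟨W, hW⟩
  have hNW : NoetherianSpace W := noetherianSpace_of_isAffineOpen W hW
  let trace : X.Opens → TopologicalSpace.Opens W := fun O => ⟨Subtype.val ⁻¹' (O : Set X),
    O.2.preimage continuous_subtype_val⟩
  let S : Set (TopologicalSpace.Opens W) := {o | ∃ (O : X.Opens) (hle : U ≤ O)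
    (Z : FEt.Cat (O : Scheme.{u})),
    trace O = o ∧ Nonempty ((FEt.restrict (X.homOfLE hle)).obj Z ≅ E)}
  have hU' : trace U ∈ S := ⟨U, le_rfl, E, rfl, ⟨restrictEqIso (X.homOfLE_rfl U) E ≪≫
    restrictIdIso E⟩⟩
  obtain ⟨o, hO, hmax⟩ := (wellFounded_gt (α := TopologicalSpace.Opens W)).has_min S ⟨_, hU'⟩
  obtain ⟨O, hle, Z, rfl, ⟨eZ⟩⟩ := hO
  by_cases htop : W ≤ O
  · exact ⟨O, hle, Z, htop, ⟨eZ⟩⟩
  obtain ⟨w₀, hw₀W, hw₀O⟩ := SetLike.not_le_iff_exists.mp htop
  obtain ⟨⟨x, hxW⟩, hx, hgen⟩ : ∃ w : W, w.1 ∉ O ∧ ∀ y : W, y.1 ∉ O → y.1 ⤳ w.1 → y = w := by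
    obtain ⟨w, hw, hmin⟩ := exists_generic (X := (W : Scheme.{u})) (W.ι ⁻¹' (O : Set X)ᶜ)
      (O.2.isClosed_compl.preimage W.ι.continuous) ⟨⟨w₀, hw₀W⟩, hw₀O⟩
    exact ⟨w, hw, fun y hy hyw => hmin y hy (Topology.IsInducing.subtypeVal.specializes_iff.mp hyw)⟩
  obtain ⟨O', hle', Z', hx', ⟨e'⟩⟩ := exists_extend_step_of_local O x Z
    (exists_local_extension U hU E hreg hunr O hle x hx (fun y hy hyx =>
      congrArg Subtype.val (hgen ⟨y, hyx.mem_open W.2 hxW⟩ hy hyx)) Z eZ)
  refine absurd (lt_of_le_of_ne (fun (z : W) hz => hle' hz) fun he => hx ?_)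
    (hmax (trace O') ⟨O', hle.trans hle', Z', rfl, ⟨?_⟩⟩)
  · have : (⟨x, hxW⟩ : W) ∈ trace O := he.ge hx'
    exact this
  exact restrictEqIso (X.homOfLE_homOfLE hle hle').symm Z' ≪≫
    (restrictCompIso _ _).app Z' ≪≫ (FEt.restrict _).mapIso e' ≪≫ eZ

end Groth.Agent.FEt83
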