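import Groth.Agent.FEt83.UHLift

/-!
# Finite étale covers are invariant under universal homeomorphisms
-/

universe u

open CategoryTheory Limits AlgebraicGeometry

namespace Groth.Agent.FEt83

variable {X Y : Scheme.{u}}

theorem isPullback_fst_bmap (f : X ⟶ Y) {S T : Scheme.{u}} {gS : S ⟶ Y} {gT : T ⟶ Y} (a : S ⟶ T)
    (ha : a ≫ gT = gS) :
    IsPullback (pullback.fst gS f) (bmap f a ha) a (pullback.fst gT f) := by
  refine IsPullback.of_bot ?_ (bmap_fst f a ha).symm (IsPullback.of_hasPullback gT f)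
  rw [bmap_snd, ha]
  exact IsPullback.of_hasPullback gS f

set_option backward.isDefEq.respectTransparency.types false in
theorem isPullback_sigmaMap {σ : Type u} {A B : σ → Scheme.{u}} (k : ∀ i, A i ⟶ B i) (i : σ) :
    IsPullback (Sigma.ι A i) (k i) (Limits.Sigma.map k) (Sigma.ι B i) := by
  refine (IsOpenImmersion.isPullback (k i) (Sigma.ι A i) (Sigma.ι B i) (Limits.Sigma.map k)
    (Limits.Sigma.ι_map k i) ?_).flip
  ext x
  obtain ⟨j, w, rfl⟩ := (sigmaOpenCover A).exists_eq x
  change (∃ b, Sigma.ι B i b = Limits.Sigma.map k (Sigma.ι A j w)) ↔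
    ∃ a, Sigma.ι A i a = Sigma.ι A j w
  rw [← Scheme.Hom.comp_apply, Limits.Sigma.ι_map, Scheme.Hom.comp_apply]
  constructor
  · rintro ⟨b, hb⟩
    obtain ⟨rfl, -⟩ := Sigma.mk.inj_iff.mp ((sigmaι_eq_iff _ _ _ _ _).mp hb)
    exact ⟨w, rfl⟩
  · rintro ⟨a, ha⟩
    obtain ⟨rfl, -⟩ := Sigma.mk.inj_iff.mp ((sigmaι_eq_iff _ _ _ _ _).mp ha)
    exact ⟨k i w, rfl⟩

set_option backward.isDefEq.respectTransparency.types false in
theorem prop_sigmaMap {σ : Type u} {A B : σ → Scheme.{u}} (k : ∀ i, A i ⟶ B i)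
    (hk : ∀ i, FEt.prop (k i)) : FEt.prop (Limits.Sigma.map k) := by
  have aux (P : MorphismProperty Scheme.{u}) [IsZariskiLocalAtTarget P]
      (h : ∀ i, P (k i)) : P (Limits.Sigma.map k) := by
    refine (IsZariskiLocalAtTarget.iff_of_openCover (P := P) (sigmaOpenCover B)).mpr fun i => ?_
    show P (pullback.snd (Limits.Sigma.map k) (Sigma.ι B i))
    rw [← (isPullback_sigmaMap k i).isoPullback_inv_snd, P.cancel_left_of_respectsIso]
    exact h i
  exact ⟨aux @IsFinite fun i => (hk i).1, aux @Etale fun i => (hk i).2⟩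

set_option backward.isDefEq.respectTransparency.types false in
/-- Lifts over the members of a family glue to a lift over their disjoint union. -/
theorem exists_sigma_lift (f : X ⟶ Y) (Z : FEt.Cat X) {σ : Type u} (U : σ → Scheme.{u})
    (g : ∀ i, U i ⟶ Y) (T : ∀ i, FEt.Cat (U i))
    (ε : ∀ i, pullback ((T i).hom ≫ g i) f ⟶ Z.left)
    (hε : ∀ i, IsPullback (ε i) (bmap f (T i).hom rfl) Z.hom (pullback.snd (g i) f)) :
    ∃ (T' : FEt.Cat (∐ U)) (ε' : pullback (T'.hom ≫ Sigma.desc g) f ⟶ Z.left),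
      IsPullback ε' (bmap f T'.hom rfl) Z.hom (pullback.snd (Sigma.desc g) f) := by
  let A : σ → Scheme.{u} := fun i => (T i).left
  let τ : ∐ A ⟶ ∐ U := Limits.Sigma.map fun i => (T i).hom
  have hτ : FEt.prop τ := prop_sigmaMap _ fun i => (T i).prop
  let G := τ ≫ Sigma.desc g
  have hA (i : σ) : Sigma.ι A i ≫ G = (T i).hom ≫ g i :=
    (Limits.Sigma.ι_map_assoc _ _ _).trans (congrArg ((T i).hom ≫ ·) (Sigma.ι_desc _ _))
  let a (i : σ) := bmap f (Sigma.ι A i) (hA i)
  have ha (i : σ) := isPullback_fst_bmap f (Sigma.ι A i) (hA i)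
  have (i : σ) : IsOpenImmersion (a i) :=
    MorphismProperty.of_isPullback (P := @IsOpenImmersion) (ha i) inferInstance
  obtain ⟨hc⟩ := nonempty_isColimit_cofanMk_of a (top_le_iff.mp fun z _ => by
      obtain ⟨i, w, hw⟩ := (sigmaOpenCover A).exists_eq (pullback.fst G f z)
      obtain ⟨v, -, hv⟩ := exists_preimage_of_isPullback (ha i) w z hw
      exact TopologicalSpace.Opens.mem_iSup.mpr ⟨i, v, hv⟩) (fun i j hij => by
    refine disjoint_iff_inf_le.mpr ?_
    rintro z ⟨⟨v, hv⟩, ⟨v', hv'⟩⟩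
    refine hij (Sigma.mk.inj_iff.mp ((sigmaι_eq_iff A i j (pullback.fst _ f v)
      (pullback.fst _ f v')).mp ?_)).1
    have h1 : Sigma.ι A i (pullback.fst _ f v) = pullback.fst G f (a i v) := by
      rw [← Scheme.Hom.comp_apply, ← Scheme.Hom.comp_apply]
      exact congr($((bmap_fst f (Sigma.ι A i) (hA i)).symm) v)
    have h2 : Sigma.ι A j (pullback.fst _ f v') = pullback.fst G f (a j v') := by
      rw [← Scheme.Hom.comp_apply, ← Scheme.Hom.comp_apply]
      exact congr($((bmap_fst f (Sigma.ι A j) (hA j)).symm) v')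
    exact h1.trans ((congrArg (pullback.fst G f) (hv.trans hv'.symm)).trans h2.symm))
  let ε' : pullback G f ⟶ Z.left := Cofan.IsColimit.desc hc ε
  have hε' (i : σ) : a i ≫ ε' = ε i := Cofan.IsColimit.fac hc ε i
  have hw : ε' ≫ Z.hom = bmap f τ (g := G) rfl ≫ pullback.snd (Sigma.desc g) f :=
    Cofan.IsColimit.hom_ext hc _ _ fun i => by
      show a i ≫ _ = a i ≫ _
      rw [reassoc_of% hε', (hε i).w]
      simp only [a, bmap_snd]
  let c := pullback.lift ε' (bmap f τ (g := G) rfl) hw
  have : IsFinite (bmap f τ (g := G) rfl) :=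
    MorphismProperty.of_isPullback (P := @IsFinite) (isPullback_fst_bmap f τ rfl) hτ.1
  have : Etale (bmap f τ (g := G) rfl) :=
    MorphismProperty.of_isPullback (P := @Etale) (isPullback_fst_bmap f τ rfl) hτ.2
  have : IsFinite (c ≫ pullback.snd Z.hom (pullback.snd (Sigma.desc g) f)) := by
    rw [pullback.lift_snd]; infer_instance
  have : Etale (c ≫ pullback.snd Z.hom (pullback.snd (Sigma.desc g) f)) := by
    rw [pullback.lift_snd]; infer_instance
  have : IsFinite c := IsFinite.of_comp c (pullback.snd Z.hom (pullback.snd (Sigma.desc g) f))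
  have : Etale c := Etale.of_comp c (pullback.snd Z.hom (pullback.snd (Sigma.desc g) f))
  have hciso : IsIso c := by
    rw [Scheme.Hom.isIso_iff_finrank_eq]
    funext z
    let z₂ := pullback.snd Z.hom (pullback.snd (Sigma.desc g) f) z
    obtain ⟨i, u, hu⟩ := (sigmaOpenCover U).exists_eq (pullback.fst (Sigma.desc g) f z₂)
    have hb := isPullback_fst_bmap f (Sigma.ι U i) (Sigma.ι_desc g i)
    obtain ⟨v, -, hv⟩ := exists_preimage_of_isPullback hb u z₂ hu
    let k := pullback.lift (ε i) (bmap f (T i).hom rfl ≫ bmap f (Sigma.ι U i) (Sigma.ι_desc g i))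
      (by rw [(hε i).w, Category.assoc, bmap_snd] ; simp only [bmap_snd] :
        ε i ≫ Z.hom = (_ ≫ _) ≫ pullback.snd (Sigma.desc g) f)
    have hbot : IsPullback k (bmap f (T i).hom rfl)
        (pullback.snd Z.hom (pullback.snd (Sigma.desc g) f))
        (bmap f (Sigma.ι U i) (Sigma.ι_desc g i)) := by
      refine IsPullback.of_right (h₁₂ := pullback.fst Z.hom (pullback.snd (Sigma.desc g) f))
        ?_ (pullback.lift_snd _ _ _) (IsPullback.of_hasPullback _ _)
      rw [pullback.lift_fst, bmap_snd]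
      exact hε i
    obtain ⟨w, hw₁, -⟩ := exists_preimage_of_isPullback hbot z v hv.symm
    have hsq : IsPullback (a i) (𝟙 _) c k := by
      refine IsPullback.of_bot ?_ ?_ hbot
      · rw [Category.id_comp, pullback.lift_snd]
        exact isPullback_bmap' f (hA i) rfl rfl (Sigma.ι_desc g i)
          (isPullback_sigmaMap (fun i => (T i).hom) i)
      · rw [Category.id_comp]
        apply pullback.hom_ext
        · rw [Category.assoc, pullback.lift_fst, pullback.lift_fst, hε']
        · rw [Category.assoc, pullback.lift_snd, pullback.lift_snd,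
            (isPullback_bmap' f (hA i) rfl rfl (Sigma.ι_desc g i)
              (isPullback_sigmaMap (fun i => (T i).hom) i)).w]
    rw [← hw₁, ← Scheme.Hom.finrank_of_isPullback (f := c) (g := k) (a i) (𝟙 _) hsq w,
      Scheme.Hom.finrank_eq_one_of_isIso]
    rfl
  exact ⟨MorphismProperty.Over.mk ⊤ τ hτ, ε', IsPullback.of_iso_pullback ⟨hw⟩
    (@asIso _ _ _ _ c hciso) (pullback.lift_fst _ _ _) (pullback.lift_snd _ _ _)⟩

set_option backward.isDefEq.respectTransparency.types false in
/-- Finite étale covers descend along universal homeomorphisms. -/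
theorem essSurj_restrict (f : X ⟶ Y) [IsIntegralHom f] [UniversallyInjective f] [Surjective f] :
    (FEt.restrict f).EssSurj := by
  refine ⟨fun Z => ?_⟩
  choose U g hg T ε hy hε using exists_lift_of_point f Z
  obtain ⟨T', ε', hε'⟩ := exists_sigma_lift f Z U g T ε hε
  have : Etale (Sigma.desc g) := IsZariskiLocalAtSource.sigmaDesc hg
  have : Surjective (Sigma.desc g) := ⟨fun y => by
    obtain ⟨u, hu⟩ := hy y
    exact ⟨Sigma.ι U y u, by rw [← Scheme.Hom.comp_apply, Sigma.ι_desc, hu]⟩⟩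
  exact exists_of_locally f Z (Sigma.desc g) T' ε' hε'

end Groth.Agent.FEt83
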