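import Groth.Agent.FEt83.FullFaithful

/-!
# Fully faithful restriction lifts clopens of covers
-/

universe u

open CategoryTheory Limits AlgebraicGeometry TopologicalSpace

namespace Groth.Agent.FEt83

variable {X' X : Scheme.{u}} {f : X' ⟶ X}

set_option backward.isDefEq.respectTransparency.types false in
/-- The two point cover. -/
noncomputable def twoObj (X : Scheme.{u}) : FEt.Cat X :=
  coprodObj (MorphismProperty.Over.mk ⊤ (𝟙 X) (MorphismProperty.id_mem _ _))
    (MorphismProperty.Over.mk ⊤ (𝟙 X) (MorphismProperty.id_mem _ _))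

set_option backward.isDefEq.respectTransparency.types false in
/-- A map missing the first summand factors through the second. -/
theorem eq_inr_of_preimage {P : Scheme.{u}} (t : P ⟶ X ⨿ X) (g : P ⟶ X)
    (ht : t ≫ coprod.desc (𝟙 X) (𝟙 X) = g) (h : t ⁻¹' Set.range (coprod.inl : X ⟶ X ⨿ X) = ∅) :
    t = g ≫ coprod.inr := by
  have hr : Set.range t ⊆ Set.range (coprod.inr : X ⟶ X ⨿ X) := by
    rintro _ ⟨p, rfl⟩
    rcases (Set.eq_univ_iff_forall.mp (codisjoint_iff.mp (isCompl_range_inl_inr X X).codisjoint)) (t p) with h1 | h1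
    · exact absurd h1 fun h1 => (Set.ext_iff.mp h p).mp h1
    · exact h1
  obtain ⟨t', rfl⟩ : ∃ t', t' ≫ coprod.inr = t := ⟨_, IsOpenImmersion.lift_fac _ t hr⟩
  rw [Category.assoc, coprod.inr_desc, Category.comp_id] at ht
  rw [ht]

theorem isClosed_range_inl : IsClosed (Set.range (coprod.inl : X ⟶ X ⨿ X)) := by
  rw [(isCompl_range_inl_inr X X).symm.compl_eq.symm]
  exact (coprod.inr : X ⟶ X ⨿ X).isOpenEmbedding.isOpen_range.isClosed_compl

set_option backward.isDefEq.respectTransparency.types false in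
/-- A clopen subset gives a map to the disjoint union. -/
theorem exists_map_two {P : Scheme.{u}} (g : P ⟶ X) (C : Set P) (hC : IsClopen C) :
    ∃ s : P ⟶ X ⨿ X, s ≫ coprod.desc (𝟙 X) (𝟙 X) = g ∧
      s ⁻¹' Set.range (coprod.inl : X ⟶ X ⨿ X) = C ∧ (C = ∅ → s = g ≫ coprod.inr) := by
  let O : P.Opens := ⟨C, hC.2⟩
  let O' : P.Opens := ⟨Cᶜ, hC.1.isOpen_compl⟩
  obtain ⟨hcol⟩ := nonempty_isColimit_binaryCofanMk_of_isCompl O.ι O'.ι (by
    rw [Scheme.Opens.opensRange_ι, Scheme.Opens.opensRange_ι]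
    refine IsCompl.of_eq ?_ ?_
    · exact Opens.ext (Set.inter_compl_self C)
    · exact Opens.ext (Set.union_compl_self C))
  let s : P ⟶ X ⨿ X := BinaryCofan.IsColimit.desc hcol (O.ι ≫ g ≫ coprod.inl) (O'.ι ≫ g ≫ coprod.inr)
  have h1 : O.ι ≫ s = O.ι ≫ g ≫ coprod.inl := BinaryCofan.IsColimit.inl_desc hcol _ _
  have h2 : O'.ι ≫ s = O'.ι ≫ g ≫ coprod.inr := BinaryCofan.IsColimit.inr_desc hcol _ _
  refine ⟨s, ?_, ?_, fun h0 => ?_⟩
  · refine BinaryCofan.IsColimit.hom_ext hcol ?_ ?_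
    · show O.ι ≫ _ = O.ι ≫ _
      rw [reassoc_of% h1, coprod.inl_desc, Category.comp_id]
    · show O'.ι ≫ _ = O'.ι ≫ _
      rw [reassoc_of% h2, coprod.inr_desc, Category.comp_id]
  · ext p
    constructor
    · rintro ⟨x, hx⟩
      by_contra hp
      have e : s p = (coprod.inr : X ⟶ X ⨿ X) (g p) := congr($(h2) ⟨p, hp⟩)
      exact Set.disjoint_iff.mp (isCompl_range_inl_inr X X).disjoint ⟨⟨x, hx⟩, ⟨g p, e.symm⟩⟩
    · intro hp
      exact ⟨g p, (congr($(h1) ⟨p, hp⟩) : s p = _).symm⟩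
  · refine BinaryCofan.IsColimit.hom_ext hcol ?_ h2
    have : IsEmpty O := ⟨fun z => (h0 ▸ z.2 : z.1 ∈ (∅ : Set P))⟩
    exact (isInitialOfIsEmpty (X := O.toScheme)).hom_ext _ _

set_option backward.isDefEq.respectTransparency.types false in
/-- Faithful restriction: clopens meet the image. -/
theorem meetsClopens_of_faithful (h : (FEt.restrict f).Faithful) : MeetsClopens f := by
  intro Y C hC hne
  by_contra hno
  push Not at hno
  obtain ⟨s, hs, hsC, -⟩ := exists_map_two Y.hom C hC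
  obtain ⟨s₀, hs₀, hs₀C, hs₀'⟩ := exists_map_two Y.hom (∅ : Set Y.left) isClopen_empty
  let φ : Y ⟶ twoObj X := MorphismProperty.Over.homMk s hs
  let φ₀ : Y ⟶ twoObj X := MorphismProperty.Over.homMk s₀ hs₀
  have key : pullback.fst Y.hom f ≫ s = pullback.fst Y.hom f ≫ s₀ := by
    rw [hs₀' rfl]
    let O' : Y.left.Opens := ⟨Cᶜ, hC.1.isOpen_compl⟩
    have hl : Set.range (pullback.fst Y.hom f) ⊆ Set.range O'.ι := by
      rintro _ ⟨z, rfl⟩
      rw [Scheme.Opens.range_ι]
      exact hno z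
    rw [← IsOpenImmersion.lift_fac O'.ι (pullback.fst Y.hom f) hl, Category.assoc, Category.assoc]
    congr 1
    obtain ⟨t, ht, -, ht'⟩ := exists_map_two (O'.ι ≫ Y.hom) (∅ : Set O') isClopen_empty
    have hpre : (O'.ι ≫ s) ⁻¹' Set.range (coprod.inl : X ⟶ X ⨿ X) = ∅ := by
      ext z
      show s (O'.ι z) ∈ Set.range (coprod.inl : X ⟶ X ⨿ X) ↔ False
      exact iff_false_intro fun hz => z.2 ((Set.ext_iff.mp hsC _).mp hz)
    refine Eq.trans ?_ (Category.assoc _ _ _)
    exact eq_inr_of_preimage (O'.ι ≫ s) (O'.ι ≫ Y.hom) (by rw [Category.assoc, hs]) hpre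
  have hmap : (FEt.restrict f).map φ = (FEt.restrict f).map φ₀ := by
    refine MorphismProperty.Over.Hom.ext (pullback.hom_ext ?_ ?_)
    · exact (pullback.lift_fst _ _ _).trans (key.trans (pullback.lift_fst _ _ _).symm)
    · exact (pullback.lift_snd _ _ _).trans (pullback.lift_snd _ _ _).symm
  have heq : s = s₀ := congrArg (fun k => k.left) (h.map_injective hmap)
  rw [← hsC, heq, hs₀C] at hne
  exact Set.not_nonempty_empty hne

set_option backward.isDefEq.respectTransparency.types false in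
/-- Full restriction: clopens lift. -/
theorem liftsClopens_of_full (h : (FEt.restrict f).Full) : LiftsClopens f := by
  intro Y C₀ hC₀
  obtain ⟨s, hs, hsC, -⟩ := exists_map_two (pullback.fst Y.hom f ≫ Y.hom) C₀ hC₀
  let ψ : (FEt.restrict f).obj Y ⟶ (FEt.restrict f).obj (twoObj X) :=
    MorphismProperty.Over.homMk (pullback.lift s (pullback.snd Y.hom f) (hs.trans pullback.condition))
      (pullback.lift_snd _ _ _)
  obtain ⟨φ, hφ⟩ := h.map_surjective ψ
  refine ⟨φ.left ⁻¹' Set.range (coprod.inl : X ⟶ X ⨿ X), IsClopen.preimage ?_ φ.left.continuous, ?_⟩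
  · exact ⟨isClosed_range_inl, (coprod.inl : X ⟶ X ⨿ X).isOpenEmbedding.isOpen_range⟩
  · have e : pullback.fst Y.hom f ≫ φ.left = s := by
      have := congrArg (fun k => k.left ≫ pullback.fst (twoObj X).hom f) hφ
      exact (pullback.lift_fst _ _ _).symm.trans (this.trans (pullback.lift_fst _ _ _))
    rw [← hsC, ← e]
    rfl

end Groth.Agent.FEt83
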