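import Groth.Agent.FEt83.ClopensOfFF

/-!
# Connectedness from fully faithful restriction
-/

universe u

open CategoryTheory CategoryTheory.Limits AlgebraicGeometry TopologicalSpace

namespace Groth.Agent.FEt83

set_option backward.isDefEq.respectTransparency.types false in
/-- A space admitting an equivalence of categories of covers with a connected one is connected. -/
theorem connectedSpace_of_ff {S T : Scheme.{u}} (f : S ⟶ T) [ConnectedSpace T]
    (h : (FEt.restrict f).Full ∧ (FEt.restrict f).Faithful) : ConnectedSpace S := by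
  let Y : FEt.Cat T := MorphismProperty.Over.mk ⊤ (𝟙 T) (MorphismProperty.id_mem _ _)
  have hcond : ∀ z : ↥(pullback Y.hom f), pullback.fst Y.hom f z = f (pullback.snd Y.hom f z) := fun z =>
    congr($(pullback.condition (f := Y.hom) (g := f)) z)
  have hne : Nonempty S := by
    obtain ⟨z, -⟩ := meetsClopens_of_faithful h.2 Y Set.univ isClopen_univ
      ⟨Classical.arbitrary T, trivial⟩
    exact ⟨pullback.snd Y.hom f z⟩
  have : PreconnectedSpace S := by
    rw [preconnectedSpace_iff_clopen]
    intro D hD
    obtain ⟨E, hE, hpre⟩ := liftsClopens_of_full h.1 Y (pullback.snd Y.hom f ⁻¹' D)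
      (hD.preimage (pullback.snd Y.hom f).continuous)
    have hsurj : ∀ s : S, ∃ z, pullback.snd Y.hom f z = s := fun s => by
      obtain ⟨z, -, hz⟩ := Scheme.Pullback.exists_preimage_pullback (f := Y.hom) (g := f) (f s) s rfl
      exact ⟨z, hz⟩
    have key : f ⁻¹' E = D := Set.ext fun s => by
      obtain ⟨z, rfl⟩ := hsurj s
      refine Iff.trans ?_ (Set.ext_iff.mp hpre z)
      show f (pullback.snd Y.hom f z) ∈ E ↔ pullback.fst Y.hom f z ∈ E
      rw [hcond z]
      rfl
    rcases @isClopen_iff T _ ‹ConnectedSpace T›.toPreconnectedSpace E |>.mp hE with hE0 | hE1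
    · exact Or.inl (key ▸ hE0 ▸ rfl)
    · exact Or.inr (key ▸ hE1 ▸ rfl)
  exact { toNonempty := hne }

end Groth.Agent.FEt83
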