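import Groth.Agent.FEt83.FullFaithful
import Groth.Agent.S0065
import Groth.Agent.CAlg1.Regular
import Groth.Agent.FDesc60.Topo2
import Mathlib.AlgebraicGeometry.Noetherian
import Mathlib.AlgebraicGeometry.Morphisms.Etale

/-!
# Restriction to a dense open with regular complement is fully faithful
-/

universe u

open CategoryTheory Limits AlgebraicGeometry TopologicalSpace

namespace Groth.Agent.FEt83

variable {X' X : Scheme.{u}} [IsLocallyNoetherian X] (f : X' ⟶ X) [IsOpenImmersion f]

set_option backward.isDefEq.respectTransparency.types false in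
/-- Clopens lift along a dense open immersion with regular complement. -/
theorem liftsClopens_of_regular_complement (hd : DenseRange f)
    (h : ∀ x : X, x ∉ Set.range f → IsRegularLocalRing (X.presheaf.stalk x)) : LiftsClopens f := by
  intro Y C₀ hC₀
  have : IsFinite Y.hom := Y.prop.1
  have : Etale Y.hom := Y.prop.2
  have : IsLocallyNoetherian ((Functor.fromPUnit X).obj Y.right) := ‹IsLocallyNoetherian X›
  have hY : IsLocallyNoetherian ((𝟭 Scheme).obj Y.left) :=
    LocallyOfFiniteType.isLocallyNoetherian Y.hom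
  have : IsLocallyNoetherian Y.left := hY
  have hfst : IsOpenImmersion (pullback.fst Y.hom f) :=
    MorphismProperty.pullback_fst (P := @IsOpenImmersion) Y.hom f inferInstance
  let p := pullback.fst Y.hom f
  have hP : IsLocallyNoetherian (pullback Y.hom f : Scheme.{u}) :=
    isLocallyNoetherian_of_isOpenImmersion p
  have hoe : Topology.IsOpenEmbedding p := p.isOpenEmbedding
  -- closure points are specializations
  have hspec : ∀ (C : Set (pullback Y.hom f : Scheme.{u})), IsClopen C → ∀ y ∈ closure (p '' C),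
      ∃ w ∈ C, p w ⤳ y := by
    intro C hC y hy
    let O : (pullback Y.hom f : Scheme.{u}).Opens := ⟨C, hC.2⟩
    have : IsLocallyNoetherian (O : Scheme.{u}) := isLocallyNoetherian_of_isOpenImmersion O.ι
    have : QuasiCompact p := inferInstance
    have : QuasiCompact (O.ι ≫ p) := quasiCompact_comp _ _
    have hr : Set.range (O.ι ≫ p) = p '' C := by
      rw [Scheme.Hom.comp_base, TopCat.coe_comp, Set.range_comp, Scheme.Opens.range_ι]
      rfl
    obtain ⟨w, hw⟩ := FDesc60.exists_specializes_of_mem_closure_range (O.ι ≫ p) (hr ▸ hy)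
    exact ⟨O.ι w, (Scheme.Opens.range_ι O).le ⟨w, rfl⟩, hw⟩
  -- no point lies in both closures
  have hdisj : ∀ y, y ∈ closure (p '' C₀) → y ∉ closure (p '' C₀ᶜ) := by
    intro y hy hy'
    by_cases hyr : y ∈ Set.range p
    · obtain ⟨w, rfl⟩ := hyr
      by_cases hw : w ∈ C₀
      · obtain ⟨_, ⟨u, hu, rfl⟩, v, hv, e⟩ := mem_closure_iff.mp hy' (p '' C₀)
          (hoe.isOpenMap _ hC₀.2) ⟨w, hw, rfl⟩
        exact hv (hoe.injective e ▸ hu)
      · obtain ⟨_, ⟨u, hu, rfl⟩, v, hv, e⟩ := mem_closure_iff.mp hy (p '' C₀ᶜ)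
          (hoe.isOpenMap _ hC₀.compl.2) ⟨w, hw, rfl⟩
        exact hu (hoe.injective e ▸ hv)
    have hxr : Y.hom y ∉ Set.range f := fun ⟨x', hx'⟩ => hyr (by
      obtain ⟨w, hw, -⟩ := Scheme.Pullback.exists_preimage_pullback y x' hx'.symm
      exact ⟨w, hw⟩)
    have : IsRegularLocalRing (Y.left.presheaf.stalk y) :=
      (S0065.result Y.hom y).mpr (h _ hxr)
    have : IsDomain (Y.left.presheaf.stalk y) := CAlg1.isDomain_regular _
    obtain ⟨w₁, hw₁, hs₁⟩ := hspec C₀ hC₀ y hy
    obtain ⟨w₂, hw₂, hs₂⟩ := hspec C₀ᶜ hC₀.compl y hy'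
    obtain ⟨z₁, hz₁⟩ : p w₁ ∈ Set.range (Y.left.fromSpecStalk y) := by
      rw [Scheme.range_fromSpecStalk]; exact hs₁
    obtain ⟨z₂, hz₂⟩ : p w₂ ∈ Set.range (Y.left.fromSpecStalk y) := by
      rw [Scheme.range_fromSpecStalk]; exact hs₂
    let η : PrimeSpectrum (Y.left.presheaf.stalk y) := ⟨⊥, Ideal.isPrime_bot⟩
    have h₁ : Y.left.fromSpecStalk y η ⤳ p w₁ := hz₁ ▸
      ((PrimeSpectrum.le_iff_specializes η z₁).mp bot_le).map (Y.left.fromSpecStalk y).continuous
    have h₂ : Y.left.fromSpecStalk y η ⤳ p w₂ := hz₂ ▸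
      ((PrimeSpectrum.le_iff_specializes η z₂).mp bot_le).map (Y.left.fromSpecStalk y).continuous
    obtain ⟨v, hv, e₁⟩ := h₁.mem_open (hoe.isOpenMap _ hC₀.2) ⟨w₁, hw₁, rfl⟩
    obtain ⟨v', hv', e₂⟩ := h₂.mem_open (hoe.isOpenMap _ hC₀.compl.2) ⟨w₂, hw₂, rfl⟩
    exact hv' (hoe.injective (e₁.trans e₂.symm) ▸ hv)
  -- the union is everything
  have hcov : ∀ y, y ∈ closure (p '' C₀) ∨ y ∈ closure (p '' C₀ᶜ) := by
    intro y
    rw [← Set.mem_union, ← closure_union, ← Set.image_union, Set.union_compl_self, Set.image_univ]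
    rw [Scheme.Pullback.range_fst]
    exact (Dense.preimage hd (Y.hom.isOpenMap)).closure_eq.ge trivial
  refine ⟨closure (p '' C₀), ⟨isClosed_closure, ?_⟩, ?_⟩
  · rw [show closure (p '' C₀) = (closure (p '' C₀ᶜ))ᶜ from Set.ext fun y =>
      ⟨fun hy => hdisj y hy, fun hy => (hcov y).resolve_right hy⟩]
    exact isClosed_closure.isOpen_compl
  · refine Set.ext fun w => ⟨fun hw => by_contra fun hn => hdisj _ hw
      (subset_closure ⟨w, hn, rfl⟩), fun hw => subset_closure ⟨w, hw, rfl⟩⟩

/-- Restriction to a dense open with regular complement is fully faithful. -/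
theorem fullyFaithful_of_regular_complement (hd : DenseRange f)
    (h : ∀ x : X, x ∉ Set.range f → IsRegularLocalRing (X.presheaf.stalk x)) :
    (FEt.restrict f).Full ∧ (FEt.restrict f).Faithful :=
  ⟨full_of_lifts (meetsClopens_of_denseRange hd) (liftsClopens_of_regular_complement f hd h),
    faithful_of_meets (meetsClopens_of_denseRange hd)⟩

end Groth.Agent.FEt83
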