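import Mathlib.RingTheory.Etale.Locus
import Mathlib.RingTheory.Ideal.KrullsHeightTheorem
import Groth.Agent.Unr55.TraceEtale

/-!
# The discriminant and purity for finite flat algebras
-/

universe u

open TensorProduct

namespace Groth.Agent.FEt83

variable {A B : Type u} [CommRing A] [CommRing B] [Algebra A B]

/-- The fibre over a prime in `D(g)` of an algebra étale over `D(g)` is étale. -/
theorem etale_fiber_of_away (g : A) [Algebra.Etale A (Localization.Away (algebraMap A B g))]
    (p : Ideal A) [p.IsPrime] (hg : g ∉ p) : Algebra.Etale p.ResidueField (p.Fiber B) := by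
  let S := Localization.Away (algebraMap A B g)
  let K := p.ResidueField
  have hu : IsUnit ((Algebra.TensorProduct.includeRight : B →ₐ[A] K ⊗[A] B) (algebraMap A B g)) := by
    rw [AlgHom.commutes, IsScalarTower.algebraMap_apply A K (K ⊗[A] B)]
    exact (isUnit_iff_ne_zero.mpr fun h => hg (Ideal.algebraMap_residueField_eq_zero.mp h)).map _
  let l₀ : S →+* K ⊗[A] B := IsLocalization.Away.lift (algebraMap A B g)
    (g := (Algebra.TensorProduct.includeRight : B →ₐ[A] K ⊗[A] B).toRingHom) hu
  let l : S →ₐ[A] K ⊗[A] B :=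
    { toRingHom := l₀
      commutes' := fun a => by
        show l₀ (algebraMap A S a) = _
        rw [IsScalarTower.algebraMap_apply A B S, IsLocalization.Away.lift_eq]
        exact AlgHom.commutes _ a }
  let ψ : K ⊗[A] S →ₐ[K] K ⊗[A] B :=
    Algebra.TensorProduct.lift (Algebra.ofId K _) l fun _ _ => .all _ _
  let φ : K ⊗[A] B →ₐ[K] K ⊗[A] S :=
    Algebra.TensorProduct.map (AlgHom.id K K) (IsScalarTower.toAlgHom A B S)
  have h₁ : ψ.comp φ = AlgHom.id K _ := by
    refine Algebra.TensorProduct.ext (Subsingleton.elim _ _) (AlgHom.ext fun b => ?_)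
    show ψ (φ (1 ⊗ₜ b)) = 1 ⊗ₜ b
    simp only [φ, ψ, Algebra.TensorProduct.map_tmul,
      Algebra.TensorProduct.lift_tmul, map_one, one_mul]
    exact IsLocalization.Away.lift_eq (algebraMap A B g) hu b
  have h₂ : φ.comp ψ = AlgHom.id K _ := by
    refine Algebra.TensorProduct.ext (Subsingleton.elim _ _) (AlgHom.coe_ringHom_injective ?_)
    refine IsLocalization.ringHom_ext (Submonoid.powers (algebraMap A B g)) (RingHom.ext fun b => ?_)
    show φ (ψ (1 ⊗ₜ algebraMap B S b)) = 1 ⊗ₜ algebraMap B S b
    have : ψ (1 ⊗ₜ algebraMap B S b) = 1 ⊗ₜ[A] b := by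
      simp only [ψ, Algebra.TensorProduct.lift_tmul, map_one, one_mul]
      exact IsLocalization.Away.lift_eq (algebraMap A B g) hu b
    rw [this]
    simp [φ]
  exact Algebra.Etale.of_equiv (AlgEquiv.ofAlgHom ψ φ h₁ h₂)

/-- A finite free algebra over a local ring of dimension at least two which is étale off the closed
point is étale. -/
theorem etale_of_flat_of_etale_off_closedPoint [IsNoetherianRing A] [IsLocalRing A]
    (hdim : (2 : WithBot ℕ∞) ≤ ringKrullDim A) [Module.Finite A B] [Module.Flat A B]
    (h : ∀ q : PrimeSpectrum B, q.asIdeal.comap (algebraMap A B) ≠ IsLocalRing.maximalIdeal A →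
      Algebra.IsEtaleAt A q.asIdeal) :
    Algebra.Etale A B := by
  classical
  have : Module.FinitePresentation A B := Module.finitePresentation_of_finite A B
  have : Algebra.FinitePresentation A B := inferInstance
  have : Module.Free A B := Module.free_of_flat_of_isLocalRing
  let b := Module.Free.chooseBasis A B
  rw [Unr55.etale_iff_bijective_traceForm, Unr55.bijective_traceForm_iff_isUnit_det b]
  by_contra hd
  obtain ⟨p, hp, -⟩ := Ideal.exists_minimalPrimes_le
    (show Ideal.span {(Algebra.traceMatrix A b).det} ≤ IsLocalRing.maximalIdeal A from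
      (Ideal.span_singleton_le_iff_mem _).mpr hd)
  have := hp.1.1
  have hne : p ≠ IsLocalRing.maximalIdeal A := fun e => by
    have h1 := Ideal.height_le_one_of_isPrincipal_of_mem_minimalPrimes
      (Ideal.span {(Algebra.traceMatrix A b).det}) p hp
    rw [← IsLocalRing.maximalIdeal_height_eq_ringKrullDim, ← e] at hdim
    have h2 : (2 : ℕ∞) ≤ p.height := WithBot.coe_le_coe.mp hdim
    exact absurd (h2.trans h1) (by decide)
  obtain ⟨g, hgm, hgp⟩ := SetLike.exists_of_lt ((IsLocalRing.le_maximalIdeal hp.1.1.ne_top).lt_of_ne hne)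
  have : Algebra.Etale A (Localization.Away (algebraMap A B g)) := by
    rw [← Algebra.basicOpen_subset_etaleLocus_iff_etale]
    exact fun q hq => h q fun e => hq (Ideal.mem_comap.mp (e ▸ hgm))
  have := etale_fiber_of_away (B := B) g p hgp
  have hb := (Unr55.bijective_traceForm_iff_etale_field p.ResidueField (p.Fiber B)).mpr this
  rw [Unr55.bijective_traceForm_iff_isUnit_det (b.baseChange p.ResidueField),
    Unr55.traceMatrix_baseChange, ← RingHom.mapMatrix_apply, ← RingHom.map_det] at hb
  exact hb.ne_zero (Ideal.algebraMap_residueField_eq_zero.mpr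
    (hp.1.2 (Ideal.mem_span_singleton_self _)))

end Groth.Agent.FEt83
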