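import Groth.Agent.FEt83.UnrNormal
import Groth.Agent.EGA73.IntegralNormal
import Mathlib.AlgebraicGeometry.Normalization
import Mathlib.AlgebraicGeometry.Morphisms.Etale
import Mathlib.RingTheory.DedekindDomain.IntegralClosure
import Groth.Prelude.Def_Pi1

/-!
# Normalization of an integral scheme in a finite extension of its function field
-/

universe u

open CategoryTheory AlgebraicGeometry TopologicalSpace

namespace Groth.Agent.FEt83

variable {X : Scheme.{u}} [IsIntegral X] (L : Type u) [Field L] [Algebra X.functionField L]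

/-- The point `Spec L` over the generic point. -/
noncomputable abbrev ffPoint : Spec (CommRingCat.of L) ⟶ X :=
  Spec.map (CommRingCat.ofHom (algebraMap X.functionField L)) ≫ X.fromSpecStalk (genericPoint X)

set_option backward.isDefEq.respectTransparency.types false in
theorem ffPoint_preimage (U : X.Opens) [Nonempty U] : ffPoint L ⁻¹ᵁ U = ⊤ := by
  refine eq_top_iff.mpr fun y _ => ?_
  have hy : (ffPoint (X := X) L) y ∈ Set.range (X.fromSpecStalk (genericPoint X)) :=
    ⟨Spec.map (CommRingCat.ofHom (algebraMap X.functionField L)) y,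
      (Scheme.Hom.comp_apply _ _ _).symm⟩
  rw [Scheme.range_fromSpecStalk] at hy
  replace hy : (ffPoint (X := X) L) y ⤳ genericPoint X := hy
  exact hy.mem_open U.2
    (((genericPoint_spec X).mem_open_set_iff U.isOpen).mpr (by simpa using ‹Nonempty U›))

variable [QuasiCompact (ffPoint (X := X) L)] [QuasiSeparated (ffPoint (X := X) L)]

set_option backward.isDefEq.respectTransparency.types false in
/-- The sections of the normalization over an affine open. -/
theorem exists_sectionsIso (U : X.Opens) (hU : IsAffineOpen U) [Nonempty U]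
    [Algebra Γ(X, U) L] [IsScalarTower Γ(X, U) X.functionField L] :
    ∃ j : Γ((ffPoint L).normalization, (ffPoint L).fromNormalization ⁻¹ᵁ U) ≅
        CommRingCat.of (integralClosure Γ(X, U) L),
      (ffPoint L).fromNormalization.app U ≫ j.hom =
        CommRingCat.ofHom (algebraMap Γ(X, U) (integralClosure Γ(X, U) L)) := by
  let f := ffPoint (X := X) L
  let i : Γ(Spec (CommRingCat.of L), f ⁻¹ᵁ U) ≅ CommRingCat.of L :=
    (Spec _).presheaf.mapIso (eqToIso (ffPoint_preimage L U)).symm.op ≪≫ Scheme.ΓSpecIso _
  let := (f.app U).hom.toAlgebra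
  have hη : genericPoint X ∈ U :=
    ((genericPoint_spec X).mem_open_set_iff U.isOpen).mpr (by simpa using ‹Nonempty U›)
  have hi : f.app U ≫ i.hom = CommRingCat.ofHom (algebraMap Γ(X, U) L) := by
    rw [IsScalarTower.algebraMap_eq Γ(X, U) X.functionField L]
    have e1 : (⊤ : (Spec X.functionField).Opens) ≤ X.fromSpecStalk (genericPoint X) ⁻¹ᵁ U :=
      fun y _ => by
        have h : X.fromSpecStalk (genericPoint X) y ⤳ genericPoint X :=
          (Set.ext_iff.mp (Scheme.range_fromSpecStalk (x := genericPoint X)) _).mp ⟨y, rfl⟩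
        exact h.mem_open U.2 hη
    have h1 : (X.fromSpecStalk (genericPoint X)).appLE U ⊤ e1 =
        X.germToFunctionField U ≫ (Scheme.ΓSpecIso X.functionField).inv := by
      rw [Scheme.Hom.appLE, Scheme.fromSpecStalk_app hη]
      simp only [Category.assoc, ← Functor.map_comp]
      refine congrArg (X.presheaf.germ U _ hη ≫ ·) ?_
      exact ((congrArg ((Scheme.ΓSpecIso _).inv ≫ ·) ((congrArg _ (Subsingleton.elim _ (𝟙 _))).trans
        ((Spec _).presheaf.map_id _))).trans (Category.comp_id _))
    show _ = X.germToFunctionField U ≫ CommRingCat.ofHom (algebraMap X.functionField L)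
    calc f.app U ≫ i.hom = f.appLE U ⊤ (ffPoint_preimage L U).ge ≫ (Scheme.ΓSpecIso _).hom := by
          rw [Scheme.Hom.appLE]; simp only [i, Iso.trans_hom, Category.assoc]; rfl
      _ = ((X.fromSpecStalk (genericPoint X)).appLE U ⊤ e1 ≫
            (Spec.map (CommRingCat.ofHom (algebraMap X.functionField L))).appLE ⊤ ⊤ le_top) ≫
            (Scheme.ΓSpecIso _).hom := by
          rw [Scheme.Hom.appLE_comp_appLE]
      _ = _ := by
          rw [h1, Category.assoc, Category.assoc]
          refine congrArg (X.germToFunctionField U ≫ ·) ?_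
          rw [← cancel_epi (Scheme.ΓSpecIso X.functionField).hom, Iso.hom_inv_id_assoc,
            ← Scheme.ΓSpecIso_naturality]
          simp [Scheme.Hom.appLE]
          rfl
  let e : Γ(Spec (CommRingCat.of L), f ⁻¹ᵁ U) ≃ₐ[Γ(X, U)] L :=
    { i.commRingCatIsoToRingEquiv with
      commutes' := fun a => congrArg (fun φ => φ.hom a) hi }
  let φ := e.mapIntegralClosure
  refine ⟨f.normalizationObjIso hU ≪≫ φ.toRingEquiv.toCommRingCatIso, ?_⟩
  rw [f.fromNormalization_app hU, Iso.trans_hom, Category.assoc, Iso.inv_hom_id_assoc]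
  ext a
  exact congrArg Subtype.val (φ.commutes a)

theorem app_facts (hX : Pi1.IsNormalScheme X) (U : X.Opens) (hU : IsAffineOpen U) [Nonempty U] :
    ∃ (B : Type u) (_ : CommRing B) (_ : IsDomain B) (_ : Algebra Γ(X, U) B)
      (_ : FaithfulSMul Γ(X, U) B)
      (j : Γ((ffPoint L).normalization, (ffPoint L).fromNormalization ⁻¹ᵁ U) ≅ CommRingCat.of B),
      (ffPoint L).fromNormalization.app U ≫ j.hom = CommRingCat.ofHom (algebraMap Γ(X, U) B) ∧
      (IsNoetherianRing Γ(X, U) → FiniteDimensional X.functionField L →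
        Algebra.IsSeparable X.functionField L → Module.Finite Γ(X, U) B) := by
  let _ : Algebra Γ(X, U) L :=
    ((algebraMap X.functionField L).comp (algebraMap Γ(X, U) X.functionField)).toAlgebra
  have : IsScalarTower Γ(X, U) X.functionField L := IsScalarTower.of_algebraMap_eq fun _ => rfl
  obtain ⟨j, hj⟩ := exists_sectionsIso L U hU
  have := functionField_isFractionRing_of_isAffineOpen X U hU
  have hinj : Function.Injective (algebraMap Γ(X, U) L) :=
    (algebraMap X.functionField L).injective.comp (IsFractionRing.injective _ X.functionField)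
  refine ⟨_, inferInstance, inferInstance, inferInstance,
    (faithfulSMul_iff_algebraMap_injective _ _).mpr (fun a b h => hinj (congrArg Subtype.val h)),
    j, hj, fun _ _ _ => ?_⟩
  have := EGA73.isIntegrallyClosed_sections hX hU
  exact IsIntegralClosure.finite Γ(X, U) X.functionField L _

theorem isFinite_fromNormalization (hX : Pi1.IsNormalScheme X) [IsLocallyNoetherian X]
    [FiniteDimensional X.functionField L] [Algebra.IsSeparable X.functionField L] :
    IsFinite (ffPoint (X := X) L).fromNormalization := by
  refine (isFinite_iff _).mpr ⟨inferInstance, fun U hU => ?_⟩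
  rcases isEmpty_or_nonempty U with hUe | hUne
  · have : Subsingleton Γ(X, U) := by
      rw [show U = ⊥ from TopologicalSpace.Opens.ext (Set.isEmpty_coe_sort.mp hUe)]
      infer_instance
    have : Subsingleton Γ((ffPoint L).normalization, (ffPoint L).fromNormalization ⁻¹ᵁ U) :=
      subsingleton_of_zero_eq_one (by
        rw [← map_one ((ffPoint (X := X) L).fromNormalization.app U).hom,
          Subsingleton.elim (1 : Γ(X, U)) 0, map_zero])
    exact RingHom.Finite.of_surjective _ fun b => ⟨0, Subsingleton.elim _ _⟩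
  obtain ⟨B, _, _, _, _, j, hj, hfin⟩ := app_facts L hX U hU
  have : Module.Finite Γ(X, U) B :=
    hfin (IsLocallyNoetherian.component_noetherian ⟨U, hU⟩) inferInstance inferInstance
  rw [← Category.comp_id ((ffPoint L).fromNormalization.app U), ← j.hom_inv_id, ← Category.assoc,
    hj, CommRingCat.hom_comp]
  exact (RingHom.Finite.of_surjective _ (ConcreteCategory.bijective_of_isIso j.inv).2).comp
    (RingHom.finite_algebraMap.mpr this)

theorem etale_fromNormalization (hX : Pi1.IsNormalScheme X)
    [FormallyUnramified (ffPoint (X := X) L).fromNormalization]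
    [LocallyOfFiniteType (ffPoint (X := X) L).fromNormalization] :
    Etale (ffPoint (X := X) L).fromNormalization := by
  let π := (ffPoint (X := X) L).fromNormalization
  choose U hU hxU using fun x : (ffPoint (X := X) L).normalization => show ∃ U : X.Opens,
      IsAffineOpen U ∧ π x ∈ U by
    obtain ⟨_, ⟨U, hU, rfl⟩, hxU, -⟩ :=
      X.isBasis_affineOpens.exists_subset_of_mem_open (Set.mem_univ (π x)) isOpen_univ
    exact ⟨U, hU, hxU⟩
  have := HasRingHomProperty.instIsZariskiLocalAtSource (P := @Etale.{u}) (Q := RingHom.Etale)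
  refine IsZariskiLocalAtSource.of_openCover (P := @Etale)
    ((ffPoint (X := X) L).normalization.openCoverOfIsOpenCover (fun x => π ⁻¹ᵁ U x)
      (top_le_iff.1 fun x _ => Opens.mem_iSup.2 ⟨x, hxU x⟩)) fun x => ?_
  show Etale ((π ⁻¹ᵁ U x).ι ≫ π)
  have hV : IsAffineOpen (π ⁻¹ᵁ U x) := (hU x).preimage π
  have : Nonempty (U x) := ⟨⟨_, hxU x⟩⟩
  obtain ⟨B, _, _, _, _, j, hj, -⟩ := app_facts L hX (U x) (hU x)
  have happ : π.appLE (U x) (π ⁻¹ᵁ U x) le_rfl =
      CommRingCat.ofHom (algebraMap Γ(X, U x) B) ≫ j.inv := by
    rw [← Scheme.Hom.app_eq_appLE, ← hj, Category.assoc, j.hom_inv_id, Category.comp_id]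
  have hft : (algebraMap Γ(X, U x) B).FiniteType := by
    have h := HasRingHomProperty.appLE @LocallyOfFiniteType π inferInstance ⟨_, hU x⟩ ⟨_, hV⟩ le_rfl
    have h' := (RingHom.FiniteType.of_surjective _
      (ConcreteCategory.bijective_of_isIso j.hom).2).comp h
    rwa [← CommRingCat.hom_comp, happ, Category.assoc, j.inv_hom_id, Category.comp_id] at h'
  have hu : (algebraMap Γ(X, U x) B).FormallyUnramified := by
    have h := HasRingHomProperty.appLE @FormallyUnramified π inferInstance ⟨_, hU x⟩ ⟨_, hV⟩ le_rfl
    have h' := RingHom.FormallyUnramified.respectsIso.1 _ j.commRingCatIsoToRingEquiv h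
    change ((π.appLE _ _ le_rfl ≫ j.hom).hom).FormallyUnramified at h'
    rwa [happ, Category.assoc, j.inv_hom_id, Category.comp_id] at h'
  have : Algebra.FiniteType Γ(X, U x) B := RingHom.finiteType_algebraMap.mp hft
  have : Algebra.FormallyUnramified Γ(X, U x) B := RingHom.formallyUnramified_algebraMap.mp hu
  have := EGA73.isIntegrallyClosed_sections hX (hU x)
  have : Algebra.Etale Γ(X, U x) B := etale_of_unramified
  have : Etale (Spec.map (π.appLE (U x) (π ⁻¹ᵁ U x) le_rfl)) := by
    rw [HasRingHomProperty.Spec_iff (P := @Etale), happ, CommRingCat.hom_comp]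
    exact RingHom.Etale.respectsIso.1 _ j.symm.commRingCatIsoToRingEquiv
      (RingHom.etale_algebraMap.mpr this)
  rw [← IsAffineOpen.isoSpec_hom_fromSpec hV, Category.assoc,
    ← (hU x).SpecMap_appLE_fromSpec π hV le_rfl]
  infer_instance

end Groth.Agent.FEt83
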