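import Groth.Agent.FEt83.Colim
import Groth.Agent.FEt83.AffineEquiv

/-!
# The fibre functor with values in finite sets
-/

universe u

open CategoryTheory Limits AlgebraicGeometry Opposite

namespace Groth.Agent.FEt83

variable {X X' : Scheme.{u}} {Ω : Type u} [Field Ω]

set_option backward.isDefEq.respectTransparency.types false in
/-- Base change of covers and geometric fibres. -/
noncomputable def restrictFiberIso (g : X' ⟶ X) (η : Spec (CommRingCat.of Ω) ⟶ X')
    (ξ : Spec (CommRingCat.of Ω) ⟶ X) (h : η ≫ g = ξ) :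
    FEt.restrict g ⋙ FEt.fiber η ≅ FEt.fiber ξ :=
  NatIso.ofComponents (fun Y => Equiv.toIso
    { toFun := fun s => ⟨s.1 ≫ pullback.fst Y.hom g,
        (Category.assoc _ _ _).trans ((congrArg (s.1 ≫ ·) pullback.condition).trans
          ((Category.assoc _ _ _).symm.trans ((congrArg (· ≫ g) s.2).trans h)))⟩
      invFun := fun s => ⟨pullback.lift s.1 η (s.2.trans h.symm), pullback.lift_snd _ _ _⟩
      left_inv := fun s => Subtype.ext <| pullback.hom_ext (pullback.lift_fst _ _ _)
        ((pullback.lift_snd _ _ _).trans s.2.symm)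
      right_inv := fun s => Subtype.ext (pullback.lift_fst _ _ _) }) (fun {Y Z} k =>
    ConcreteCategory.hom_ext _ _ fun s => Subtype.ext <| by
      show (s.1 ≫ ((FEt.restrict g).map k).left) ≫ pullback.fst Z.hom g =
        (s.1 ≫ pullback.fst Y.hom g) ≫ k.left
      rw [Category.assoc, Category.assoc]
      exact congrArg (s.1 ≫ ·) (pullback.lift_fst _ _ _))

theorem eta_eq : Spec.map (CommRingCat.ofHom (algebraMap Ω Ω)) = 𝟙 (Spec (CommRingCat.of Ω)) :=
  Spec.map_id _

/-- The functor to finite étale algebras over the field of a point. -/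
noncomputable def algAt (ξ : Spec (CommRingCat.of Ω) ⟶ X) :
    FEt.Cat X ⥤ (CommAlgCat.FiniteEtale.{u} Ω)ᵒᵖ :=
  FEt.restrict ξ ⋙ (specFunctor Ω).asEquivalence.inverse

/-- The fibre functor at a field-valued point, with values in finite sets. -/
noncomputable def fiberF (ξ : Spec (CommRingCat.of Ω) ⟶ X) : FEt.Cat X ⥤ FintypeCat.{u} :=
  algAt ξ ⋙ CommAlgCat.FiniteEtale.fiber.{u} Ω Ω

/-- `fiberF` lifts `FEt.fiber`. -/
noncomputable def fiberFIso (ξ : Spec (CommRingCat.of Ω) ⟶ X) :
    fiberF ξ ⋙ FintypeCat.incl ≅ FEt.fiber ξ :=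
  Functor.associator _ _ _ ≪≫
    Functor.isoWhiskerLeft (algAt ξ) (specFunctorFiberIso Ω Ω).symm ≪≫
    Functor.associator _ _ _ ≪≫
    Functor.isoWhiskerLeft (FEt.restrict ξ) ((Functor.associator _ _ _).symm ≪≫
      Functor.isoWhiskerRight (specFunctor Ω).asEquivalence.counitIso _ ≪≫
      Functor.leftUnitor _) ≪≫
    restrictFiberIso ξ _ ξ (by rw [eta_eq, Category.id_comp])

/-- The fibre of a finite étale cover at a point with values in a field is finite. -/
theorem finite_fiberObj (ξ : Spec (CommRingCat.of Ω) ⟶ X) (Y : FEt.Cat X) :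
    Finite (FEt.fiberObj ξ Y) :=
  have : Finite ((fiberF ξ).obj Y) := inferInstance
  Finite.of_equiv ((fiberF ξ).obj Y) ((fiberFIso ξ).app Y).toEquiv

/-- Over a separably closed field, finite étale covers of a point are finite sets. -/
noncomputable def pointEquiv (Ω : Type u) [Field Ω] [IsSepClosed Ω] :
    FEt.Cat (Spec (CommRingCat.of Ω)) ≌ FintypeCat.{u} :=
  ((specFunctor Ω).asEquivalence.symm.trans
    (CommAlgCat.FiniteEtale.fiber.{u} Ω Ω).asEquivalence)

theorem fiberF_eq [IsSepClosed Ω] (ξ : Spec (CommRingCat.of Ω) ⟶ X) :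
    fiberF ξ = FEt.restrict ξ ⋙ (pointEquiv Ω).functor := rfl

instance [IsSepClosed Ω] (ξ : Spec (CommRingCat.of Ω) ⟶ X) : PreservesFiniteLimits (fiberF ξ) :=
  have : PreservesFiniteLimits (FEt.restrict ξ) :=
    inferInstanceAs (PreservesFiniteLimits (MorphismProperty.Over.pullback FEt.prop ⊤ ξ))
  comp_preservesFiniteLimits (FEt.restrict ξ) (pointEquiv Ω).functor

instance [IsSepClosed Ω] (ξ : Spec (CommRingCat.of Ω) ⟶ X) : PreservesFiniteColimits (fiberF ξ) :=
  have := preservesFiniteColimits_restrict ξ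
  comp_preservesFiniteColimits (FEt.restrict ξ) (pointEquiv Ω).functor

end Groth.Agent.FEt83
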