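import Groth.Agent.Lim60.Props
import Groth.Agent.S0591
import Groth.Agent.S9219
import Groth.Agent.FEt83.Colim

/-!
# Finite étale covers of a limit come from a stage
-/

universe u

open CategoryTheory Limits AlgebraicGeometry

namespace Groth.Agent.FEt83

variable {I : Type u} [SmallCategory I] [IsCofiltered I] (D : I ⥤ Scheme.{u}) (c : Cone D)
  (hc : IsLimit c) [∀ (i j : I) (f : i ⟶ j), IsAffineHom (D.map f)] [∀ i, CompactSpace (D.obj i)]
  [∀ i, QuasiSeparatedSpace (D.obj i)]

include hc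

set_option backward.isDefEq.respectTransparency.types false in
/-- A finite étale cover of a cofiltered limit descends to a stage. -/
theorem exists_stage_iso (V : FEt.Cat c.pt) :
    ∃ (i : I) (Vi : FEt.Cat (D.obj i)), Nonempty ((FEt.restrict (c.π.app i)).obj Vi ≅ V) := by
  have : IsFinite V.hom := V.prop.1
  have : Etale V.hom := V.prop.2
  obtain ⟨i, X₀, f₀, g, hlfp, hqc, hqs, H⟩ := S0591.result D c hc V.left V.hom
  have hf : IsFinite (pullback.snd f₀ (c.π.app i)) :=
    H.isoPullback_inv_snd ▸ (inferInstanceAs (IsFinite (H.isoPullback.inv ≫ V.hom)))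
  have he : Etale (pullback.snd f₀ (c.π.app i)) :=
    H.isoPullback_inv_snd ▸ (inferInstanceAs (Etale (H.isoPullback.inv ≫ V.hom)))
  have := hlfp; have := hqc; have := hqs
  obtain ⟨j, φ, hj⟩ := Lim60.descProp_isFinite.desc D c hc i f₀ inferInstance hf
  obtain ⟨k, ψ, hk⟩ := Lim60.descProp_etale.desc D c hc i f₀ hlfp he
  obtain ⟨m, u, v, e⟩ := IsCofiltered.cospan φ ψ
  have hmf : IsFinite (pullback.snd f₀ (D.map (u ≫ φ))) :=
    LimDesc62.DescProp.snd_map (P := @IsFinite) D f₀ φ u hj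
  have hme : Etale (pullback.snd f₀ (D.map (u ≫ φ))) :=
    e ▸ LimDesc62.DescProp.snd_map (P := @Etale) D f₀ ψ v hk
  let Vm : FEt.Cat (D.obj m) := MorphismProperty.Over.mk ⊤ (pullback.snd f₀ (D.map (u ≫ φ))) ⟨hmf, hme⟩
  refine ⟨m, Vm, ⟨?_⟩⟩
  have hw : c.π.app i = c.π.app m ≫ D.map (u ≫ φ) := (c.w (u ≫ φ)).symm
  have H2 : IsPullback (pullback.fst Vm.hom (c.π.app m) ≫ pullback.fst f₀ (D.map (u ≫ φ)))
      (pullback.snd Vm.hom (c.π.app m)) f₀ (c.π.app i) := by
    rw [hw]
    exact (IsPullback.of_hasPullback Vm.hom (c.π.app m)).paste_horiz (IsPullback.of_hasPullback _ _)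
  exact MorphismProperty.Over.isoMk (H2.isoPullback ≪≫ H.isoPullback.symm) (by
    show (H2.isoPullback.hom ≫ H.isoPullback.inv) ≫ V.hom = pullback.snd Vm.hom (c.π.app m)
    rw [Category.assoc, H.isoPullback_inv_snd, H2.isoPullback_hom_snd])

set_option backward.isDefEq.respectTransparency.types false in
/-- Two morphisms of covers of a stage which agree on the limit agree at a later stage. -/
theorem exists_stage_map_eq (i : I) (Vi Wi : FEt.Cat (D.obj i)) (φ ψ : Vi ⟶ Wi)
    (h : (FEt.restrict (c.π.app i)).map φ = (FEt.restrict (c.π.app i)).map ψ) :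
    ∃ (j : I) (a : j ⟶ i), (FEt.restrict (D.map a)).map φ = (FEt.restrict (D.map a)).map ψ := by
  have : IsFinite Vi.hom := Vi.prop.1
  have : Etale Vi.hom := Vi.prop.2
  have : IsFinite Wi.hom := Wi.prop.1
  have : Etale Wi.hom := Wi.prop.2
  have : CompactSpace ↥((𝟭 Scheme.{u}).obj Vi.left) :=
    @QuasiCompact.compactSpace_of_compactSpace Vi.left (D.obj i) Vi.hom inferInstance inferInstance
  have : CompactSpace ↥((𝟭 Scheme.{u}).obj Wi.left) :=
    @QuasiCompact.compactSpace_of_compactSpace Wi.left (D.obj i) Wi.hom inferInstance inferInstance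
  have : QuasiSeparatedSpace ↥((𝟭 Scheme.{u}).obj Vi.left) :=
    @quasiSeparatedSpace_of_quasiSeparated Vi.left (D.obj i) Vi.hom inferInstance inferInstance
  have : QuasiSeparatedSpace ↥((𝟭 Scheme.{u}).obj Wi.left) :=
    @quasiSeparatedSpace_of_quasiSeparated Wi.left (D.obj i) Wi.hom inferInstance inferInstance
  have h' : pullback.fst Vi.hom (c.π.app i) ≫ φ.left = pullback.fst Vi.hom (c.π.app i) ≫ ψ.left := by
    have h1 := congrArg (fun k => k.left ≫ pullback.fst Wi.hom (c.π.app i)) h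
    exact (pullback.lift_fst _ _ _).symm.trans (h1.trans (pullback.lift_fst _ _ _))
  obtain ⟨j, a, ha⟩ := S9219.result D c hc i Vi.hom Wi.hom _ _
    (IsPullback.of_hasPullback Vi.hom (c.π.app i)) φ.left ψ.left (w_left φ) (w_left ψ) h'
  refine ⟨j, a, MorphismProperty.Over.Hom.ext (pullback.hom_ext ?_ ?_)⟩
  · exact (pullback.lift_fst _ _ _).trans (ha.trans (pullback.lift_fst _ _ _).symm)
  · exact (pullback.lift_snd _ _ _).trans (pullback.lift_snd _ _ _).symm

end Groth.Agent.FEt83
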