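import Mathlib.CategoryTheory.Galois.Basic
import Mathlib.AlgebraicGeometry.Morphisms.FlatRank
import Mathlib.AlgebraicGeometry.Morphisms.UniversallyOpen
import Groth.Agent.FEt83.Fiber

/-!
# Finite étale covers of a connected scheme form a Galois category
-/

universe u

open CategoryTheory Limits AlgebraicGeometry Opposite

namespace Groth.Agent.FEt83

variable {X : Scheme.{u}} {Ω : Type u} [Field Ω]

theorem isFinite_left {A B : FEt.Cat X} (f : A ⟶ B) : IsFinite f.left ∧ Etale f.left :=
  (FEt.prop.{u}).of_postcomp (W' := FEt.prop.{u}) f.left B.hom B.prop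
    (by rw [w_left]; exact A.prop)

theorem mono_left {A B : FEt.Cat X} (i : A ⟶ B) [Mono i] : Mono i.left := by
  have : Mono ((MorphismProperty.Over.forget FEt.prop ⊤ X).map i) := inferInstance
  exact Over.mono_left_of_mono ((MorphismProperty.Over.forget FEt.prop ⊤ X).map i)

set_option backward.isDefEq.respectTransparency.types false in
/-- A monomorphism of covers is the inclusion of a direct summand. -/
theorem exists_complement {A B : FEt.Cat X} (i : A ⟶ B) [Mono i] :
    ∃ (Z : FEt.Cat X) (u : Z ⟶ B), Nonempty (IsColimit (BinaryCofan.mk i u)) := by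
  obtain ⟨_, _⟩ := isFinite_left i
  have := mono_left i
  have : IsOpenImmersion i.left := IsOpenImmersion.of_flat_of_mono i.left
  let W : B.left.Opens := ⟨(i.left.opensRange : Set B.left)ᶜ,
    i.left.isClosedMap.isClosed_range.isOpen_compl⟩
  have : IsClosedImmersion W.ι := .of_isPreimmersion W.ι (by
    rw [Scheme.Opens.range_ι]; exact i.left.opensRange.2.isClosed_compl)
  let Z : FEt.Cat X := MorphismProperty.Over.mk ⊤ (W.ι ≫ B.hom)
    ⟨inferInstance, inferInstance⟩
  refine ⟨Z, MorphismProperty.Over.homMk W.ι rfl, ⟨isColimitOfLeft _ _ ?_⟩⟩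
  refine (nonempty_isColimit_binaryCofanMk_of_isCompl i.left W.ι ?_).some
  rw [Scheme.Opens.opensRange_ι]
  refine ⟨?_, ?_⟩
  · rw [disjoint_iff]
    exact TopologicalSpace.Opens.ext (Set.inter_compl_self _)
  · rw [codisjoint_iff]
    exact TopologicalSpace.Opens.ext (Set.union_compl_self _)

theorem preGaloisCategory (X : Scheme.{u}) : PreGaloisCategory (FEt.Cat X) where
  hasQuotientsByFiniteGroups G _ _ := by
    obtain ⟨G', hg, hf, ⟨e⟩⟩ := Finite.exists_type_univ_nonempty_mulEquiv.{u, 0} G
    exact hasColimitsOfShape_of_equivalence e.toSingleObjEquiv.symm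
  monoInducesIsoOnDirectSummand i _ := exists_complement i

set_option backward.isDefEq.respectTransparency.types false in
/-- Every point of a finite étale cover of a separably closed point is the image of a section. -/
theorem exists_section [IsSepClosed Ω] (P : FEt.Cat (Spec (CommRingCat.of Ω))) (z : P.left) :
    ∃ s : FEt.fiberObj (Spec.map (CommRingCat.ofHom (algebraMap Ω Ω))) P, z ∈ Set.range s.1 := by
  obtain ⟨C, ⟨e⟩⟩ := Functor.EssSurj.mem_essImage (F := specFunctor Ω) P
  obtain ⟨z', rfl⟩ : ∃ z', e.hom.left z' = z := ⟨e.inv.left z, by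
    rw [← Scheme.Hom.comp_apply]
    have h := congrArg (fun k : P ⟶ P => k.left) e.inv_hom_id
    exact congr($h z)⟩
  let φ := (Algebra.IsFiniteSplit.algHomEquivPrimeSpectrum Ω C.unop.obj).symm z'
  let s := (specFunctorFiberIso Ω Ω).inv.app C φ
  refine ⟨(FEt.fiber _).map e.hom s, ?_⟩
  obtain ⟨t⟩ : Nonempty (Spec (CommRingCat.of Ω)) := inferInstance
  refine ⟨t, ?_⟩
  show (s.1 ≫ e.hom.left) t = _
  rw [Scheme.Hom.comp_apply]
  congr 1
  refine Eq.trans ?_ ((Algebra.IsFiniteSplit.algHomEquivPrimeSpectrum Ω C.unop.obj).apply_symm_apply z')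
  apply PrimeSpectrum.ext
  show Ideal.comap _ _ = RingHom.ker φ
  rw [show (t : PrimeSpectrum Ω).asIdeal = ⊥ from Subsingleton.elim (α := PrimeSpectrum Ω) t ⊥ ▸ rfl]
  rfl

set_option backward.isDefEq.respectTransparency.types false in
/-- Every point of a cover over the image of a geometric point is the image of a fibre point. -/
theorem exists_fiberObj [IsSepClosed Ω] (ξ : Spec (CommRingCat.of Ω) ⟶ X) (B : FEt.Cat X)
    (y : B.left) (t : Spec (CommRingCat.of Ω)) (hy : B.hom y = ξ t) :
    ∃ s : FEt.fiberObj ξ B, y ∈ Set.range s.1 := by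
  obtain ⟨z, hz, -⟩ := Scheme.Pullback.exists_preimage_pullback y t hy
  obtain ⟨s, t', ht'⟩ := exists_section ((FEt.restrict ξ).obj B) z
  refine ⟨(restrictFiberIso ξ _ ξ (by rw [eta_eq, Category.id_comp])).hom.app B s, t', ?_⟩
  show (s.1 ≫ pullback.fst B.hom ξ) t' = y
  exact (Scheme.Hom.comp_apply _ _ _).trans ((congrArg (fun w => pullback.fst B.hom ξ w) ht').trans hz)

set_option backward.isDefEq.respectTransparency.types false in
/-- The fibre functor at a geometric point of a connected scheme reflects isomorphisms. -/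
theorem reflectsIsomorphisms [IsSepClosed Ω] [ConnectedSpace X]
    (ξ : Spec (CommRingCat.of Ω) ⟶ X) : (fiberF ξ).ReflectsIsomorphisms where
  reflects {A B} f _ := by
    obtain ⟨_, _⟩ := isFinite_left f
    have hbij : Function.Bijective ((FEt.fiber ξ).map f) := by
      have : IsIso ((fiberF ξ ⋙ FintypeCat.incl).map f) :=
        inferInstanceAs (IsIso (FintypeCat.incl.map ((fiberF ξ).map f)))
      exact (isIso_iff_bijective _).mp
        ((NatIso.isIso_map_iff (fiberFIso ξ) f).mp this)
    suffices IsIso f.left by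
      refine ⟨MorphismProperty.Over.homMk (inv f.left) ?_, ?_, ?_⟩
      · rw [IsIso.inv_comp_eq]; exact (w_left f).symm
      · exact MorphismProperty.Over.Hom.ext (IsIso.hom_inv_id f.left)
      · exact MorphismProperty.Over.Hom.ext (IsIso.inv_hom_id f.left)
    rw [Scheme.Hom.isIso_iff_finrank_eq]
    by_contra hne
    obtain ⟨y₀, hy₀⟩ := Function.ne_iff.mp hne
    let S : Set B.left := {y | f.left.finrank y ≠ 1}
    have hS : IsClopen S := ((Scheme.Hom.isLocallyConstant_finrank f.left).isClopen_fiber 1).compl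
    have himg : B.hom '' S = (Set.univ : Set X) :=
      IsClopen.eq_univ (α := X) ⟨B.hom.isClosedMap _ hS.1, B.hom.isOpenMap _ hS.2⟩
        (Set.Nonempty.image _ ⟨y₀, hy₀⟩)
    obtain ⟨t⟩ : Nonempty (Spec (CommRingCat.of Ω)) := inferInstance
    obtain ⟨y, hyS, hy⟩ := himg.ge (Set.mem_univ (ξ t))
    obtain ⟨s, t', ht'⟩ := exists_fiberObj ξ B y t hy
    apply hyS
    let fA : FEt.Cat B.left := MorphismProperty.Over.mk ⊤ f.left ⟨inferInstance, inferInstance⟩
    have hu : Unique (FEt.fiberObj s.1 fA) := by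
      let t₀ := (Equiv.ofBijective _ hbij).symm s
      have ht₀ : t₀.1 ≫ f.left = s.1 :=
        congrArg Subtype.val ((Equiv.ofBijective _ hbij).apply_symm_apply s)
      refine ⟨⟨⟨t₀.1, ht₀⟩⟩, fun r => Subtype.ext ?_⟩
      have hr : r.1 ≫ A.hom = ξ := by
        rw [← w_left f]
        exact ((Category.assoc _ _ _).symm.trans (congrArg (· ≫ B.hom) r.2)).trans s.2
      have h' : (⟨r.1, hr⟩ : FEt.fiberObj ξ A) = t₀ := hbij.1 (Subtype.ext (r.2.trans ht₀.symm))
      exact (congrArg Subtype.val h' : r.1 = t₀.1)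
    let G := (pointEquiv Ω).functor
    let P := (FEt.restrict s.1).obj fA
    let k := (MorphismProperty.Over.mkIdTerminal FEt.prop (Spec (CommRingCat.of Ω))).from P
    have h1 : Unique (G.obj P) := @Equiv.unique _ _ hu ((fiberFIso s.1).app fA).toEquiv
    have h2 := IsTerminal.isTerminalObj G _
      (MorphismProperty.Over.mkIdTerminal FEt.prop (Spec (CommRingCat.of Ω)))
    have : IsIso (G.map k) := by
      have h3 : IsTerminal (G.obj P) := IsTerminal.ofUniqueHom
        (fun Y => FintypeCat.homMk fun _ => default)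
        (fun Y m => FintypeCat.hom_ext _ _ fun x => Subsingleton.elim _ _)
      exact ⟨h3.from _, h3.hom_ext _ _, h2.hom_ext _ _⟩
    have : IsIso k := isIso_of_reflects_iso k G
    have : IsIso k.left :=
      inferInstanceAs (IsIso (((MorphismProperty.Over.forget FEt.prop ⊤ _) ⋙ Over.forget _).map k))
    have hk : k.left = pullback.snd f.left s.1 := by
      exact (Category.comp_id _).symm.trans (w_left k)
    have : IsIso (pullback.snd f.left s.1) := hk ▸ ‹IsIso k.left›
    rw [← ht', ← Scheme.Hom.finrank_pullback_snd f.left s.1, Scheme.Hom.finrank_eq_one_of_isIso]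
    rfl

/-- The fibre functor at a geometric point of a connected scheme is a fibre functor. -/
theorem fiberFunctor [IsSepClosed Ω] [ConnectedSpace X] (ξ : Spec (CommRingCat.of Ω) ⟶ X) :
    @PreGaloisCategory.FiberFunctor _ _ (preGaloisCategory X) (fiberF ξ) :=
  let _ := preGaloisCategory X
  { preservesQuotientsByFiniteGroups := fun G _ _ => by
      obtain ⟨G', hg, hf, ⟨e⟩⟩ := Finite.exists_type_univ_nonempty_mulEquiv.{u, 0} G
      exact preservesColimitsOfShape_of_equiv e.toSingleObjEquiv.symm _
    reflectsIsos := reflectsIsomorphisms ξ }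

end Groth.Agent.FEt83
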