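import Mathlib.AlgebraicGeometry.Morphisms.FlatRank
import Mathlib.AlgebraicGeometry.Morphisms.LocalFlatDescent
import Groth.Agent.FEt83.Colim
import Groth.Agent.Unr55.TopInv
import Groth.Agent.Unr55.DescProps
import Groth.Agent.Desc59.DDOfTheta
import Groth.Agent.Desc59.DDFppf
import Groth.Agent.Desc59.DDAffine

/-!
# Étale-locally descended covers along a universal homeomorphism descend
-/

universe u

open CategoryTheory Limits AlgebraicGeometry

namespace Groth.Agent.FEt83

variable {X Y : Scheme.{u}} (f : X ⟶ Y)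

/-- Base change of a point to `X`. -/
noncomputable def bmap {S T : Scheme.{u}} {g : S ⟶ Y} {g' : T ⟶ Y} (v : S ⟶ T) (h : v ≫ g' = g) :
    pullback g f ⟶ pullback g' f :=
  pullback.lift (pullback.fst g f ≫ v) (pullback.snd g f)
    (by rw [Category.assoc, h, pullback.condition])

@[reassoc]
theorem bmap_fst {S T : Scheme.{u}} {g : S ⟶ Y} {g' : T ⟶ Y} (v : S ⟶ T) (h : v ≫ g' = g) :
    bmap f v h ≫ pullback.fst g' f = pullback.fst g f ≫ v :=
  pullback.lift_fst _ _ _

@[reassoc]
theorem bmap_snd {S T : Scheme.{u}} {g : S ⟶ Y} {g' : T ⟶ Y} (v : S ⟶ T) (h : v ≫ g' = g) :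
    bmap f v h ≫ pullback.snd g' f = pullback.snd g f :=
  pullback.lift_snd _ _ _

theorem bmap_comp {R S T : Scheme.{u}} {g'' : R ⟶ Y} {g : S ⟶ Y} {g' : T ⟶ Y} (a : R ⟶ S)
    (ha : a ≫ g = g'') (v : S ⟶ T) (h : v ≫ g' = g) :
    bmap f (a ≫ v) (by rw [Category.assoc, h, ha]) = bmap f a ha ≫ bmap f v h := by
  apply pullback.hom_ext <;>
    simp only [bmap, Category.assoc, pullback.lift_fst, pullback.lift_fst_assoc, pullback.lift_snd]

theorem bmap_id {S : Scheme.{u}} (g : S ⟶ Y) : bmap f (𝟙 S) (Category.id_comp g) = 𝟙 _ := by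
  apply pullback.hom_ext <;> simp [bmap]

set_option backward.isDefEq.respectTransparency.types false in
theorem isPullback_bmap {S T W : Scheme.{u}} {π : S ⟶ T} {s : S ⟶ W} {t : T ⟶ Y} {p : W ⟶ Y}
    (H : IsPullback π s t p) :
    IsPullback (bmap f π (g := s ≫ p) H.w) (bmap f s rfl) (pullback.snd t f) (pullback.snd p f) := by
  have h1 : IsPullback (pullback.fst (s ≫ p) f) (bmap f s rfl) s (pullback.fst p f) := by
    refine IsPullback.of_bot ?_ (bmap_fst f s rfl).symm (IsPullback.of_hasPullback p f)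
    rw [bmap_snd]
    exact IsPullback.of_hasPullback (s ≫ p) f
  have h2 := h1.paste_horiz H
  rw [pullback.condition, ← bmap_fst f π (g := s ≫ p) H.w] at h2
  exact IsPullback.of_right h2 (by rw [bmap_snd, bmap_snd]) (IsPullback.of_hasPullback t f)

set_option backward.isDefEq.respectTransparency.types false in
/-- A property local on the target which descends along fpqc covers descends along `p`. -/
theorem descend_prop (P : MorphismProperty Scheme.{u}) [P.IsStableUnderBaseChange]
    [IsZariskiLocalAtTarget P]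
    (hP : P.DescendsAlong (@Surjective ⊓ @Flat ⊓ @QuasiCompact : MorphismProperty Scheme.{u}))
    {W V U : Scheme.{u}} {p : W ⟶ Y} [Flat p] [Desc59.IsFpqcMor p] {π : V ⟶ U} {s : V ⟶ W}
    {t : U ⟶ Y} (H : IsPullback π s t p) (hs : P s) : P t := by
  refine IsZariskiLocalAtTarget.of_forall_exists_morphismRestrict (P := P) fun y => ?_
  obtain ⟨_, ⟨O, hO, rfl⟩, hyO, -⟩ :=
    Y.isBasis_affineOpens.exists_subset_of_mem_open (Set.mem_univ y) isOpen_univ
  replace hO : IsAffineOpen O := hO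
  obtain ⟨X', g, hX', hg, hgs⟩ := Desc59.IsFpqcMor.exists_affine_subcover p hO
  refine ⟨O, hyO, ?_⟩
  have : IsAffine (O : Scheme.{u}) := hO
  have : Flat (g ≫ p ∣_ O) := inferInstance
  refine hP.of_isPullback (IsPullback.of_hasPullback (t ∣_ O) (g ≫ p ∣_ O)).flip
    ⟨⟨hgs, inferInstance⟩, inferInstance⟩ ?_
  have h2 := (IsPullback.of_hasPullback (t ∣_ O) (g ≫ p ∣_ O)).paste_horiz
    (isPullback_morphismRestrict t O).flip
  rw [Category.assoc, morphismRestrict_ι, ← Category.assoc] at h2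
  exact MorphismProperty.of_isPullback (IsPullback.of_right' h2 H) hs

set_option backward.isDefEq.respectTransparency.types false in
/-- Finite étale covers of `X` coming étale locally on `Y` from finite étale covers descend along a
universal homeomorphism `X ⟶ Y`. -/
theorem exists_of_locally [IsIntegralHom f] [UniversallyInjective f] [Surjective f] (Z : FEt.Cat X)
    {W : Scheme.{u}} (p : W ⟶ Y) [Etale p] [Surjective p] (T : FEt.Cat W)
    (ε : pullback (T.hom ≫ p) f ⟶ Z.left)
    (hε : IsPullback ε (bmap f T.hom rfl) Z.hom (pullback.snd p f)) :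
    ∃ Y' : FEt.Cat Y, Nonempty ((FEt.restrict f).obj Y' ≅ Z) := by
  have hpf : IsFinite T.hom := T.prop.1
  have hpe : Etale T.hom := T.prop.2
  have huh : ∀ {S : Scheme.{u}} (g : S ⟶ Y), Unr55.IsUnivHomeo (pullback.fst g f) := fun g => by
    have : UniversallyInjective (pullback.fst g f) :=
      MorphismProperty.pullback_fst (P := @UniversallyInjective) g f inferInstance
    have : IsIntegralHom (pullback.fst g f) :=
      MorphismProperty.pullback_fst (P := @IsIntegralHom) g f inferInstance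
    have : Surjective (pullback.fst g f) :=
      MorphismProperty.pullback_fst (P := @Surjective) g f inferInstance
    exact fun {R} r => Unr55.isUnivHomeo_of_universallyClosed (pullback.fst g f) r
  -- points of `T` are sections of `Z` after base change
  have uniq : ∀ {S : Scheme.{u}} {g : S ⟶ Y} (v v' : S ⟶ T.left) (h : v ≫ T.hom ≫ p = g)
      (h' : v' ≫ T.hom ≫ p = g), v ≫ T.hom = v' ≫ T.hom →
      bmap f v h ≫ ε = bmap f v' h' ≫ ε → v = v' := by
    intro S g v v' h h' e1 e2
    have e3 : bmap f v h = bmap f v' h' := by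
      refine hε.hom_ext e2 ?_
      apply pullback.hom_ext
      · simp only [Category.assoc, bmap_fst, bmap_fst_assoc, e1]
      · simp only [Category.assoc, bmap_snd]
    have e4 := congrArg (· ≫ pullback.fst _ _) e3
    simp only [bmap_fst] at e4
    exact (Unr55.existsUnique_hom_of_isUnivHomeo T.hom (pullback.fst g f) (huh g) (v ≫ T.hom)
      (pullback.fst g f ≫ v) (Category.assoc _ _ _)).unique ⟨rfl, rfl⟩ ⟨e1.symm, e4.symm⟩
  have ex : ∀ {S : Scheme.{u}} {g : S ⟶ Y} (x : S ⟶ W) (hx : x ≫ p = g)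
      (s : pullback g f ⟶ Z.left), s ≫ Z.hom = pullback.snd g f →
      ∃ (v : S ⟶ T.left) (hv : v ≫ T.hom = x),
        bmap f v (by rw [← Category.assoc, hv, hx]) ≫ ε = s := by
    intro S g x hx s hs
    let a := hε.lift s (bmap f x hx) (by rw [hs, bmap_snd])
    have ha : a ≫ bmap f T.hom rfl = bmap f x hx := hε.lift_snd _ _ _
    have ha1 := congrArg (· ≫ pullback.fst p f) ha
    have ha2 := congrArg (· ≫ pullback.snd p f) ha
    simp only [Category.assoc, bmap_fst] at ha1
    simp only [Category.assoc, bmap_snd] at ha2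
    obtain ⟨v, ⟨hv, hv'⟩, -⟩ := Unr55.existsUnique_hom_of_isUnivHomeo T.hom (pullback.fst g f)
      (huh g) x (a ≫ pullback.fst _ _) (by rw [Category.assoc]; exact ha1)
    refine ⟨v, hv, ?_⟩
    have : bmap f v (by rw [← Category.assoc, hv, hx]) = a :=
      pullback.hom_ext (by rw [bmap_fst, hv']) (by rw [bmap_snd, ha2])
    rw [this]
    exact hε.lift_fst _ _ _
  -- the descent datum
  let G := T.hom ≫ p
  have hsnd : pullback.snd p G ≫ G = pullback.fst p G ≫ p := pullback.condition.symm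
  obtain ⟨t, ht, htε⟩ := ex (pullback.fst p G) rfl (bmap f (pullback.snd p G) hsnd ≫ ε)
    (by rw [Category.assoc, hε.w, bmap_snd, bmap_snd])
  have key : ∀ {S : Scheme.{u}} {g : S ⟶ Y} (x : S ⟶ W) (v : S ⟶ T.left) (h : v ≫ G = g)
      (hx : x ≫ p = v ≫ G) (h' : (pullback.lift x v hx ≫ t) ≫ G = g),
      bmap f (pullback.lift x v hx ≫ t) h' ≫ ε = bmap f v h ≫ ε := by
    intro S g x v h hx h'
    have hl : pullback.lift x v hx ≫ pullback.fst p G ≫ p = g := by
      rw [pullback.lift_fst_assoc, hx, h]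
    rw [bmap_comp f (pullback.lift x v hx) hl t (by rw [← Category.assoc, ht]), Category.assoc,
      htε, ← Category.assoc,
      ← bmap_comp f (pullback.lift x v hx) hl (pullback.snd p G) hsnd]
    simp only [pullback.lift_snd]
  have tG : ∀ {S : Scheme.{u}} (x : S ⟶ W) (v : S ⟶ T.left) (hx : x ≫ p = v ≫ G),
      (pullback.lift x v hx ≫ t) ≫ G = v ≫ G := fun x v hx => by
    show (_ ≫ t) ≫ T.hom ≫ p = _
    rw [Category.assoc, reassoc_of% ht, pullback.lift_fst_assoc, hx]
  have hd : pullback.lift T.hom (𝟙 T.left) (Category.id_comp G).symm ≫ t = 𝟙 T.left := by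
    refine uniq (g := G) _ _ ((tG _ _ _).trans (Category.id_comp _)) (Category.id_comp _) ?_ ?_
    · rw [Category.assoc, ht, pullback.lift_fst]; exact (Category.id_comp _).symm
    · exact key _ _ _ _ _
  have hc : ∀ {S : Scheme.{u}} (v : S ⟶ T.left) (x₁ x₂ : S ⟶ W) (h₁ : x₁ ≫ p = v ≫ G)
      (h₂ : x₂ ≫ p = v ≫ G) (h₃ : x₂ ≫ p = (pullback.lift x₁ v h₁ ≫ t) ≫ G),
      pullback.lift x₂ (pullback.lift x₁ v h₁ ≫ t) h₃ ≫ t = pullback.lift x₂ v h₂ ≫ t := by
    intro S v x₁ x₂ h₁ h₂ h₃
    refine uniq (g := v ≫ G) _ _ ((tG _ _ _).trans (tG _ _ _)) (tG _ _ _) ?_ ?_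
    · simp only [Category.assoc, ht]
      exact (pullback.lift_fst _ _ _).trans (pullback.lift_fst _ _ _).symm
    · exact ((key _ _ (tG _ _ _) _ _).trans (key _ _ rfl _ _)).trans (key _ _ rfl _ _).symm
  let D : Desc.SchDD p := Desc59.ofθ (Over.mk T.hom) t ht hd fun v x₁ x₂ h₁ h₂ =>
    hc v x₁ x₂ h₁ h₂ _
  have hDθ : Desc59.θ D = t := Desc59.θ_ofθ (Over.mk T.hom) t ht hd _
  obtain ⟨U, π, hπ⟩ := Desc59.exists_isQuot_iff.mpr <| Desc59.effective_of_affine_case_fpqcMor
    @IsAffineHom (fun W' S' p' _ _ _ _ D' hD' => by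
      have : IsAffineHom D'.obj.hom := hD'
      exact Desc59.effective_of_isAffineHom p' D') p D (inferInstanceAs (IsAffineHom T.hom))
  obtain ⟨π₁, hπ₁⟩ : ∃ π₁ : T.left ⟶ U.left, π₁ = π := ⟨π, rfl⟩
  have H : IsPullback π₁ T.hom U.hom p := hπ₁ ▸ hπ.isPullback
  have hflat : Flat π₁ := hπ₁ ▸ hπ.flat
  have hsurj : Surjective π₁ := hπ₁ ▸ hπ.surjective
  have hfpqc : Desc59.IsFpqcMor π₁ := hπ₁ ▸ hπ.isFpqcMor
  have hUf : IsFinite U.hom := descend_prop _ Unr55.isFinite H hpf
  have hUe : Etale U.hom :=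
    descend_prop @Etale inferInstance H hpe
  -- descend `ε`
  let π' := bmap f π₁ (g := G) H.w
  have hπ'sq : IsPullback π' (pullback.fst G f) (pullback.fst U.hom f) π₁ := by
    refine IsPullback.of_right (h₁₂ := pullback.snd U.hom f) (v₁₃ := f) (h₂₂ := U.hom) ?_
      (bmap_fst f π₁ H.w) (IsPullback.of_hasPullback U.hom f).flip
    rw [bmap_snd, show π₁ ≫ U.hom = G from H.w]
    exact (IsPullback.of_hasPullback G f).flip
  have : Desc59.IsFpqcMor π' := Desc59.IsFpqcMor.of_isPullback hπ'sq.flip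
  have : Flat π' := MorphismProperty.of_isPullback hπ'sq.flip inferInstance
  have : Surjective π' := MorphismProperty.of_isPullback hπ'sq.flip inferInstance
  have hinv : ∀ {Q : Scheme.{u}} (g₁ g₂ : Q ⟶ pullback G f), g₁ ≫ π' = g₂ ≫ π' →
      g₁ ≫ ε = g₂ ≫ ε := by
    intro Q g₁ g₂ e
    have e1 := congrArg (· ≫ pullback.fst U.hom f) e
    have e2 := congrArg (· ≫ pullback.snd U.hom f) e
    simp only [Category.assoc, π', bmap_fst, bmap_snd] at e1 e2
    let v₁ := g₁ ≫ pullback.fst G f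
    let v₂ := g₂ ≫ pullback.fst G f
    have e3 := hπ.lift_θ_eq v₁ v₂ ((Category.assoc g₁ (pullback.fst G f) π).trans
      ((hπ₁ ▸ e1 : g₁ ≫ pullback.fst G f ≫ π = g₂ ≫ pullback.fst G f ≫ π).trans
        (Category.assoc g₂ (pullback.fst G f) π).symm))
    rw [hDθ] at e3
    let g : Q ⟶ Y := v₁ ≫ G
    have hv₂ : v₂ ≫ G = g := by
      show v₂ ≫ G = v₁ ≫ G
      simp only [v₁, v₂, Category.assoc, pullback.condition, reassoc_of% e2]
    have e4 : bmap f v₁ (g' := G) (g := g) rfl ≫ ε = bmap f v₂ hv₂ ≫ ε := by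
      rw [← key (v₂ ≫ T.hom) v₁ rfl (by rw [Category.assoc]; exact hv₂) (by
        rw [tG])]
      congr 2
    have hsec : ∀ (gi : Q ⟶ pullback G f) (h : (gi ≫ pullback.fst G f) ≫ G = g),
        pullback.lift (𝟙 Q) (gi ≫ pullback.snd G f) (by
          rw [Category.id_comp, ← h, Category.assoc, Category.assoc, pullback.condition]) ≫
            bmap f (gi ≫ pullback.fst G f) h = gi := fun gi h => by
      apply pullback.hom_ext
      · rw [Category.assoc, bmap_fst, pullback.lift_fst_assoc, Category.id_comp]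
      · rw [Category.assoc, bmap_snd, pullback.lift_snd]
    conv_lhs => rw [← hsec g₁ rfl, Category.assoc, e4]
    conv_rhs => rw [← hsec g₂ hv₂, Category.assoc]
    simp only [e2]
    rfl
  let c : pullback U.hom f ⟶ Z.left := EffectiveEpi.desc π' ε fun g₁ g₂ e => hinv g₁ g₂ e
  have hc' : π' ≫ c = ε := EffectiveEpi.fac π' ε _
  have hcZ : c ≫ Z.hom = pullback.snd U.hom f := by
    have := Flat.epi_of_flat_of_surjective π'
    rw [← cancel_epi π', reassoc_of% hc', hε.w, bmap_snd, bmap_snd]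
  let Y' : FEt.Cat Y := MorphismProperty.Over.mk ⊤ U.hom ⟨hUf, hUe⟩
  have : IsFinite (c ≫ Z.hom) := by
    rw [hcZ]; exact MorphismProperty.pullback_snd _ _ hUf
  have : Etale (c ≫ Z.hom) := by
    rw [hcZ]; exact MorphismProperty.pullback_snd _ _ hUe
  have : IsFinite c := IsFinite.of_comp c Z.hom
  have : Etale c := Etale.of_comp c Z.hom
  have hsq : IsPullback π' (𝟙 _) c ε := by
    refine IsPullback.of_bot ?_ (by rw [hc', Category.id_comp]) hε
    rw [Category.id_comp, hcZ]
    exact isPullback_bmap f H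
  have hciso : IsIso c := by
    rw [Scheme.Hom.isIso_iff_finrank_eq]
    funext z
    have : Surjective (pullback.snd p f) := inferInstance
    have : Surjective ε := MorphismProperty.of_isPullback hε.flip inferInstance
    obtain ⟨w, rfl⟩ := ε.surjective z
    rw [← Scheme.Hom.finrank_of_isPullback (f := c) (g := ε) π' (𝟙 _) hsq w,
      Scheme.Hom.finrank_eq_one_of_isIso]
    rfl
  exact ⟨Y', ⟨MorphismProperty.Over.isoMk (@asIso _ _ _ _ c hciso) hcZ⟩⟩

end Groth.Agent.FEt83
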