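import Mathlib.RingTheory.Etale.QuasiFinite
import Mathlib.RingTheory.Etale.Field
import Mathlib.RingTheory.Finiteness.ModuleFinitePresentation
import Mathlib.RingTheory.Etale.Basic
import Mathlib.RingTheory.Flat.Rank
import Mathlib.RingTheory.Localization.Away.Lemmas
import Mathlib.RingTheory.Polynomial.ScaleRoots
import Mathlib.FieldTheory.PurelyInseparable.Basic
import Mathlib.FieldTheory.PrimitiveElement
import Mathlib.RingTheory.IntegralClosure.IsIntegralClosure.Basic
import Mathlib.FieldTheory.IsAlgClosed.AlgebraicClosure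
import Groth.Agent.Unr55.EtAscent

/-!
# Étale-local sections of étale algebras along a universal homeomorphism
-/

universe u

open TensorProduct Polynomial

namespace Groth.Agent.FEt83

variable {A C₀ : Type u} [CommRing A] [CommRing C₀] [Algebra A C₀]

set_option backward.isDefEq.respectTransparency false in
/-- A quasi-finite point becomes radicial over a suitable étale neighbourhood of the base. -/
theorem exists_radicial_nhd [Algebra.FiniteType A C₀] [Algebra.QuasiFinite A C₀]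
    (p : Ideal A) [p.IsPrime] (q : Ideal C₀) [q.IsPrime] [q.LiesOver p] :
    ∃ (A₁ : Type u) (_ : CommRing A₁) (_ : Algebra A A₁) (_ : Algebra.Etale A A₁)
      (p₁ : Ideal A₁) (_ : p₁.IsPrime) (_ : p₁.LiesOver p)
      (φ₁ : A₁ →ₐ[A] q.ResidueField), RingHom.ker φ₁ = p₁ ∧
      ∀ (Ω : Type u) [Field Ω] (χ χ' : A₁ ⊗[A] C₀ →+* Ω),
        RingHom.ker χ = RingHom.ker (Algebra.TensorProduct.lift φ₁
          (IsScalarTower.toAlgHom A C₀ q.ResidueField) fun _ _ => .all _ _) →
        RingHom.ker χ' = RingHom.ker χ →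
        (∀ a, χ (a ⊗ₜ 1) = χ' (a ⊗ₜ 1)) → χ = χ' := by
  classical
  let := Localization.AtPrime.algebraOfLiesOver p q
  let K := p.ResidueField
  let L := q.ResidueField
  have : Module.Finite K L := inferInstance
  let E := separableClosure K L
  obtain ⟨θ, hθ⟩ := Field.exists_primitive_element K E
  -- the primitive element comes from `C₀` after scaling
  obtain ⟨z, hz⟩ := Ideal.Fiber.lift_residueField_surjective p q (θ : L)
  obtain ⟨r, hr, c, hc⟩ := Ideal.Fiber.exists_smul_eq_one_tmul _ z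
  have hrK : algebraMap A K r ≠ 0 := fun h => hr (Ideal.algebraMap_residueField_eq_zero.mp h)
  have hcθ : algebraMap C₀ L c = algebraMap A L r * (θ : L) := by
    have := congrArg (Algebra.TensorProduct.lift (Algebra.ofId K L)
      (IsScalarTower.toAlgHom A C₀ L) fun _ _ => .all _ _ : p.Fiber C₀ →ₐ[K] L) hc
    rw [AlgHom.map_smul_of_tower, hz, Algebra.TensorProduct.lift_tmul, map_one, one_mul,
      Algebra.smul_def] at this
    exact this.symm
  let g := minpoly K θ
  have hgm : g.Monic := minpoly.monic (Algebra.IsIntegral.isIntegral θ)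
  have hsep : g.Separable := Algebra.IsSeparable.isSeparable K θ
  -- clear denominators
  obtain ⟨⟨b, hb⟩, hbq⟩ := IsLocalization.exist_integer_multiples_of_finset
    (nonZeroDivisors (A ⧸ p)) ((Finset.range (g.natDegree + 1)).image fun i => g.coeff i)
  obtain ⟨b, rfl⟩ := Ideal.Quotient.mk_surjective b
  have hbp : b ∉ p := fun h => nonZeroDivisors.ne_zero hb (Ideal.Quotient.eq_zero_iff_mem.mpr h)
  -- `θ₂ = b r θ` is the image of `b c`
  have hbrK : algebraMap A K (b * r) ≠ 0 := fun h =>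
    (‹p.IsPrime›.mem_or_mem (Ideal.algebraMap_residueField_eq_zero.mp h)).elim hbp hr
  let β := algebraMap A K (b * r)
  let g₂ := g.scaleRoots β
  have hlifts : g₂ ∈ Polynomial.lifts (algebraMap A K) := by
    rw [Polynomial.lifts_iff_coeff_lifts]
    intro i
    rw [coeff_scaleRoots]
    rcases lt_trichotomy i g.natDegree with hi | rfl | hi
    · obtain ⟨a, ha⟩ := hbq (g.coeff i)
        (Finset.mem_image.mpr ⟨i, Finset.mem_range.mpr (hi.trans (Nat.lt_succ_self _)), rfl⟩)
      obtain ⟨a, rfl⟩ := Ideal.Quotient.mk_surjective a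
      refine ⟨a * r * (b * r) ^ (g.natDegree - i - 1), ?_⟩
      have e : g.natDegree - i = g.natDegree - i - 1 + 1 := by omega
      conv_rhs => rw [e, pow_succ]
      have ha' : algebraMap A K a = algebraMap A K b * g.coeff i := by
        rw [IsScalarTower.algebraMap_apply A (A ⧸ p) K, IsScalarTower.algebraMap_apply A (A ⧸ p) K b]
        exact ha.trans (Algebra.smul_def _ _)
      simp only [β, map_mul, map_pow, ha']
      ring
    · exact ⟨1, by simp [hgm.coeff_natDegree]⟩
    · exact ⟨0, by simp [coeff_eq_zero_of_natDegree_lt hi]⟩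
  obtain ⟨G, hG, -, hGm⟩ := lifts_and_degree_eq_and_monic hlifts (monic_scaleRoots_iff β |>.mpr hgm)
  let θ₂ : L := algebraMap C₀ L (algebraMap A C₀ b * c)
  have hθ₂ : θ₂ = algebraMap K L β * (θ : L) := by
    simp only [θ₂, β, map_mul, hcθ, ← IsScalarTower.algebraMap_apply, mul_assoc]
  have hg0 : aeval (θ : L) g = 0 :=
    (aeval_algHom_apply E.val θ g).trans (by rw [minpoly.aeval, map_zero])
  have hG0 : aeval θ₂ G = 0 := by
    rw [← aeval_map_algebraMap K, hG, hθ₂, aeval_def]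
    exact scaleRoots_eval₂_eq_zero (algebraMap K L) hg0
  have hG1 : aeval θ₂ (derivative G) ≠ 0 := by
    rw [← aeval_map_algebraMap K, ← derivative_map, hG]
    intro h0
    have hcomp : g₂.comp (C β * X) = C (β ^ g.natDegree) * g := by
      ext i
      rw [comp_C_mul_X_coeff, coeff_scaleRoots, coeff_C_mul]
      rcases le_or_gt i g.natDegree with hi | hi
      · rw [mul_assoc, ← pow_add, Nat.sub_add_cancel hi, mul_comm]
      · simp [coeff_eq_zero_of_natDegree_lt hi]
    have h1 := congrArg (fun P => aeval (θ : L) (derivative P)) hcomp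
    simp only [derivative_comp, derivative_C_mul, derivative_X, mul_one, map_mul, aeval_C,
      aeval_comp, aeval_X, ← hθ₂, h0, mul_zero] at h1
    rcases mul_eq_zero.mp h1.symm with h2 | h2
    · exact pow_ne_zero _ hbrK ((algebraMap K L).injective (h2.trans (map_zero _).symm))
    · exact hsep.aeval_derivative_ne_zero hg0 h2
  let P : StandardEtalePair A :=
    { f := G, monic_f := hGm, g := derivative G, cond := ⟨1, 0, 1, by simp⟩ }
  have hmap : P.HasMap θ₂ := ⟨hG0, isUnit_iff_ne_zero.mpr hG1⟩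
  let φ₁ := P.lift θ₂ hmap
  have hφ₁X : φ₁ P.X = θ₂ := P.lift_X θ₂ hmap
  have hp₁ : (RingHom.ker φ₁).LiesOver p := ⟨by
    ext a
    rw [Ideal.under_def, Ideal.mem_comap, RingHom.mem_ker, φ₁.commutes,
      IsScalarTower.algebraMap_apply A C₀ L, Ideal.algebraMap_residueField_eq_zero,
      Ideal.over_def q p, Ideal.under_def, Ideal.mem_comap]⟩
  refine ⟨P.Ring, inferInstance, inferInstance, inferInstance, RingHom.ker φ₁,
    RingHom.ker_isPrime _, hp₁, φ₁, rfl, fun Ω _ χ χ' hχ hχ' heq => ?_⟩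
  -- the relation between the coordinate and the primitive element
  have hrel : χ (P.X ⊗ₜ 1) = χ (1 ⊗ₜ (algebraMap A C₀ b * c)) := by
    refine sub_eq_zero.mp ?_
    rw [← map_sub, ← RingHom.mem_ker, hχ, RingHom.mem_ker, map_sub, Algebra.TensorProduct.lift_tmul,
      Algebra.TensorProduct.lift_tmul, hφ₁X, map_one, map_one, one_mul, mul_one]
    exact sub_self _
  have hrel' : χ' (P.X ⊗ₜ 1) = χ' (1 ⊗ₜ (algebraMap A C₀ b * c)) := by
    refine sub_eq_zero.mp ?_
    rw [← map_sub, ← RingHom.mem_ker, hχ', RingHom.mem_ker, map_sub, hrel, sub_self]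
  let inc : C₀ →+* P.Ring ⊗[A] C₀ := Algebra.TensorProduct.includeRight.toRingHom
  have hker : ∀ ξ : P.Ring ⊗[A] C₀ →+* Ω, RingHom.ker ξ = RingHom.ker χ →
      RingHom.ker (ξ.comp inc) = q := fun ξ hξ => by
    rw [← RingHom.comap_ker, hξ, hχ]
    ext x
    simp only [Ideal.mem_comap, RingHom.mem_ker, inc, AlgHom.toRingHom_eq_coe, RingHom.coe_coe,
      Algebra.TensorProduct.includeRight_apply, Algebra.TensorProduct.lift_tmul, map_one, one_mul,
      IsScalarTower.coe_toAlgHom', Ideal.algebraMap_residueField_eq_zero]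
  let l : ∀ ξ : P.Ring ⊗[A] C₀ →+* Ω, RingHom.ker ξ = RingHom.ker χ → L →+* Ω := fun ξ hξ =>
    Ideal.ResidueField.lift q (ξ.comp inc) (hker ξ hξ).ge fun x hx => isUnit_iff_ne_zero.mpr
      fun h0 => hx ((hker ξ hξ).le h0)
  have hl : ∀ ξ hξ x, l ξ hξ (algebraMap C₀ L x) = ξ (1 ⊗ₜ x) := fun ξ hξ x =>
    Ideal.ResidueField.lift_algebraMap _ _ _ _ x
  have hA : ∀ a, χ (1 ⊗ₜ algebraMap A C₀ a) = χ' (1 ⊗ₜ algebraMap A C₀ a) := fun a => by
    rw [show (1 : P.Ring) ⊗ₜ[A] algebraMap A C₀ a = algebraMap A P.Ring a ⊗ₜ 1 by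
      rw [Algebra.algebraMap_eq_smul_one, Algebra.algebraMap_eq_smul_one, TensorProduct.smul_tmul]]
    exact heq _
  have hK : (l χ rfl).comp (algebraMap K L) = (l χ' hχ').comp (algebraMap K L) := by
    apply Ideal.ResidueField.ringHom_ext
    ext a
    show l χ rfl (algebraMap K L (algebraMap A K a)) = l χ' hχ' (algebraMap K L (algebraMap A K a))
    rw [← IsScalarTower.algebraMap_apply A K L, IsScalarTower.algebraMap_apply A C₀ L,
      hl χ rfl, hl χ' hχ']
    exact hA a
  have hθeq : l χ rfl θ₂ = l χ' hχ' θ₂ := by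
    rw [hl χ rfl, hl χ' hχ', ← hrel, ← hrel']
    exact heq _
  have hE : (l χ rfl).comp (algebraMap E L) = (l χ' hχ').comp (algebraMap E L) := by
    let T : IntermediateField K E :=
      { RingHom.eqLocusField ((l χ rfl).comp (algebraMap E L)) ((l χ' hχ').comp (algebraMap E L)) with
        algebraMap_mem' := fun k => congr($hK k) }
    have hT : θ ∈ T := by
      show l χ rfl (θ : L) = l χ' hχ' (θ : L)
      have h1 := hθeq
      rw [hθ₂, map_mul, map_mul, show l χ rfl (algebraMap K L β) = l χ' hχ' (algebraMap K L β)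
        from congr($hK β)] at h1
      exact mul_left_cancel₀ (fun h => hbrK ((algebraMap K L).injective
        ((l χ' hχ').injective (h.trans (map_zero _).symm) |>.trans (map_zero _).symm))) h1
    ext x
    exact (hθ ▸ IntermediateField.adjoin_simple_le_iff.mpr hT : (⊤ : IntermediateField K E) ≤ T)
      IntermediateField.mem_top
  have hL : l χ rfl = l χ' hχ' := IsPurelyInseparable.injective_comp_algebraMap E L Ω hE
  refine RingHom.ext fun x => ?_
  induction x with
  | zero => rw [map_zero, map_zero]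
  | add x y hx hy => rw [map_add, map_add, hx, hy]
  | tmul a x =>
    rw [← mul_one a, ← one_mul x, ← Algebra.TensorProduct.tmul_mul_tmul, map_mul, map_mul, heq,
      ← hl χ rfl x, ← hl χ' hχ' x, hL]

/-- The rank of a finite étale algebra is one at a point over which it has exactly one geometric
point. -/
theorem rankAtStalk_eq_one {R E Ω : Type u} [CommRing R] [CommRing E] [Algebra R E]
    [Algebra.Etale R E] [Module.Finite R E] [Field Ω] [IsSepClosed Ω] [Algebra R Ω]
    (hne : Nonempty (E →ₐ[R] Ω)) (huniq : ∀ u u' : E →ₐ[R] Ω, u = u') :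
    Module.rankAtStalk (R := R) E ⟨RingHom.ker (algebraMap R Ω), RingHom.ker_isPrime _⟩ = 1 := by
  classical
  have hx' : (⊥ : PrimeSpectrum Ω).comap (algebraMap R Ω) =
      ⟨RingHom.ker (algebraMap R Ω), RingHom.ker_isPrime _⟩ := PrimeSpectrum.ext rfl
  rw [← hx', ← Module.rankAtStalk_baseChange, Module.rankAtStalk_eq_finrank_of_free,
    Pi.natCast_def]
  show Module.finrank Ω (Ω ⊗[R] E) = 1
  let τ := Algebra.FormallyEtale.equivPiOfIsSepClosed Ω (Ω ⊗[R] E)
  have : IsArtinianRing (Ω ⊗[R] E) := IsArtinianRing.of_finite Ω _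
  rw [τ.toLinearEquiv.finrank_eq]
  have hsub : ∀ u u' : Ω ⊗[R] E →ₐ[Ω] Ω, u = u' := fun u u' =>
    Algebra.TensorProduct.ext (Subsingleton.elim _ _)
      (huniq ((u.restrictScalars R).comp Algebra.TensorProduct.includeRight)
        ((u'.restrictScalars R).comp Algebra.TensorProduct.includeRight))
  have hss : Subsingleton (PrimeSpectrum (Ω ⊗[R] E)) := ⟨fun Q Q' => by
    by_contra hne
    have h := congr($(hsub ((Pi.evalAlgHom Ω _ Q).comp τ.toAlgHom)
      ((Pi.evalAlgHom Ω _ Q').comp τ.toAlgHom)) (τ.symm (Pi.single Q 1)))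
    simp [Pi.single_eq_of_ne (Ne.symm hne)] at h⟩
  obtain ⟨u₀⟩ := hne
  let u₁ : Ω ⊗[R] E →ₐ[Ω] Ω :=
    Algebra.TensorProduct.lift (AlgHom.id Ω Ω) u₀ fun _ _ => .all _ _
  have : Nonempty (PrimeSpectrum (Ω ⊗[R] E)) := ⟨⟨RingHom.ker u₁, RingHom.ker_isPrime _⟩⟩
  have : Fintype (PrimeSpectrum (Ω ⊗[R] E)) := Fintype.ofFinite _
  rw [Module.finrank_pi, Fintype.card_eq_one_iff]
  exact ⟨Classical.arbitrary _, fun Q => Subsingleton.elim _ _⟩

/-- A finite étale algebra of rank one at the point over `P` acquires a section near `P`. -/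
theorem exists_shrink {A' B' E : Type u} [CommRing A'] [CommRing B'] [Algebra A' B']
    [Algebra.IsIntegral A' B'] [CommRing E] [Algebra B' E] [Algebra.Etale B' E] [Module.Finite B' E]
    (hinj : Function.Injective (PrimeSpectrum.comap (algebraMap A' B')))
    (x' : PrimeSpectrum B') (hone : Module.rankAtStalk (R := B') E x' = 1) :
    ∃ h : A', h ∉ (x'.comap (algebraMap A' B')).asIdeal ∧
      ∀ (S : Type u) [CommRing S] [Algebra B' S], IsUnit (algebraMap B' S (algebraMap A' B' h)) →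
        Nonempty (E →ₐ[B'] S) := by
  let Z := {z : PrimeSpectrum B' | Module.rankAtStalk (R := B') E z ≠ 1}
  have : Module.FinitePresentation B' E := Module.FinitePresentation.of_finite_of_finitePresentation ..
  have hZ : IsClosed Z :=
    ((Module.isLocallyConstant_rankAtStalk (R := B') (M := E)).isClopen_fiber 1).compl.1
  have hZc := PrimeSpectrum.isClosedMap_comap_of_isIntegral
    (f := algebraMap A' B') (algebraMap_isIntegral_iff.mpr inferInstance) Z hZ
  have hPZ : x'.comap (algebraMap A' B') ∉ PrimeSpectrum.comap (algebraMap A' B') '' Z := by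
    rintro ⟨z, hz, hzP⟩
    exact hz (hinj hzP ▸ hone)
  obtain ⟨_, ⟨_, ⟨h, rfl⟩, rfl⟩, hPh, hsub⟩ :=
    PrimeSpectrum.isBasis_basic_opens.exists_subset_of_mem_open hPZ hZc.isOpen_compl
  refine ⟨h, hPh, fun S _ _ hu => ?_⟩
  have hrank : Module.rankAtStalk (R := S) (S ⊗[B'] E) = 1 := by
    funext y
    rw [Module.rankAtStalk_baseChange]
    by_contra hne
    refine hsub ?_ ⟨_, hne, rfl⟩
    intro hmem
    exact y.isPrime.ne_top (Ideal.eq_top_of_isUnit_mem _ hmem hu)
  have hbij := Module.algebraMap_bijective_of_rankAtStalk hrank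
  exact ⟨((AlgEquiv.ofBijective (Algebra.ofId S (S ⊗[B'] E)) hbij).symm.toAlgHom.restrictScalars B').comp
    Algebra.TensorProduct.includeRight⟩

/-- A finite étale algebra with an idempotent having one geometric point acquires a section. -/
theorem exists_factor_section {A' B' C' Ω : Type u} [CommRing A'] [CommRing B'] [Algebra A' B']
    [Algebra.IsIntegral A' B'] [CommRing C'] [Algebra B' C'] [Algebra.Etale B' C']
    [Module.Finite B' C'] [Field Ω] [IsSepClosed Ω] [Algebra B' Ω]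
    (hinj : Function.Injective (PrimeSpectrum.comap (algebraMap A' B')))
    {ε : C'} (hε : IsIdempotentElem ε) (Φ' : C' →ₐ[B'] Ω) (hΦ : Φ' ε = 1)
    (huniq : ∀ v v' : C' →ₐ[B'] Ω, v ε = 1 → v' ε = 1 → v = v') :
    ∃ h : A', algebraMap B' Ω (algebraMap A' B' h) ≠ 0 ∧
      ∀ (S : Type u) [CommRing S] [Algebra B' S], IsUnit (algebraMap B' S (algebraMap A' B' h)) →
        Nonempty (C' →ₐ[B'] S) := by
  have : IsLocalization.Away ε (C' ⧸ Ideal.span {1 - ε}) :=
    IsLocalization.away_of_isIdempotentElem hε Ideal.mk_ker Ideal.Quotient.mk_surjective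
  have : Algebra.Etale C' (C' ⧸ Ideal.span {1 - ε}) := Algebra.Etale.of_isLocalizationAway ε
  have : Algebra.Etale B' (C' ⧸ Ideal.span {1 - ε}) :=
    Algebra.Etale.comp B' C' (C' ⧸ Ideal.span {1 - ε})
  have : Module.Finite B' (C' ⧸ Ideal.span {1 - ε}) :=
    Module.Finite.of_surjective (Ideal.Quotient.mkₐ B' _).toLinearMap Ideal.Quotient.mk_surjective
  have hmk : Ideal.Quotient.mk (Ideal.span {1 - ε}) ε = 1 :=
    Ideal.Quotient.eq.mpr (Ideal.mem_span_singleton'.mpr ⟨-1, by ring⟩)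
  have hone := rankAtStalk_eq_one (R := B') (E := C' ⧸ Ideal.span {1 - ε}) (Ω := Ω)
    ⟨Ideal.Quotient.liftₐ _ Φ' fun y hy => by
      obtain ⟨z, rfl⟩ := Ideal.mem_span_singleton'.mp hy
      simp [hΦ]⟩
    (fun u u' => by
      have he : ∀ u : C' ⧸ Ideal.span {1 - ε} →ₐ[B'] Ω, u.comp (Ideal.Quotient.mkₐ B' _) ε = 1 :=
        fun u => (congrArg u hmk).trans (map_one u)
      have hvv := huniq _ _ (he u) (he u')
      refine AlgHom.ext fun y => ?_
      obtain ⟨y, rfl⟩ := Ideal.Quotient.mk_surjective y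
      exact congr($hvv y))
  obtain ⟨h, hh, hsec⟩ := exists_shrink hinj _ hone
  refine ⟨h, fun h0 => hh h0, fun S _ _ hu => ?_⟩
  obtain ⟨τ⟩ := hsec S hu
  exact ⟨τ.comp (Ideal.Quotient.mkₐ B' _)⟩

section Idempotent

variable {A A₁ A' : Type u} {C₀ : Type u} [CommRing A] [CommRing A₁] [CommRing A'] [CommRing C₀]
  [Algebra A A₁] [Algebra A C₀] [Algebra A₁ A'] {q₁ : Ideal (A₁ ⊗[A] C₀)} [q₁.IsPrime]
  {P : Ideal A'} [P.IsPrime] {e : A' ⊗[A₁] (A₁ ⊗[A] C₀)} {P' : Ideal (A' ⊗[A₁] (A₁ ⊗[A] C₀))}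

/-- Points at which `e` does not vanish are determined by their restriction to `A'`. -/
theorem eq_of_idempotent {Ω : Type u} [Field Ω]
    (hP'q : P'.comap Algebra.TensorProduct.includeRight.toRingHom = q₁)
    (huniq : ∀ P'' : Ideal (A' ⊗[A₁] (A₁ ⊗[A] C₀)), P''.IsPrime → P''.LiesOver P → e ∉ P'' → P'' = P')
    (hrad : ∀ χ χ' : A₁ ⊗[A] C₀ →+* Ω, RingHom.ker χ = q₁ → RingHom.ker χ' = RingHom.ker χ →
      (∀ a, χ (a ⊗ₜ 1) = χ' (a ⊗ₜ 1)) → χ = χ')
    {ρ : A' →+* Ω} (hρ : RingHom.ker ρ = P) (χ χ' : A' ⊗[A₁] (A₁ ⊗[A] C₀) →+* Ω)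
    (hχ : χ e ≠ 0) (hχ' : χ' e ≠ 0) (h : ∀ a, χ (a ⊗ₜ 1) = ρ a) (h' : ∀ a, χ' (a ⊗ₜ 1) = ρ a) :
    χ = χ' := by
  have key : ∀ ξ : A' ⊗[A₁] (A₁ ⊗[A] C₀) →+* Ω, ξ e ≠ 0 → (∀ a, ξ (a ⊗ₜ 1) = ρ a) →
      RingHom.ker (ξ.comp Algebra.TensorProduct.includeRight.toRingHom) = q₁ := fun ξ he ha => by
    rw [← hP'q, ← RingHom.comap_ker]
    congr 1
    refine huniq _ (RingHom.ker_isPrime _) ⟨?_⟩ he
    conv_lhs => rw [← hρ]
    ext a
    show ρ a = 0 ↔ ξ (a ⊗ₜ 1) = 0
    rw [ha]
  have hinc : χ.comp Algebra.TensorProduct.includeRight.toRingHom =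
      χ'.comp Algebra.TensorProduct.includeRight.toRingHom := by
    refine hrad _ _ (key χ hχ h) ((key χ' hχ' h').trans (key χ hχ h).symm) fun a => ?_
    show χ (1 ⊗ₜ (a ⊗ₜ 1)) = χ' (1 ⊗ₜ (a ⊗ₜ 1))
    have h1 : (1 : A') ⊗ₜ[A₁] (a ⊗ₜ[A] (1 : C₀)) = algebraMap A₁ A' a ⊗ₜ 1 := by
      rw [Algebra.algebraMap_eq_smul_one, TensorProduct.smul_tmul]
      congr 1
      rw [Algebra.TensorProduct.one_def, TensorProduct.smul_tmul', smul_eq_mul, mul_one]
    rw [h1, h, h']
  refine RingHom.ext fun w => ?_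
  induction w with
  | zero => simp
  | add a b ha hb => simp only [map_add, ha, hb]
  | tmul a y =>
    rw [← mul_one a, ← one_mul y, ← Algebra.TensorProduct.tmul_mul_tmul, map_mul, map_mul, h, h']
    exact congrArg (ρ a * ·) congr($hinc y)

/-- There is a geometric point at which `e` is one. -/
theorem exists_idem_point {Ω : Type u} [Field Ω] [P'.IsPrime] [P'.LiesOver P] (p₁ : Ideal A₁) [p₁.IsPrime]
    [P.LiesOver p₁]
    (hbij : Function.Bijective (Ideal.ResidueField.mapₐ p₁ P (Algebra.ofId _ _) (P.over_def p₁)))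
    (he : IsIdempotentElem e) (heP' : e ∉ P')
    (hP'q : P'.comap Algebra.TensorProduct.includeRight.toRingHom = q₁)
    (ω : A₁ ⊗[A] C₀ →+* Ω) (hω : RingHom.ker ω = q₁)
    (hω₁ : RingHom.ker (ω.comp Algebra.TensorProduct.includeLeftRingHom) = p₁) :
    ∃ ρ : A' →+* Ω, RingHom.ker ρ = P ∧ (∀ a, ρ (algebraMap A₁ A' a) = ω (a ⊗ₜ 1)) ∧
      ∀ χ : A' ⊗[A₁] (A₁ ⊗[A] C₀) →+* Ω,
        (∀ a, χ (a ⊗ₜ 1) = ρ a) → (∀ y, χ (1 ⊗ₜ y) = ω y) → χ e = 1 := by
  let l₁ : p₁.ResidueField →+* Ω := Ideal.ResidueField.lift p₁ _ hω₁.ge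
    fun y hy => isUnit_iff_ne_zero.mpr fun h0 => hy (hω₁.le h0)
  let κiso := RingEquiv.ofBijective _ hbij
  let ρ : A' →+* Ω := (l₁.comp κiso.symm.toRingHom).comp (algebraMap A' P.ResidueField)
  have hρP : RingHom.ker ρ = P := by
    rw [RingHom.ker_comp_of_injective _ (l₁.comp κiso.symm.toRingHom).injective,
      Ideal.ker_algebraMap_residueField]
  refine ⟨ρ, hρP, fun a => ?_, fun χ hl hr => ?_⟩
  · show l₁ (κiso.symm (algebraMap A' P.ResidueField (algebraMap A₁ A' a))) = _
    rw [show algebraMap A' P.ResidueField (algebraMap A₁ A' a) =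
      κiso (algebraMap A₁ p₁.ResidueField a) from by
        simp [κiso]
        exact (IsScalarTower.algebraMap_apply A₁ A' P.ResidueField a).symm,
      RingEquiv.symm_apply_apply]
    exact Ideal.ResidueField.lift_algebraMap _ _ _ _ a
  · have : (RingHom.ker χ).IsPrime := RingHom.ker_isPrime _
    have : (RingHom.ker χ).LiesOver P := ⟨by
      conv_lhs => rw [← hρP]
      ext a
      show ρ a = 0 ↔ χ (a ⊗ₜ 1) = 0
      rw [hl]⟩
    have hK : RingHom.ker χ = P' := by
      refine Ideal.eq_of_comap_eq_comap_of_bijective_residueFieldMap hbij _ _ ?_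
      rw [hP'q, ← hω]
      ext y
      show χ (1 ⊗ₜ y) = 0 ↔ ω y = 0
      rw [hr]
    exact (IsIdempotentElem.iff_eq_zero_or_one.mp (he.map χ)).resolve_left fun h => heP' (hK ▸ h)

end Idempotent

variable {B C : Type u} [CommRing B] [Algebra A B] [Algebra.IsIntegral A B] [CommRing C]
  [Algebra B C] [Algebra.Etale B C] [Module.Finite B C]

/-- A finite type model of an étale algebra over an integral extension. -/
theorem exists_model [Algebra A C] [IsScalarTower A B C] :
    ∃ (C₀ : Type u) (_ : CommRing C₀) (_ : Algebra A C₀) (_ : Algebra.FiniteType A C₀)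
      (_ : Algebra.QuasiFinite A C₀) (ι : C₀ →ₐ[A] C),
      ∀ {R : Type u} [CommRing R] (u u' : C →+* R),
        u.comp (algebraMap B C) = u'.comp (algebraMap B C) →
        u.comp ι.toRingHom = u'.comp ι.toRingHom → u = u' := by
  obtain ⟨B₀, C₀, _, _, hB₀, hC₀, ⟨e₀⟩⟩ := Algebra.Etale.exists_subalgebra_fg A B C
  let _ : Algebra A C₀ := ((algebraMap B₀ C₀).comp (algebraMap A B₀)).toAlgebra
  have : IsScalarTower A B₀ C₀ := .of_algebraMap_eq fun _ => rfl
  have : Algebra.FiniteType A B₀ := (Subalgebra.fg_iff_finiteType B₀).mp hB₀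
  have : Algebra.IsIntegral A B₀ := ⟨fun y => (isIntegral_algHom_iff B₀.val Subtype.val_injective).mp
    (Algebra.IsIntegral.isIntegral (y : B))⟩
  have : Module.Finite A B₀ := Algebra.IsIntegral.finite
  have : Algebra.FiniteType A C₀ := Algebra.FiniteType.trans ‹Algebra.FiniteType A B₀› inferInstance
  have : Algebra.QuasiFinite A C₀ := Algebra.QuasiFinite.trans A B₀ C₀
  refine ⟨C₀, inferInstance, inferInstance, inferInstance, inferInstance,
    ((e₀.symm.toAlgHom.restrictScalars B₀).comp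
      Algebra.TensorProduct.includeRight).restrictScalars A, fun {R} _ u u' h1 h2 => ?_⟩
  have h3 : u.comp e₀.symm.toRingHom = u'.comp e₀.symm.toRingHom := by
    refine RingHom.ext fun w => ?_
    induction w with
    | zero => simp
    | add a b ha hb => simp only [map_add, ha, hb]
    | tmul b y =>
      rw [← mul_one b, ← one_mul y, ← Algebra.TensorProduct.tmul_mul_tmul, map_mul, map_mul]
      have hb : e₀.symm (b ⊗ₜ[B₀] (1 : C₀)) = algebraMap B C b := e₀.symm.commutes b
      refine congr_arg₂ (· * ·) ?_ ?_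
      · simpa [hb] using congr($h1 b)
      · exact congr($h2 y)
  refine RingHom.ext fun y => ?_
  simpa using congr($h3 (e₀ y))

set_option maxHeartbeats 800000 in
/-- Along a universal homeomorphism `A → B`, a finite étale `B`-algebra acquires a section
étale locally on `A` at each point of its image. -/
theorem exists_etale_section
    (hinj : ∀ (A' : Type u) [CommRing A'] [Algebra A A'],
      Function.Injective (PrimeSpectrum.comap
        (Algebra.TensorProduct.includeRight : A' →ₐ[A] B ⊗[A] A').toRingHom))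
    (p : Ideal A) [p.IsPrime] (q : Ideal C) [q.IsPrime]
    (hqp : q.comap ((algebraMap B C).comp (algebraMap A B)) = p) :
    ∃ (A'' : Type u) (_ : CommRing A'') (_ : Algebra A A'') (_ : Algebra.Etale A A'')
      (p'' : Ideal A'') (_ : p''.IsPrime) (_ : p''.LiesOver p),
      Nonempty (C →ₐ[B] B ⊗[A] A'') := by
  let _ : Algebra A C := ((algebraMap B C).comp (algebraMap A B)).toAlgebra
  have : IsScalarTower A B C := .of_algebraMap_eq fun _ => rfl
  have hq : q.LiesOver p := ⟨hqp.symm⟩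
  obtain ⟨C₀, _, _, _, _, ι, hgen⟩ := exists_model (A := A) (B := B) (C := C)
  let q₀ : Ideal C₀ := q.comap ι.toRingHom
  have : q₀.LiesOver p := ⟨by
    rw [Ideal.under_def, Ideal.comap_comap, AlgHom.toRingHom_eq_coe, AlgHom.comp_algebraMap,
      ← Ideal.under_def, ← Ideal.over_def q p]⟩
  obtain ⟨A₁, _, _, _, p₁, _, _, φ₁, hφ₁, hrad⟩ := exists_radicial_nhd p q₀
  set Φ := Algebra.TensorProduct.lift φ₁ (IsScalarTower.toAlgHom A C₀ q₀.ResidueField)
    fun _ _ => .all _ _ with hΦ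
  have hΦl : ∀ a, Φ (a ⊗ₜ 1) = φ₁ a := fun a => by rw [hΦ]; simp
  have hΦr : ∀ y, Φ (1 ⊗ₜ y) = algebraMap C₀ q₀.ResidueField y := fun y => by rw [hΦ]; simp
  have hq₁ : (RingHom.ker Φ).IsPrime := RingHom.ker_isPrime _
  have : (RingHom.ker Φ).LiesOver p₁ := ⟨by
    rw [Ideal.under_def, ← hφ₁]
    ext a
    show φ₁ a = 0 ↔ Φ (a ⊗ₜ[A] (1 : C₀)) = 0
    rw [hΦl]⟩
  obtain ⟨A', _, _, _, P, _, _, e, he, P', _, _, hP'q, heP', hPbij, -, huniq⟩ :=
    Algebra.exists_etale_isIdempotentElem_forall_liesOver_eq p₁ (RingHom.ker Φ)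
  let _ : Algebra A A' := ((algebraMap A₁ A').comp (algebraMap A A₁)).toAlgebra
  have : IsScalarTower A A₁ A' := .of_algebraMap_eq fun _ => rfl
  have : Algebra.Etale A A' := Algebra.Etale.comp A A₁ A'
  have : P.LiesOver p := Ideal.LiesOver.trans P p₁ p
  -- the geometric point
  let Ω := AlgebraicClosure q.ResidueField
  obtain ⟨ψ, hψ, hψA⟩ : ∃ ψ : C →ₐ[B] Ω, RingHom.ker ψ = q ∧
      ∀ r : A, algebraMap A Ω r = ψ (algebraMap A C r) := by
    refine ⟨IsScalarTower.toAlgHom B C Ω, ?_, fun r => IsScalarTower.algebraMap_apply A C Ω r⟩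
    show RingHom.ker (algebraMap C Ω) = q
    rw [IsScalarTower.algebraMap_eq C q.ResidueField Ω,
      RingHom.ker_comp_of_injective _ (algebraMap q.ResidueField Ω).injective,
      Ideal.ker_algebraMap_residueField]
  let lq : q₀.ResidueField →+* Ω := Ideal.ResidueField.lift q₀ (ψ.toRingHom.comp ι.toRingHom)
    (fun y hy => hψ.ge hy) (fun y hy => isUnit_iff_ne_zero.mpr fun h0 => hy (hψ.le h0))
  have hlq : ∀ y, lq (algebraMap C₀ q₀.ResidueField y) = ψ (ι y) := fun y =>
    Ideal.ResidueField.lift_algebraMap _ _ _ _ y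
  obtain ⟨ρ, hρP, hρ₁, hρe⟩ := exists_idem_point (Ω := Ω) p₁ hPbij he heP' hP'q (lq.comp Φ.toRingHom)
    (RingHom.ker_comp_of_injective _ lq.injective) (by
      rw [← hφ₁]
      ext a
      show lq (Φ (a ⊗ₜ[A] (1 : C₀))) = 0 ↔ φ₁ a = 0
      rw [map_eq_zero, hΦl])
  have hρA : ∀ r : A, ρ (algebraMap A A' r) = algebraMap A Ω r := fun r => by
    rw [IsScalarTower.algebraMap_apply A A₁ A', hρ₁]
    show lq (Φ (algebraMap A A₁ r ⊗ₜ 1)) = _
    rw [hΦl, φ₁.commutes, IsScalarTower.algebraMap_apply A C₀ q₀.ResidueField, hlq, ι.commutes,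
      hψA]
  -- the base change
  let B' := B ⊗[A] A'
  let C' := B' ⊗[B] C
  let a' : A' →+* C' :=
    (algebraMap B' C').comp (Algebra.TensorProduct.includeRight : A' →ₐ[A] B').toRingHom
  let incC : C →+* C' := (Algebra.TensorProduct.includeRight : C →ₐ[B] C').toRingHom
  have hbase : ∀ r : A, a' (algebraMap A A' r) = algebraMap A C' r := fun r =>
    (congrArg (algebraMap B' C') (AlgHom.commutes _ r)).trans
      (IsScalarTower.algebraMap_apply A B' C' r).symm
  obtain ⟨κ, hκl, hκr⟩ : ∃ κ : A₁ ⊗[A] C₀ →ₐ[A] C',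
      (∀ a, κ (a ⊗ₜ 1) = a' (algebraMap A₁ A' a)) ∧ ∀ y, κ (1 ⊗ₜ y) = incC (ι y) := by
    refine ⟨Algebra.TensorProduct.lift
      { toRingHom := a'.comp (algebraMap A₁ A'), commutes' := fun r => ?_ }
      { toRingHom := incC.comp ι.toRingHom, commutes' := fun r => ?_ }
      fun _ _ => .all _ _, fun a => ?_, fun y => ?_⟩
    · show a' (algebraMap A₁ A' (algebraMap A A₁ r)) = _
      rw [← IsScalarTower.algebraMap_apply]
      exact hbase r
    · refine (congrArg incC (ι.commutes r)).trans ?_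
      rw [IsScalarTower.algebraMap_apply A B C]
      refine ((Algebra.TensorProduct.includeRight : C →ₐ[B] C').commutes _).trans ?_
      exact (IsScalarTower.algebraMap_apply A B C' r).symm
    · rw [Algebra.TensorProduct.lift_tmul, map_one, mul_one]; rfl
    · rw [Algebra.TensorProduct.lift_tmul, map_one, one_mul]; rfl
  obtain ⟨j, hjl, hjr⟩ : ∃ j : A' ⊗[A₁] (A₁ ⊗[A] C₀) →+* C',
      (∀ a, j (a ⊗ₜ 1) = a' a) ∧ ∀ y, j (1 ⊗ₜ y) = κ y := by
    let _ : Algebra A₁ C' := (a'.comp (algebraMap A₁ A')).toAlgebra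
    let l : A' →ₐ[A₁] C' := { toRingHom := a', commutes' := fun _ => rfl }
    let r : A₁ ⊗[A] C₀ →ₐ[A₁] C' := { toRingHom := κ.toRingHom, commutes' := fun r => hκl r }
    refine ⟨(Algebra.TensorProduct.lift l r fun _ _ => .all _ _).toRingHom, fun a => ?_, fun y => ?_⟩
    · exact (Algebra.TensorProduct.lift_tmul _ _ _ a _).trans (by rw [map_one, mul_one]; rfl)
    · exact (Algebra.TensorProduct.lift_tmul _ _ _ _ y).trans (by rw [map_one, one_mul]; rfl)
  obtain ⟨ρ', hρ'r, hρ'l⟩ : ∃ ρ' : B' →+* Ω,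
      (∀ a, ρ' (1 ⊗ₜ a) = ρ a) ∧ ∀ b, ρ' (b ⊗ₜ 1) = algebraMap B Ω b := by
    refine ⟨(Algebra.TensorProduct.lift (IsScalarTower.toAlgHom A B Ω)
      { toRingHom := ρ, commutes' := hρA } fun _ _ => .all _ _).toRingHom, fun a => ?_, fun b => ?_⟩
    · exact (Algebra.TensorProduct.lift_tmul _ _ _ _ a).trans (by rw [map_one, one_mul]; rfl)
    · exact (Algebra.TensorProduct.lift_tmul _ _ _ b _).trans (by rw [map_one, mul_one]; rfl)
  let _ : Algebra B' Ω := ρ'.toAlgebra
  have : IsScalarTower B B' Ω := .of_algebraMap_eq fun b => (hρ'l b).symm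
  obtain ⟨Φ', hΦ'⟩ : ∃ Φ' : C' →ₐ[B'] Ω, ∀ c, Φ' (incC c) = ψ c := by
    refine ⟨Algebra.TensorProduct.lift (Algebra.ofId B' Ω) ψ fun _ _ => .all _ _, fun c => ?_⟩
    exact (Algebra.TensorProduct.lift_tmul _ _ _ _ c).trans (by rw [map_one, one_mul])
  have hv : ∀ (v : C' →ₐ[B'] Ω) a, v (a' a) = ρ a := fun v a =>
    (v.commutes _).trans (hρ'r a)
  have he' : IsIdempotentElem (j e) := he.map j
  have h1 : ∀ a, Φ'.toRingHom.comp j (a ⊗ₜ 1) = ρ a := fun a => (congrArg Φ' (hjl a)).trans (hv Φ' a)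
  have h2 : ∀ y, (Φ'.toRingHom.comp j) (1 ⊗ₜ y) = (lq.comp Φ.toRingHom) y := fun y => by
    refine (congrArg Φ' (hjr y)).trans ?_
    show Φ' (κ y) = lq (Φ y)
    induction y with
    | zero => simp only [map_zero]
    | add y z hy hz => simp only [map_add, hy, hz]
    | tmul a y =>
      rw [← mul_one a, ← one_mul y, ← Algebra.TensorProduct.tmul_mul_tmul, map_mul κ, map_mul Φ',
        map_mul Φ, map_mul lq, hκl, hκr, hv, hρ₁, hΦ', hΦr, hlq]
      rfl
  have hΦe : Φ' (j e) = 1 := hρe (Φ'.toRingHom.comp j) h1 h2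
  have huv : ∀ v v' : C' →ₐ[B'] Ω, v (j e) = 1 → v' (j e) = 1 → v = v' := fun v v' hve hve' => by
    have hj := eq_of_idempotent (Ω := Ω) hP'q huniq (fun χ χ' h1 h2 h3 => hrad Ω χ χ' h1 h2 h3)
      hρP (v.toRingHom.comp j) (v'.toRingHom.comp j)
      (fun h => one_ne_zero (hve.symm.trans h)) (fun h => one_ne_zero (hve'.symm.trans h))
      (fun a => (congrArg v (hjl a)).trans (hv v a))
      (fun a => (congrArg v' (hjl a)).trans (hv v' a))
    have hC : v.toRingHom.comp incC = v'.toRingHom.comp incC := by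
      refine hgen _ _ (RingHom.ext fun b => ?_) (RingHom.ext fun y => ?_)
      · have hb : incC (algebraMap B C b) = algebraMap B' C' (algebraMap B B' b) :=
          ((Algebra.TensorProduct.includeRight : C →ₐ[B] C').commutes b).trans
            (IsScalarTower.algebraMap_apply B B' C' b)
        show v (incC (algebraMap B C b)) = v' (incC (algebraMap B C b))
        rw [hb, AlgHom.commutes, AlgHom.commutes]
      · show v (incC (ι y)) = v' (incC (ι y))
        rw [← hκr, ← hjr]
        exact congr($hj (1 ⊗ₜ (1 ⊗ₜ y)))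
    exact Algebra.TensorProduct.ext (Subsingleton.elim _ _) (AlgHom.ext fun c => congr($hC c))
  let _ : Algebra A' B' := (Algebra.TensorProduct.includeRight : A' →ₐ[A] B').toRingHom.toAlgebra
  have : Algebra.IsIntegral A' B' := by
    refine ⟨fun (b : B ⊗[A] A') => ?_⟩
    induction b using TensorProduct.induction_on with
    | zero => exact isIntegral_zero
    | add a b ha hb => exact ha.add hb
    | tmul b a =>
      rw [← mul_one b, ← one_mul a, ← Algebra.TensorProduct.tmul_mul_tmul]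
      refine IsIntegral.mul ?_ isIntegral_algebraMap
      obtain ⟨f, hfm, hf⟩ := Algebra.IsIntegral.isIntegral (R := A) b
      refine ⟨f.map (algebraMap A A'), hfm.map _, ?_⟩
      have h0 := congrArg (Algebra.TensorProduct.includeLeft : B →ₐ[A] B') hf
      rw [map_zero] at h0
      rw [Polynomial.eval₂_map, ← h0]
      refine ((congrArg (fun φ => Polynomial.eval₂ φ (b ⊗ₜ[A] (1 : A')) f) ?_).trans
        (Polynomial.hom_eval₂ f (algebraMap A B)
          (Algebra.TensorProduct.includeLeft : B →ₐ[A] B').toRingHom b).symm)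
      exact (AlgHom.comp_algebraMap (Algebra.TensorProduct.includeRight : A' →ₐ[A] B')).trans
        (AlgHom.comp_algebraMap (Algebra.TensorProduct.includeLeft : B →ₐ[A] B')).symm
  obtain ⟨h, hPh, hsec⟩ := exists_factor_section (A' := A') (hinj A') he' Φ' hΦe huv
  have hPh' : h ∉ P := fun hh => hPh (by
    show ρ' (1 ⊗ₜ[A] h) = 0
    rw [hρ'r, ← RingHom.mem_ker, hρP]
    exact hh)
  let A'' := Localization.Away h
  have : Algebra.Etale A' A'' := Algebra.Etale.of_isLocalizationAway h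
  have : Algebra.Etale A A'' := Algebra.Etale.comp A A' A''
  have : (P.map (algebraMap A' A'')).IsPrime :=
    IsLocalization.isPrime_of_isPrime_disjoint (.powers h) _ _ ‹_›
      ((Ideal.disjoint_powers_iff_notMem_of_isPrime _).mpr hPh')
  have : (P.map (algebraMap A' A'')).LiesOver P :=
    ⟨(IsLocalization.under_map_of_isPrime_disjoint (.powers h) _ ‹_›
      ((Ideal.disjoint_powers_iff_notMem_of_isPrime _).mpr hPh')).symm⟩
  let β : B' →ₐ[B] B ⊗[A] A'' :=
    Algebra.TensorProduct.map (AlgHom.id B B) (IsScalarTower.toAlgHom A A' A'')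
  let _ : Algebra B' (B ⊗[A] A'') := β.toRingHom.toAlgebra
  have : IsScalarTower B B' (B ⊗[A] A'') := .of_algebraMap_eq fun b => (β.commutes b).symm
  obtain ⟨τ⟩ := hsec (B ⊗[A] A'') (by
    show IsUnit (β ((1 : B) ⊗ₜ[A] h))
    rw [Algebra.TensorProduct.map_tmul, map_one]
    exact (IsLocalization.Away.algebraMap_isUnit (S := A'') h).map
      (Algebra.TensorProduct.includeRight : A'' →ₐ[A] B ⊗[A] A''))
  exact ⟨A'', inferInstance, inferInstance, inferInstance, P.map (algebraMap A' A''), inferInstance,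
    Ideal.LiesOver.trans _ P p,
    ⟨(τ.restrictScalars B).comp (Algebra.TensorProduct.includeRight : C →ₐ[B] C')⟩⟩

end Groth.Agent.FEt83
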