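import Mathlib.CategoryTheory.Limits.FintypeCat
import Mathlib.CategoryTheory.Limits.Types.Coproducts
import Mathlib.AlgebraicGeometry.AlgClosed.Basic
import Groth.Agent.FEt83.UHDescent
import Groth.Agent.FEt83.UHSection
import Groth.Agent.FEt83.Galois

/-!
# Finite étale covers lift étale locally along a universal homeomorphism
-/

universe u

open CategoryTheory Limits AlgebraicGeometry Opposite TensorProduct

namespace Groth.Agent.FEt83

theorem exists_preimage_of_isPullback {P A B C : Scheme.{u}} {fst : P ⟶ A} {snd : P ⟶ B}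
    {a : A ⟶ C} {b : B ⟶ C} (H : IsPullback fst snd a b) (x : A) (y : B) (h : a x = b y) :
    ∃ z : P, fst z = x ∧ snd z = y := by
  obtain ⟨z, hz₁, hz₂⟩ := Scheme.Pullback.exists_preimage_pullback x y h
  exact ⟨H.isoPullback.inv z, by rw [← Scheme.Hom.comp_apply, H.isoPullback_inv_fst]; exact hz₁,
    by rw [← Scheme.Hom.comp_apply, H.isoPullback_inv_snd]; exact hz₂⟩

variable {X Y : Scheme.{u}}

set_option backward.isDefEq.respectTransparency.types false in
/-- A cover of `X` acquires a section étale locally on `Y` at the image of each of its points. -/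
theorem exists_section_square (f : X ⟶ Y) [IsIntegralHom f] [UniversallyInjective f]
    (Z : FEt.Cat X) (z : Z.left) :
    ∃ (U : Scheme.{u}) (g : U ⟶ Y) (_ : Etale g) (X' : Scheme.{u}) (f' : X' ⟶ U) (g' : X' ⟶ X)
      (_ : IsPullback f' g' g f) (s : X' ⟶ Z.left),
      s ≫ Z.hom = g' ∧ f (Z.hom z) ∈ Set.range g := by
  obtain ⟨_, ⟨V, hV, rfl⟩, hzV, -⟩ :=
    Y.isBasis_affineOpens.exists_subset_of_mem_open (Set.mem_univ (f (Z.hom z))) isOpen_univ
  replace hV : IsAffineOpen V := hV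
  have hV' : IsAffineOpen (f ⁻¹ᵁ V) := hV.preimage f
  have hW : IsAffineOpen (Z.hom ⁻¹ᵁ f ⁻¹ᵁ V) := hV'.preimage Z.hom
  let _ : Algebra Γ(Y, V) Γ(X, f ⁻¹ᵁ V) := (f.app V).hom.toAlgebra
  let _ : Algebra Γ(X, f ⁻¹ᵁ V) Γ(Z.left, Z.hom ⁻¹ᵁ f ⁻¹ᵁ V) := (Z.hom.app (f ⁻¹ᵁ V)).hom.toAlgebra
  have : Algebra.IsIntegral Γ(Y, V) Γ(X, f ⁻¹ᵁ V) :=
    algebraMap_isIntegral_iff.mp (IsIntegralHom.isIntegral_app f V hV)
  obtain ⟨hfin, het⟩ := finite_etale_app Z.prop hV'
  have : Module.Finite Γ(X, f ⁻¹ᵁ V) Γ(Z.left, Z.hom ⁻¹ᵁ f ⁻¹ᵁ V) :=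
    RingHom.finite_algebraMap.mp hfin
  have : Algebra.Etale Γ(X, f ⁻¹ᵁ V) Γ(Z.left, Z.hom ⁻¹ᵁ f ⁻¹ᵁ V) :=
    RingHom.etale_algebraMap.mp het
  have hA : IsPullback (Spec.map (f.app V)) hV'.fromSpec hV.fromSpec f := by
    refine IsOpenImmersion.isPullback _ _ _ _ ?_ ?_
    · rw [Scheme.Hom.app_eq_appLE]
      exact (IsAffineOpen.SpecMap_appLE_fromSpec f hV hV' le_rfl).symm
    · rw [hV.opensRange_fromSpec, hV'.opensRange_fromSpec]
  have hC : Spec.map (Z.hom.app (f ⁻¹ᵁ V)) ≫ hV'.fromSpec = hW.fromSpec ≫ Z.hom := by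
    rw [Scheme.Hom.app_eq_appLE]
    exact IsAffineOpen.SpecMap_appLE_fromSpec Z.hom hV' hW le_rfl
  have sq : ∀ (A' : Type u) [CommRing A'] [Algebra Γ(Y, V) A'],
      IsPullback (Spec.map (CommRingCat.ofHom
          (Algebra.TensorProduct.includeRight :
            A' →ₐ[Γ(Y, V)] Γ(X, f ⁻¹ᵁ V) ⊗[Γ(Y, V)] A').toRingHom))
        (Spec.map (CommRingCat.ofHom (Algebra.TensorProduct.includeLeftRingHom :
          Γ(X, f ⁻¹ᵁ V) →+* Γ(X, f ⁻¹ᵁ V) ⊗[Γ(Y, V)] A')) ≫ hV'.fromSpec)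
        (Spec.map (CommRingCat.ofHom (algebraMap Γ(Y, V) A')) ≫ hV.fromSpec) f := fun A' _ _ =>
    ((isPullback_SpecMap_of_isPushout _ _ _ _
      (CommRingCat.isPushout_tensorProduct Γ(Y, V) Γ(X, f ⁻¹ᵁ V) A')).paste_horiz hA.flip).flip
  have hinj : ∀ (A' : Type u) [CommRing A'] [Algebra Γ(Y, V) A'],
      Function.Injective (PrimeSpectrum.comap
        (Algebra.TensorProduct.includeRight :
          A' →ₐ[Γ(Y, V)] Γ(X, f ⁻¹ᵁ V) ⊗[Γ(Y, V)] A').toRingHom) := fun A' _ _ => by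
    have : UniversallyInjective (Spec.map (CommRingCat.ofHom
        (Algebra.TensorProduct.includeRight :
          A' →ₐ[Γ(Y, V)] Γ(X, f ⁻¹ᵁ V) ⊗[Γ(Y, V)] A').toRingHom)) :=
      MorphismProperty.of_isPullback (sq A').flip inferInstance
    exact Scheme.Hom.injective (Spec.map (CommRingCat.ofHom
      (Algebra.TensorProduct.includeRight :
        A' →ₐ[Γ(Y, V)] Γ(X, f ⁻¹ᵁ V) ⊗[Γ(Y, V)] A').toRingHom))
  obtain ⟨w, rfl⟩ : z ∈ Set.range hW.fromSpec := by
    rw [IsAffineOpen.range_fromSpec]; exact hzV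
  let q : PrimeSpectrum Γ(Z.left, Z.hom ⁻¹ᵁ f ⁻¹ᵁ V) := w
  let p : PrimeSpectrum Γ(Y, V) := Spec.map (f.app V) (Spec.map (Z.hom.app (f ⁻¹ᵁ V)) w)
  obtain ⟨A'', _, _, _, p'', _, _, ⟨τ⟩⟩ :=
    exists_etale_section (A := Γ(Y, V)) (B := Γ(X, f ⁻¹ᵁ V))
      (C := Γ(Z.left, Z.hom ⁻¹ᵁ f ⁻¹ᵁ V)) hinj p.asIdeal q.asIdeal rfl
  let g := Spec.map (CommRingCat.ofHom (algebraMap Γ(Y, V) A'')) ≫ hV.fromSpec
  have : Etale (Spec.map (CommRingCat.ofHom (algebraMap Γ(Y, V) A''))) :=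
    (HasRingHomProperty.Spec_iff (P := @Etale)).mpr (RingHom.etale_algebraMap.mpr inferInstance)
  refine ⟨_, g, inferInstance, _, _, _, sq A'',
    Spec.map (CommRingCat.ofHom τ.toRingHom) ≫ hW.fromSpec, ?_, ?_⟩
  · rw [Category.assoc, ← hC, ← Category.assoc, ← Spec.map_comp]
    congr 2
    ext b
    exact τ.commutes b
  · refine ⟨(⟨p'', inferInstance⟩ : PrimeSpectrum A''), ?_⟩
    have hp : Spec.map (CommRingCat.ofHom (algebraMap Γ(Y, V) A''))
        (⟨p'', inferInstance⟩ : PrimeSpectrum A'') = p :=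
      PrimeSpectrum.ext (Ideal.over_def p'' p.asIdeal).symm
    show hV.fromSpec _ = _
    rw [← Scheme.Hom.comp_apply _ Z.hom, ← hC, Scheme.Hom.comp_apply, ← Scheme.Hom.comp_apply _ f,
      ← hA.w, Scheme.Hom.comp_apply]
    exact congrArg hV.fromSpec hp

set_option backward.isDefEq.respectTransparency.types false in
/-- An étale morphism has geometric points over every geometric point of its image. -/
theorem exists_lift_point {U : Scheme.{u}} (g : U ⟶ Y) [LocallyOfFiniteType g] {Ω : Type u}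
    [Field Ω] [IsAlgClosed Ω] (η : Spec (CommRingCat.of Ω) ⟶ Y) (h : Set.range η ⊆ Set.range g) :
    ∃ ν : Spec (CommRingCat.of Ω) ⟶ U, ν ≫ g = η := by
  obtain ⟨t⟩ : Nonempty (Spec (CommRingCat.of Ω)) := inferInstance
  obtain ⟨u, hu⟩ := h ⟨t, rfl⟩
  obtain ⟨w, -, -⟩ := Scheme.Pullback.exists_preimage_pullback u t hu
  have : JacobsonSpace ↥(pullback g η) := LocallyOfFiniteType.jacobsonSpace (pullback.snd g η)
  obtain ⟨v, -, hv⟩ := nonempty_inter_closedPoints (Z := (Set.univ : Set ↥(pullback g η)))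
    ⟨w, trivial⟩ isClosed_univ.isLocallyClosed
  refine ⟨pointOfClosedPoint (pullback.snd g η) v hv ≫ pullback.fst g η, ?_⟩
  rw [Category.assoc, pullback.condition, pointOfClosedPoint_comp_assoc]

set_option backward.isDefEq.respectTransparency.types false in
theorem card_fiber_lt {X' : Scheme.{u}} {Ω : Type u} [Field Ω] [IsSepClosed Ω]
    (ξ : Spec (CommRingCat.of Ω) ⟶ X') {A B P : FEt.Cat X'} {i : A ⟶ P} {j : B ⟶ P}
    (hc : IsColimit (BinaryCofan.mk i j)) (s : FEt.fiberObj ξ A) :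
    Nat.card (FEt.fiberObj ξ B) < Nat.card (FEt.fiberObj ξ P) := by
  have : PreservesFiniteColimits (fiberF ξ ⋙ FintypeCat.incl) :=
    comp_preservesFiniteColimits (fiberF ξ) FintypeCat.incl
  have : PreservesColimit (pair A B) (FEt.fiber ξ) :=
    preservesColimit_of_natIso (pair A B) (fiberFIso ξ)
  obtain ⟨-, hinj, hcompl⟩ := (Types.binaryCofan_isColimit_iff _).mp
    ⟨mapIsColimitOfPreservesOfIsColimit (FEt.fiber ξ) i j hc⟩
  have := finite_fiberObj ξ P
  have : Finite ((FEt.fiber ξ).obj P) := ‹_›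
  refine (Nat.card_le_card_of_injective ((FEt.fiber ξ).map j) hinj).lt_of_ne fun he => ?_
  have : Finite ((FEt.fiber ξ).obj B) := finite_fiberObj ξ B
  obtain ⟨b, hb⟩ := ((Nat.bijective_iff_injective_and_card (f := (FEt.fiber ξ).map j)).mpr
    ⟨hinj, he⟩).2 ((FEt.fiber ξ).map i s)
  exact Set.disjoint_iff_forall_ne.mp hcompl.disjoint ⟨s, rfl⟩ ⟨b, rfl⟩ hb.symm

/-- Restriction along a composite. -/
noncomputable def restrictCompIso {X'' X' : Scheme.{u}} (h : X'' ⟶ X') (g : X' ⟶ X) :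
    FEt.restrict (h ≫ g) ≅ FEt.restrict g ⋙ FEt.restrict h :=
  MorphismProperty.Over.pullbackComp h g

/-- The trivial cover. -/
noncomputable abbrev trivialObj (X : Scheme.{u}) : FEt.Cat X :=
  MorphismProperty.Over.mk ⊤ (𝟙 X) (MorphismProperty.id_mem _ _)

/-- Base change preserves the trivial cover. -/
noncomputable def restrictTrivialIso (g : X ⟶ Y) :
    (FEt.restrict g).obj (trivialObj Y) ≅ trivialObj X :=
  have : PreservesFiniteLimits (FEt.restrict g) :=
    inferInstanceAs (PreservesFiniteLimits (MorphismProperty.Over.pullback FEt.prop ⊤ g))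
  (IsTerminal.isTerminalObj (FEt.restrict g) _
    (MorphismProperty.Over.mkIdTerminal FEt.prop Y)).uniqueUpToIso
    (MorphismProperty.Over.mkIdTerminal FEt.prop X)

set_option backward.isDefEq.respectTransparency.types false in
/-- Disjoint unions of lifts are lifts. -/
theorem nonempty_iso_of_cofan {U U₂ X₁ X₂ : Scheme.{u}} (g' : X₁ ⟶ X) (h : X₂ ⟶ X₁)
    (f₂ : X₂ ⟶ U₂) (Z : FEt.Cat X) {Z₂ : FEt.Cat X₁} {i : trivialObj X₁ ⟶ (FEt.restrict g').obj Z}
    {j : Z₂ ⟶ (FEt.restrict g').obj Z} (hc : IsColimit (BinaryCofan.mk i j)) (T₂ : FEt.Cat U₂)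
    (e : (FEt.restrict f₂).obj T₂ ≅ (FEt.restrict h).obj Z₂) :
    ∃ T : FEt.Cat U₂, Nonempty ((FEt.restrict f₂).obj T ≅ (FEt.restrict (h ≫ g')).obj Z) := by
  have := preservesFiniteColimits_restrict f₂
  have := preservesFiniteColimits_restrict h
  refine ⟨trivialObj U₂ ⨿ T₂, ⟨?_ ≪≫ ((restrictCompIso h g').app Z).symm⟩⟩
  exact IsColimit.coconePointsIsoOfNatIso
    (mapIsColimitOfPreservesOfIsColimit (FEt.restrict f₂) _ _ (coprodIsCoprod _ _))
    (mapIsColimitOfPreservesOfIsColimit (FEt.restrict h) _ _ hc)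
    (mapPairIso (restrictTrivialIso f₂ ≪≫ (restrictTrivialIso h).symm) e)

set_option backward.isDefEq.respectTransparency.types false in
/-- The induction on the number of geometric points of the fibre. -/
theorem exists_lift_square (n : ℕ) : ∀ {X Y : Scheme.{u}} (f : X ⟶ Y) [IsIntegralHom f]
    [UniversallyInjective f] [Surjective f] (Z : FEt.Cat X) {Ω : Type u} [Field Ω] [IsAlgClosed Ω]
    (ξ : Spec (CommRingCat.of Ω) ⟶ X), Nat.card (FEt.fiberObj ξ Z) ≤ n →
    ∃ (U : Scheme.{u}) (g : U ⟶ Y) (_ : Etale g) (X' : Scheme.{u}) (f' : X' ⟶ U) (g' : X' ⟶ X)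
      (_ : IsPullback f' g' g f) (T : FEt.Cat U),
      Set.range (ξ ≫ f) ⊆ Set.range g ∧
        Nonempty ((FEt.restrict f').obj T ≅ (FEt.restrict g').obj Z) := by
  induction n using Nat.strong_induction_on with
  | _ n ih =>
  intro X Y f _ _ _ Z Ω _ _ ξ hn
  obtain ⟨t⟩ : Nonempty (Spec (CommRingCat.of Ω)) := inferInstance
  by_cases hz : ∃ z : Z.left, Z.hom z = ξ t
  · obtain ⟨z, hz⟩ := hz
    obtain ⟨U, g, _, X₁, f₁, g₁, H, s, hs, hy⟩ := exists_section_square f Z z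
    have : IsIntegralHom f₁ := MorphismProperty.of_isPullback (P := @IsIntegralHom) H.flip inferInstance
    have : UniversallyInjective f₁ :=
      MorphismProperty.of_isPullback (P := @UniversallyInjective) H.flip inferInstance
    have : Surjective f₁ := MorphismProperty.of_isPullback (P := @Surjective) H.flip inferInstance
    have hξ : Set.range (ξ ≫ f) ⊆ Set.range g := by
      rintro _ ⟨t', rfl⟩
      rw [Subsingleton.elim (α := PrimeSpectrum Ω) t' t, Scheme.Hom.comp_apply, ← hz]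
      exact hy
    obtain ⟨ν, hν⟩ := exists_lift_point g (ξ ≫ f) hξ
    let ξ₁ := H.lift ν ξ hν
    have hξ₁ : ξ₁ ≫ g₁ = ξ := H.lift_snd _ _ _
    let σ : trivialObj X₁ ⟶ (FEt.restrict g₁).obj Z :=
      MorphismProperty.Over.homMk (pullback.lift s (𝟙 X₁) (hs.trans (Category.id_comp g₁).symm))
        (pullback.lift_snd _ _ _)
    have : Mono σ := IsTerminal.mono_from (MorphismProperty.Over.mkIdTerminal FEt.prop X₁) σ
    obtain ⟨Z₂, j, ⟨hc⟩⟩ := exists_complement σ
    have hlt : Nat.card (FEt.fiberObj ξ₁ Z₂) < n :=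
      ((card_fiber_lt ξ₁ hc ⟨ξ₁, Category.comp_id ξ₁⟩).trans_eq
        (Nat.card_congr ((restrictFiberIso g₁ ξ₁ ξ hξ₁).app Z).toEquiv)).trans_le hn
    obtain ⟨U₂, g₂, _, X₂, f₂, h, H₂, T₂, hT₂, ⟨e⟩⟩ := ih _ hlt f₁ Z₂ ξ₁ le_rfl
    obtain ⟨T, hT⟩ := nonempty_iso_of_cofan (U := U) g₁ h f₂ Z hc T₂ e
    refine ⟨U₂, g₂ ≫ g, inferInstance, X₂, f₂, h ≫ g₁, H₂.paste_vert H, T, ?_, hT⟩
    rintro _ ⟨t', rfl⟩
    obtain ⟨u₂, hu₂⟩ := hT₂ ⟨t', rfl⟩
    refine ⟨u₂, ?_⟩
    rw [Scheme.Hom.comp_apply, hu₂, ← Scheme.Hom.comp_apply, Category.assoc, H.w,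
      ← Category.assoc, hξ₁]
  · push_neg at hz
    have hcl : IsClosed (Set.range (Z.hom ≫ f)) := (Z.hom ≫ f).isClosedMap.isClosed_range
    let W : Y.Opens := ⟨(Set.range (Z.hom ≫ f))ᶜ, hcl.isOpen_compl⟩
    refine ⟨_, W.ι, inferInstance, _, pullback.fst W.ι f, pullback.snd W.ι f,
      IsPullback.of_hasPullback _ _, initialObj _, ?_, ?_⟩
    · rintro _ ⟨t', rfl⟩
      rw [Subsingleton.elim (α := PrimeSpectrum Ω) t' t, Scheme.Opens.range_ι]
      rintro ⟨z, e⟩
      exact hz z (f.injective (by simpa using e))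
    · have : IsEmpty ((FEt.restrict (pullback.snd W.ι f)).obj Z).left := ⟨fun w => by
        let v := pullback.fst W.ι f (pullback.snd Z.hom (pullback.snd W.ι f) w)
        apply v.2
        refine ⟨pullback.fst Z.hom (pullback.snd W.ι f) w, ?_⟩
        show _ = W.ι v
        rw [← Scheme.Hom.comp_apply, pullback.condition_assoc, ← pullback.condition (f := W.ι)]
        rfl⟩
      have : IsEmpty ((FEt.restrict (pullback.fst W.ι f)).obj (initialObj _)).left :=
        @Function.isEmpty _ _ (inferInstanceAs (IsEmpty (∅ : Scheme.{u})))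
          (pullback.fst (initialObj W.toScheme).hom (pullback.fst W.ι f)).base
      exact ⟨(isInitialOfEmpty _).uniqueUpToIso (isInitialOfEmpty _)⟩

set_option backward.isDefEq.respectTransparency.types false in
theorem isPullback_bmap' (f : X ⟶ Y) {R S V W : Scheme.{u}} {gR : R ⟶ Y} {gS : S ⟶ Y} {gV : V ⟶ Y}
    {gW : W ⟶ Y} {π : R ⟶ S} {s : R ⟶ V} {t : S ⟶ W} {q : V ⟶ W} (hπ : π ≫ gS = gR)
    (hs : s ≫ gV = gR) (ht : t ≫ gW = gS) (hq : q ≫ gW = gV) (H : IsPullback π s t q) :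
    IsPullback (bmap f π hπ) (bmap f s hs) (bmap f t ht) (bmap f q hq) := by
  have h {A B : Scheme.{u}} {gA : A ⟶ Y} {gB : B ⟶ Y} (a : A ⟶ B) (ha : a ≫ gB = gA) :
      IsPullback (pullback.fst gA f) (bmap f a ha) a (pullback.fst gB f) := by
    refine IsPullback.of_bot ?_ (bmap_fst f a ha).symm (IsPullback.of_hasPullback gB f)
    rw [bmap_snd, ha]
    exact IsPullback.of_hasPullback gA f
  have h2 := (h s hs).paste_horiz H
  rw [← bmap_fst f π hπ, ← bmap_fst f q hq] at h2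
  refine IsPullback.of_right h2 ?_ (h t ht)
  apply pullback.hom_ext <;>
    simp only [Category.assoc, bmap_fst, bmap_snd, bmap_fst_assoc, H.w]

/-- A lift of `Z` over an étale `Y`-scheme, in the form used for gluing. -/
theorem exists_lift_of_point (f : X ⟶ Y) [IsIntegralHom f] [UniversallyInjective f] [Surjective f]
    (Z : FEt.Cat X) (y : Y) :
    ∃ (U : Scheme.{u}) (g : U ⟶ Y) (_ : Etale g) (T : FEt.Cat U)
      (ε : pullback (T.hom ≫ g) f ⟶ Z.left),
      y ∈ Set.range g ∧ IsPullback ε (bmap f T.hom rfl) Z.hom (pullback.snd g f) := by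
  obtain ⟨x, rfl⟩ := f.surjective y
  let η := Spec.map (CommRingCat.ofHom (algebraMap (X.residueField x)
    (AlgebraicClosure (X.residueField x)))) ≫ X.fromSpecResidueField x
  obtain ⟨U, g, _, X', f', g', H, T, hy, ⟨φ⟩⟩ := exists_lift_square _ f Z η le_rfl
  have h1 : IsPullback (φ.hom.left ≫ pullback.fst Z.hom g') (pullback.snd T.hom f') Z.hom g' :=
    IsPullback.of_iso (IsPullback.of_hasPullback Z.hom g')
      ((MorphismProperty.Over.forget _ _ _ ⋙ Over.forget _).mapIso φ).symm (Iso.refl _) (Iso.refl _)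
      (Iso.refl _)
      (by
        show pullback.fst Z.hom g' ≫ 𝟙 _ = φ.inv.left ≫ φ.hom.left ≫ pullback.fst Z.hom g'
        exact (Category.comp_id _).trans (((congrArg (· ≫ pullback.fst Z.hom g')
          (congrArg (fun k => k.left) φ.inv_hom_id : φ.inv.left ≫ φ.hom.left = _)).trans
            (Category.id_comp _)).symm.trans (Category.assoc _ _ _)))
      (by
        show pullback.snd Z.hom g' ≫ 𝟙 _ = φ.inv.left ≫ pullback.snd T.hom f'
        rw [Category.comp_id]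
        exact (w_left φ.inv).symm)
      (by simp) (by simp)
  have h2 := (IsPullback.of_hasPullback T.hom f').paste_vert H.flip.flip
  refine ⟨U, g, inferInstance, T, h2.isoPullback.inv ≫ φ.hom.left ≫ pullback.fst Z.hom g', ?_, ?_⟩
  · obtain ⟨t⟩ : Nonempty (Spec (CommRingCat.of (AlgebraicClosure (X.residueField x)))) :=
      inferInstance
    refine hy ⟨t, ?_⟩
    rw [Scheme.Hom.comp_apply]
    exact congrArg f ((Scheme.Hom.comp_apply _ _ _).trans
      (X.fromSpecResidueField_apply x _))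
  · refine IsPullback.of_iso h1 h2.isoPullback (Iso.refl _) H.isoPullback (Iso.refl _) ?_ ?_ ?_ ?_
    · exact (Category.comp_id _).trans (h2.isoPullback.hom_inv_id_assoc _).symm
    · refine pullback.hom_ext ?_ ?_
      · refine (Category.assoc _ _ _).trans ((congrArg (pullback.snd T.hom f' ≫ ·)
          H.isoPullback_hom_fst).trans (pullback.condition.symm.trans ?_))
        exact ((Category.assoc _ _ _).trans ((congrArg (h2.isoPullback.hom ≫ ·)
          (bmap_fst f T.hom (g := T.hom ≫ g) rfl)).trans ((Category.assoc _ _ _).symm.trans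
            (congrArg (· ≫ T.hom) h2.isoPullback_hom_fst)))).symm
      · refine (Category.assoc _ _ _).trans ((congrArg (pullback.snd T.hom f' ≫ ·)
          H.isoPullback_hom_snd).trans ?_)
        exact ((Category.assoc _ _ _).trans ((congrArg (h2.isoPullback.hom ≫ ·)
          (bmap_snd f T.hom (g := T.hom ≫ g) rfl)).trans h2.isoPullback_hom_snd)).symm
    · simp
    · simp

end Groth.Agent.FEt83
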