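import Mathlib.FieldTheory.IsSepClosed
import Mathlib.FieldTheory.PurelyInseparable.Basic
import Groth.Agent.FEt83.FieldLim
import Groth.Agent.S0289
import Groth.Agent.FEt83.FullFaithful
import Groth.Agent.FEt83.Galois
import Groth.Agent.S0283

/-!
# Finite étale covers of schemes over a field with connected geometric fibre
-/

universe u

open CategoryTheory Limits AlgebraicGeometry

namespace Groth.Agent.FEt83

variable {k : Type u} [Field k] {X : Scheme.{u}} (f : X ⟶ Spec (CommRingCat.of k))

theorem universallyOpen_toField : UniversallyOpen f := inferInstance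

/-- The base change to the algebraic closure. -/
noncomputable abbrev toBar (k : Type u) [Field k] :
    Spec (CommRingCat.of (AlgebraicClosure k)) ⟶ Spec (CommRingCat.of k) :=
  Spec.map (CommRingCat.ofHom (algebraMap k (AlgebraicClosure k)))

set_option backward.isDefEq.respectTransparency.types false in
/-- Clopen subsets of base changes of covers of the point come from clopen subsets. -/
theorem liftsClopens_of_geomConnected [ConnectedSpace ↥(pullback f (toBar k))] :
    LiftsClopens f := by
  intro Y C₀ hC₀
  have : IsFinite Y.hom := Y.prop.1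
  let F := pullback.fst Y.hom f
  have : UniversallyOpen F := MorphismProperty.pullback_fst (P := @UniversallyOpen) _ _ (universallyOpen_toField f)
  have hX : Nonempty X := ⟨pullback.fst f (toBar k) (Classical.arbitrary _)⟩
  have : Surjective f := ⟨fun t => ⟨hX.some, Subsingleton.elim (α := PrimeSpectrum k) _ _⟩⟩
  have : Surjective F := MorphismProperty.pullback_fst (P := @Surjective) _ _ inferInstance
  have hsat : ∀ z z', F z = F z' → z ∈ C₀ → z' ∈ C₀ := by
    intro z z' hzz hz
    obtain ⟨t⟩ : Nonempty (Spec (CommRingCat.of (AlgebraicClosure k))) := inferInstance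
    obtain ⟨s, ts, hts⟩ := exists_fiberObj (toBar k) Y (F z) t
      (Subsingleton.elim (α := PrimeSpectrum k) _ _)
    let m : pullback f (toBar k) ⟶ pullback Y.hom f :=
      pullback.lift (pullback.snd _ _ ≫ s.1) (pullback.fst _ _) (by
        rw [pullback.condition]
        exact (Category.assoc _ _ _).trans (congrArg (_ ≫ ·) s.2))
    have sq : IsPullback m (pullback.snd f (toBar k)) F s.1 := by
      refine (IsPullback.of_bot (h₁₁ := pullback.snd f (toBar k)) (v₁₁ := m) (v₁₂ := s.1) ?_
        (pullback.lift_fst _ _ _).symm (IsPullback.of_hasPullback Y.hom f)).flip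
      have e1 : m ≫ pullback.snd Y.hom f = pullback.fst f (toBar k) := pullback.lift_snd _ _ _
      rw [e1, show s.1 ≫ Y.hom = toBar k from s.2]
      exact (IsPullback.of_hasPullback f (toBar k)).flip
    obtain ⟨q, hq, -⟩ := exists_preimage_of_isPullback sq z ts hts.symm
    obtain ⟨q', hq', -⟩ := exists_preimage_of_isPullback sq z' ts (hzz.symm.trans hts.symm)
    rcases isClopen_iff.mp (hC₀.preimage m.continuous) with h | h
    · exact absurd (show q ∈ m ⁻¹' C₀ by rw [Set.mem_preimage, hq]; exact hz) (h ▸ Set.notMem_empty q)
    · rw [← hq']; exact h.ge (Set.mem_univ q')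
  refine ⟨F '' C₀, ⟨?_, F.isOpenMap _ hC₀.2⟩, ?_⟩
  · rw [← isOpen_compl_iff]
    have : (F '' C₀)ᶜ = F '' C₀ᶜ := by
      ext y
      obtain ⟨z, rfl⟩ := F.surjective y
      constructor
      · exact fun h => ⟨z, fun hz => h ⟨z, hz, rfl⟩, rfl⟩
      · rintro ⟨w, hw, e⟩ ⟨v, hv, e'⟩
        exact hw (hsat v w (e'.trans e.symm) hv)
    rw [this]
    exact F.isOpenMap _ hC₀.1.isOpen_compl
  · exact Set.Subset.antisymm (fun z ⟨w, hw, e⟩ => hsat w z e hw) (Set.subset_preimage_image F C₀)

set_option backward.isDefEq.respectTransparency.types false in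
/-- For geometrically connected `X`, pullback of covers of the point is fully faithful. -/
theorem fullyFaithful_of_geomConnected [ConnectedSpace ↥(pullback f (toBar k))] :
    (FEt.restrict f).Full ∧ (FEt.restrict f).Faithful := by
  have hX : Nonempty X := ⟨pullback.fst f (toBar k) (Classical.arbitrary _)⟩
  have hm : MeetsClopens f := meetsClopens_of_components fun t =>
    ⟨f hX.some, by
      rw [Subsingleton.elim (α := PrimeSpectrum k) t (f hX.some)]
      exact mem_connectedComponent, Set.mem_range_self _⟩
  exact ⟨full_of_lifts hm (liftsClopens_of_geomConnected f), faithful_of_meets hm⟩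

/-- The map to the separable closure. -/
noncomputable abbrev toSep (k : Type u) [Field k] :
    Spec (CommRingCat.of (SeparableClosure k)) ⟶ Spec (CommRingCat.of k) :=
  Spec.map (CommRingCat.ofHom (algebraMap k (SeparableClosure k)))

set_option backward.isDefEq.respectTransparency.types false in
theorem barToSep_univHomeo :
    IsIntegralHom (Spec.map (CommRingCat.ofHom (algebraMap (SeparableClosure k) (AlgebraicClosure k)))) ∧
    UniversallyInjective
      (Spec.map (CommRingCat.ofHom (algebraMap (SeparableClosure k) (AlgebraicClosure k)))) ∧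
    Surjective
      (Spec.map (CommRingCat.ofHom (algebraMap (SeparableClosure k) (AlgebraicClosure k)))) := by
  let E := SeparableClosure k
  let F := AlgebraicClosure k
  refine ⟨?_, ?_, ⟨fun x => ⟨(inferInstance : Nonempty (Spec (CommRingCat.of F))).some,
      Subsingleton.elim (α := PrimeSpectrum E) _ _⟩⟩⟩
  · rw [IsIntegralHom.SpecMap_iff]
    exact algebraMap_isIntegral_iff.mpr (inferInstance : Algebra.IsIntegral E F)
  · refine ((tfae_universallyInjective
      (Spec.map (CommRingCat.ofHom (algebraMap E F)))).out 0 1).mpr ?_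
    intro K _ g₁ g₂ h
    obtain ⟨a, rfl⟩ := Spec.map_surjective g₁
    obtain ⟨b, rfl⟩ := Spec.map_surjective g₂
    replace h := Spec.map_injective ((Spec.map_comp _ _).trans (h.trans (Spec.map_comp _ _).symm))
    exact congrArg Spec.map (CommRingCat.hom_ext
      ((IsPurelyInseparable.injective_comp_algebraMap (F := E) (E := F) (L := K))
        (congrArg CommRingCat.Hom.hom h)))

theorem specMap_surjective_field {A B : Type u} [Field A] [Field B]
    (v : Spec (CommRingCat.of B) ⟶ Spec (CommRingCat.of A)) : Surjective v :=
  ⟨fun x => ⟨(inferInstance : Nonempty (Spec (CommRingCat.of B))).some,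
    Subsingleton.elim (α := PrimeSpectrum A) _ _⟩⟩

set_option backward.isDefEq.respectTransparency.types false in
theorem isPullback_lift_snd {L : Type u} [Field L] [Algebra k L]
    (v : Spec (CommRingCat.of (AlgebraicClosure k)) ⟶ Spec (CommRingCat.of L))
    (hv : v ≫ Spec.map (CommRingCat.ofHom (algebraMap k L)) = toBar k)
    (e : pullback f (toBar k) ⟶ pullback f (Spec.map (CommRingCat.ofHom (algebraMap k L))))
    (h1 : e ≫ pullback.fst f _ = pullback.fst f _) (h2 : e ≫ pullback.snd f _ = pullback.snd f _ ≫ v) :
    IsPullback e (pullback.snd f (toBar k)) (pullback.snd f _) v := by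
  refine IsPullback.of_right ?_ h2 (IsPullback.of_hasPullback f _)
  rw [h1, hv]
  exact IsPullback.of_hasPullback f _

set_option backward.isDefEq.respectTransparency.types false in
/-- A cover of `X ⊗ k̄` comes from a cover of `X ⊗ L` with `L` finite separable over `k`. -/
theorem exists_separable_stage [CompactSpace X] [QuasiSeparatedSpace X]
    (V : FEt.Cat (pullback f (toBar k))) :
    ∃ (L : Type u) (_ : Field L) (_ : Algebra k L) (_ : FiniteDimensional k L)
      (_ : Algebra.IsSeparable k L)
      (e : pullback f (toBar k) ⟶ pullback f (Spec.map (CommRingCat.ofHom (algebraMap k L))))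
      (VL : FEt.Cat (pullback f (Spec.map (CommRingCat.ofHom (algebraMap k L)))))
      (v : Spec (CommRingCat.of (AlgebraicClosure k)) ⟶ Spec (CommRingCat.of L)),
      v ≫ Spec.map (CommRingCat.ofHom (algebraMap k L)) = toBar k ∧
      e ≫ pullback.fst f _ = pullback.fst f _ ∧ e ≫ pullback.snd f _ = pullback.snd f _ ≫ v ∧
        Nonempty ((FEt.restrict e).obj VL ≅ V) := by
  obtain ⟨h1, h2, h3⟩ := barToSep_univHomeo (k := k)
  let u := Spec.map (CommRingCat.ofHom (algebraMap (SeparableClosure k) (AlgebraicClosure k)))
  have hu : toBar k = u ≫ toSep k := by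
    rw [← Spec.map_comp, ← CommRingCat.ofHom_comp, ← IsScalarTower.algebraMap_eq]
  let d : pullback f (toBar k) ⟶ pullback f (toSep k) :=
    pullback.lift (pullback.fst _ _) (pullback.snd _ _ ≫ u) (by
      rw [Category.assoc, ← hu, pullback.condition])
  have hd : IsPullback d (pullback.snd f (toBar k)) (pullback.snd f (toSep k)) u := by
    refine IsPullback.of_right ?_ (pullback.lift_snd _ _ _) (IsPullback.of_hasPullback f _)
    rw [pullback.lift_fst, ← hu]
    exact IsPullback.of_hasPullback f _
  have : IsIntegralHom d := MorphismProperty.of_isPullback (P := @IsIntegralHom) hd.flip h1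
  have : UniversallyInjective d :=
    MorphismProperty.of_isPullback (P := @UniversallyInjective) hd.flip h2
  have : Surjective d := MorphismProperty.of_isPullback (P := @Surjective) hd.flip h3
  have := S0289.result d
  let V' := (FEt.restrict d).objPreimage V
  obtain ⟨L, hL, c, VL, hc1, hc2, ⟨φ⟩⟩ := exists_finite_subextension (SeparableClosure k) f V'
  have hsep : Algebra.IsSeparable k L := Algebra.IsSeparable.of_algHom k (SeparableClosure k) L.val
  refine ⟨L, inferInstance, inferInstance, hL, hsep, d ≫ c, VL,
    u ≫ Spec.map (CommRingCat.ofHom (algebraMap L (SeparableClosure k))), ?_, ?_, ?_, ⟨?_⟩⟩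
  · rw [Category.assoc, ← Spec.map_comp, ← CommRingCat.ofHom_comp, ← IsScalarTower.algebraMap_eq,
      hu]
  · rw [Category.assoc, hc1, pullback.lift_fst]
  · rw [Category.assoc, hc2, pullback.lift_snd_assoc, Category.assoc]
  · exact (restrictCompIso d c).app VL ≪≫ (FEt.restrict d).mapIso φ ≪≫
      (FEt.restrict d).objObjPreimageIso V

set_option backward.isDefEq.respectTransparency.types false in
theorem isFinite_etale_fst (L : Type u) [Field L] [Algebra k L] [FiniteDimensional k L]
    [Algebra.IsSeparable k L] :
    FEt.prop (Spec.map (CommRingCat.ofHom (algebraMap k L))) ∧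
      FEt.prop (pullback.fst f (Spec.map (CommRingCat.ofHom (algebraMap k L)))) := by
  have : Algebra.FiniteType k L := Module.Finite.finiteType L
  have : Algebra.FormallyEtale k L := Algebra.FormallyEtale.of_isSeparable k L
  have het : Algebra.Etale k L := ⟨this, Algebra.FinitePresentation.of_finiteType.mp inferInstance⟩
  have h : FEt.prop (Spec.map (CommRingCat.ofHom (algebraMap k L))) :=
    ⟨(IsFinite.SpecMap_iff _).mpr (RingHom.finite_algebraMap.mpr inferInstance),
      (HasRingHomProperty.Spec_iff (P := @Etale)).mpr (RingHom.etale_algebraMap.mpr het)⟩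
  exact ⟨h, MorphismProperty.pullback_fst (P := FEt.prop) _ _ h⟩

set_option backward.isDefEq.respectTransparency.types false in
/-- A section over `X ⊗ k̄` of a cover of `X` comes from one over `X ⊗ L`. -/
theorem exists_separable_section [CompactSpace X] [QuasiSeparatedSpace X] (U : FEt.Cat X)
    (s : pullback f (toBar k) ⟶ U.left) (hs : s ≫ U.hom = pullback.fst f (toBar k)) :
    ∃ (L : Type u) (_ : Field L) (_ : Algebra k L) (_ : FiniteDimensional k L)
      (_ : Algebra.IsSeparable k L)
      (c : pullback f (toBar k) ⟶ pullback f (Spec.map (CommRingCat.ofHom (algebraMap k L))))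
      (t : pullback f (Spec.map (CommRingCat.ofHom (algebraMap k L))) ⟶ U.left),
      t ≫ U.hom = pullback.fst f _ ∧ c ≫ t = s := by
  have : IsFinite U.hom := U.prop.1
  have : Etale U.hom := U.prop.2
  let g := U.hom ≫ f
  have : CompactSpace ↥((𝟭 Scheme.{u}).obj U.left) :=
    @QuasiCompact.compactSpace_of_compactSpace U.left X U.hom inferInstance inferInstance
  have : QuasiSeparatedSpace ↥((𝟭 Scheme.{u}).obj U.left) :=
    @quasiSeparatedSpace_of_quasiSeparated U.left X U.hom inferInstance inferInstance
  let u : pullback g (toBar k) ⟶ pullback f (toBar k) :=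
    pullback.lift (pullback.fst _ _ ≫ U.hom) (pullback.snd _ _) (by
      rw [Category.assoc]; exact pullback.condition)
  have hu : IsPullback (pullback.fst g (toBar k)) u U.hom (pullback.fst f (toBar k)) :=
    IsPullback.of_bot (IsPullback.of_hasPullback g (toBar k) |> fun h => by
      rwa [← pullback.lift_snd (f := f) (g := toBar k) (pullback.fst g (toBar k) ≫ U.hom)
        (pullback.snd g (toBar k)) (by rw [Category.assoc]; exact pullback.condition)] at h)
      (pullback.lift_fst _ _ _).symm (IsPullback.of_hasPullback f (toBar k))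
  have huf : IsFinite u := MorphismProperty.of_isPullback (P := @IsFinite) hu inferInstance
  have hue : Etale u := MorphismProperty.of_isPullback (P := @Etale) hu inferInstance
  let σ : pullback f (toBar k) ⟶ pullback g (toBar k) :=
    pullback.lift s (pullback.snd _ _) (by
      rw [← Category.assoc, hs, pullback.condition])
  have hσ : σ ≫ u = 𝟙 _ := by
    apply pullback.hom_ext
    · rw [Category.assoc, pullback.lift_fst, pullback.lift_fst_assoc, hs, Category.id_comp]
    · rw [Category.assoc, pullback.lift_snd, pullback.lift_snd, Category.id_comp]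
  have : IsFinite (σ ≫ u) := by rw [hσ]; infer_instance
  have : Etale (σ ≫ u) := by rw [hσ]; infer_instance
  have : IsFinite σ := IsFinite.of_comp σ u
  have : Etale σ := Etale.of_comp σ u
  obtain ⟨L, _, _, hL, hsep, cU, VL, v, hv, hc1, hc2, ⟨φ⟩⟩ :=
    exists_separable_stage g (MorphismProperty.Over.mk ⊤ σ ⟨inferInstance, inferInstance⟩)
  let gL := Spec.map (CommRingCat.ofHom (algebraMap k L))
  let uL : pullback g gL ⟶ pullback f gL :=
    pullback.lift (pullback.fst _ _ ≫ U.hom) (pullback.snd _ _) (by
      rw [Category.assoc]; exact pullback.condition)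
  have huL : IsPullback (pullback.fst g gL) uL U.hom (pullback.fst f gL) :=
    IsPullback.of_bot (IsPullback.of_hasPullback g gL |> fun h => by
      rwa [← pullback.lift_snd (f := f) (g := gL) (pullback.fst g gL ≫ U.hom)
        (pullback.snd g gL) (by rw [Category.assoc]; exact pullback.condition)] at h)
      (pullback.lift_fst _ _ _).symm (IsPullback.of_hasPullback f gL)
  let c : pullback f (toBar k) ⟶ pullback f gL :=
    pullback.lift (pullback.fst _ _) (pullback.snd _ _ ≫ v) (by
      rw [Category.assoc, hv, pullback.condition])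
  have hcu : cU ≫ uL = u ≫ c := by
    apply pullback.hom_ext
    · rw [Category.assoc, Category.assoc, pullback.lift_fst, pullback.lift_fst, pullback.lift_fst,
        ← Category.assoc]
      exact congrArg (· ≫ U.hom) hc1
    · rw [Category.assoc, Category.assoc, pullback.lift_snd, pullback.lift_snd, hc2, pullback.lift_snd_assoc]
  have sqU : IsPullback cU u uL c := by
    refine IsPullback.of_right ?_ hcu huL
    rw [hc1, pullback.lift_fst]
    exact hu
  let w : pullback f (toBar k) ⟶ VL.left := φ.inv.left ≫ pullback.fst VL.hom cU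
  have sqV : IsPullback w σ VL.hom cU := by
    refine (IsPullback.of_hasPullback VL.hom cU).of_iso
      ((MorphismProperty.Over.forget _ _ _ ⋙ CategoryTheory.Over.forget _).mapIso φ)
      (Iso.refl _) (Iso.refl _) (Iso.refl _) ?_ ?_ (by simp) (by simp)
    · show pullback.fst VL.hom cU ≫ 𝟙 _ = φ.hom.left ≫ φ.inv.left ≫ pullback.fst VL.hom cU
      exact (Category.comp_id _).trans (((congrArg (· ≫ pullback.fst VL.hom cU)
        (congrArg (fun q => q.left) φ.hom_inv_id : φ.hom.left ≫ φ.inv.left = _)).trans
          (Category.id_comp _)).symm.trans (Category.assoc _ _ _))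
    · exact (Category.comp_id _).trans (w_left φ.hom).symm
  let q := VL.hom ≫ uL
  have sq : IsPullback w (𝟙 _) q c := by
    have := sqV.paste_vert sqU
    rwa [hσ] at this
  have hcsurj : Surjective c := MorphismProperty.of_isPullback (P := @Surjective)
    (isPullback_lift_snd f v hv c (pullback.lift_fst _ _ _) (pullback.lift_snd _ _ _)).flip
    (specMap_surjective_field v)
  have : IsFinite VL.hom := VL.prop.1
  have : Etale VL.hom := VL.prop.2
  have : IsFinite uL := MorphismProperty.of_isPullback (P := @IsFinite) huL inferInstance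
  have : Etale uL := MorphismProperty.of_isPullback (P := @Etale) huL inferInstance
  have hq : IsIso q := by
    rw [Scheme.Hom.isIso_iff_finrank_eq]
    funext z
    obtain ⟨z', rfl⟩ := c.surjective z
    rw [← Scheme.Hom.finrank_of_isPullback (f := q) (g := c) w (𝟙 _) sq z',
      Scheme.Hom.finrank_eq_one_of_isIso]
    rfl
  have hwq : w = c ≫ inv q := by
    rw [IsIso.eq_comp_inv, sq.w, Category.id_comp]
  refine ⟨L, inferInstance, inferInstance, hL, hsep, c,
    inv q ≫ VL.hom ≫ pullback.fst g gL, ?_, ?_⟩
  · rw [Category.assoc, Category.assoc, IsIso.inv_comp_eq, Category.assoc, pullback.lift_fst]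
  · rw [← Category.assoc, ← hwq, reassoc_of% sqV.w, hc1]
    exact pullback.lift_fst _ _ _


end Groth.Agent.FEt83
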