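import Mathlib.FieldTheory.AbsoluteGaloisGroup
import Mathlib.FieldTheory.PurelyInseparable.Basic
import Mathlib.CategoryTheory.Galois.Topology
import Groth.Agent.FEt83.Connected

/-!
# The fundamental group of the spectrum of a field is the absolute Galois group
-/

universe u

open CategoryTheory Limits AlgebraicGeometry PreGaloisCategory

namespace Groth.Agent.FEt83

variable (K : Type u) [Field K]

/-- The geometric point given by the algebraic closure. -/
noncomputable abbrev algPt : Spec (CommRingCat.of (AlgebraicClosure K)) ⟶ Spec (CommRingCat.of K) :=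
  Spec.map (CommRingCat.ofHom (algebraMap K (AlgebraicClosure K)))

/-- The morphism of `Spec K̄` given by an automorphism of `K̄`. -/
noncomputable abbrev galMor (σ : AlgebraicClosure K ≃ₐ[K] AlgebraicClosure K) :
    Spec (CommRingCat.of (AlgebraicClosure K)) ⟶ Spec (CommRingCat.of (AlgebraicClosure K)) :=
  Spec.map (CommRingCat.ofHom σ.toAlgHom.toRingHom)

theorem galMor_comp (σ : AlgebraicClosure K ≃ₐ[K] AlgebraicClosure K) :
    galMor K σ ≫ algPt K = algPt K := by
  rw [← Spec.map_comp]
  congr 1
  ext x
  exact σ.commutes x

theorem galMor_mul (σ τ : AlgebraicClosure K ≃ₐ[K] AlgebraicClosure K) :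
    galMor K (σ * τ) = galMor K σ ≫ galMor K τ := by
  rw [← Spec.map_comp]
  rfl

theorem galMor_one : galMor K 1 = 𝟙 _ := Spec.map_id _

/-- The action of an automorphism of `K̄` on the fibres. -/
noncomputable def galAct (σ : AlgebraicClosure K ≃ₐ[K] AlgebraicClosure K) :
    Aut (FEt.fiber (algPt K)) :=
  NatIso.ofComponents (fun Y => Equiv.toIso
    { toFun := fun s => ⟨galMor K σ ≫ s.1, (Category.assoc _ _ _).trans
        ((congrArg (galMor K σ ≫ ·) s.2).trans (galMor_comp K σ))⟩
      invFun := fun s => ⟨galMor K σ⁻¹ ≫ s.1, (Category.assoc _ _ _).trans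
        ((congrArg (galMor K σ⁻¹ ≫ ·) s.2).trans (galMor_comp K σ⁻¹))⟩
      left_inv := fun s => Subtype.ext <| by
        show galMor K σ⁻¹ ≫ galMor K σ ≫ s.1 = s.1
        rw [← Category.assoc, ← galMor_mul, inv_mul_cancel, galMor_one, Category.id_comp]
      right_inv := fun s => Subtype.ext <| by
        show galMor K σ ≫ galMor K σ⁻¹ ≫ s.1 = s.1
        rw [← Category.assoc, ← galMor_mul, mul_inv_cancel, galMor_one, Category.id_comp] })
    (fun {Y Z} k => ConcreteCategory.hom_ext _ _ fun s => Subtype.ext (Category.assoc _ _ _).symm)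

/-- The homomorphism from the Galois group to the automorphisms of the fibre functor. -/
noncomputable def galHom :
    (AlgebraicClosure K ≃ₐ[K] AlgebraicClosure K) →* Aut (FEt.fiber (algPt K)) :=
  MonoidHom.mk' (galAct K) fun σ τ => Iso.ext (NatTrans.ext (funext fun Y =>
    ConcreteCategory.hom_ext _ _ fun s => Subtype.ext <| by
      show galMor K (σ * τ) ≫ s.1 = galMor K σ ≫ galMor K τ ≫ s.1
      rw [galMor_mul, Category.assoc]))

section Cover

variable {K} (L : IntermediateField K (AlgebraicClosure K)) [FiniteDimensional K L]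
  [Algebra.IsSeparable K L]

theorem etale_intermediate : Algebra.Etale K L :=
  have : Algebra.FormallyEtale K L := Algebra.FormallyEtale.of_isSeparable K L
  have : Algebra.FinitePresentation K L := Algebra.FinitePresentation.of_finiteType.mp inferInstance
  { }

/-- The cover of `Spec K` given by a finite separable subextension. -/
noncomputable def fieldCover : FEt.Cat (Spec (CommRingCat.of K)) :=
  have := etale_intermediate L
  (specFunctor K).obj (.op (CommAlgCat.FiniteEtale.of K L))

/-- The tautological point of `fieldCover L`. -/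
noncomputable def fieldPt : FEt.fiberObj (algPt K) (fieldCover L) :=
  ⟨Spec.map (CommRingCat.ofHom L.val.toRingHom),
    (Spec.map_comp _ _).symm.trans (congrArg Spec.map (CommRingCat.hom_ext (RingHom.ext fun x =>
      L.val.commutes x)))⟩

variable (α : Aut (FEt.fiber (algPt K)))

/-- The embedding of `L` determined by an automorphism of the fibre functor. -/
noncomputable def autEmb : L →ₐ[K] AlgebraicClosure K :=
  have := etale_intermediate L
  (specFunctorFiberIso K (AlgebraicClosure K)).hom.app (.op (CommAlgCat.FiniteEtale.of K L))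
    (α.hom.app (fieldCover L) (fieldPt L))

theorem autEmb_spec :
    (α.hom.app (fieldCover L) (fieldPt L)).1 = Spec.map (CommRingCat.ofHom (autEmb L α).toRingHom) :=
  (Spec.map_preimage _).symm

theorem autEmb_mono {L' : IntermediateField K (AlgebraicClosure K)} [FiniteDimensional K L']
    [Algebra.IsSeparable K L'] (h : L ≤ L') (x : L) :
    autEmb L' α (IntermediateField.inclusion h x) = autEmb L α x := by
  have := etale_intermediate L
  have := etale_intermediate L'
  let m : fieldCover L' ⟶ fieldCover L := (specFunctor K).map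
    (CommAlgCat.FiniteEtale.ofHom (IntermediateField.inclusion h)).op
  have hm : (FEt.fiber (algPt K)).map m (fieldPt L') = fieldPt L :=
    Subtype.ext ((Spec.map_comp _ _).symm.trans rfl)
  have h1 := congrArg Subtype.val (ConcreteCategory.congr_hom (α.hom.naturality m) (fieldPt L'))
  have h2 : (α.hom.app (fieldCover L) (fieldPt L)).1 =
      (α.hom.app (fieldCover L') (fieldPt L')).1 ≫ m.left := by
    rw [← hm]; exact h1
  rw [autEmb_spec L α, autEmb_spec L' α] at h2
  have h3 := Spec.map_injective (h2.trans (Spec.map_comp _ _).symm)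
  exact (congr($h3 x)).symm

end Cover

variable {K}

theorem isSeparable_of_mem_sepClosure (x : separableClosure K (AlgebraicClosure K)) :
    Algebra.IsSeparable K (IntermediateField.adjoin K {(x : AlgebraicClosure K)}) := by
  rw [IntermediateField.isSeparable_adjoin_simple_iff_isSeparable]
  exact mem_separableClosure_iff.mp x.2

instance finiteDimensional_adjoin_simple (x : AlgebraicClosure K) :
    FiniteDimensional K (IntermediateField.adjoin K {x}) :=
  IntermediateField.adjoin.finiteDimensional (Algebra.IsIntegral.isIntegral x)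

attribute [local instance] isSeparable_of_mem_sepClosure

/-- The value at a separable element of the automorphism attached to `α`. -/
noncomputable def autVal (α : Aut (FEt.fiber (algPt K)))
    (x : separableClosure K (AlgebraicClosure K)) : AlgebraicClosure K :=
  autEmb (IntermediateField.adjoin K {(x : AlgebraicClosure K)}) α
    ⟨x, IntermediateField.mem_adjoin_simple_self K _⟩

theorem autVal_eq (α : Aut (FEt.fiber (algPt K))) (L : IntermediateField K (AlgebraicClosure K))
    [FiniteDimensional K L] [Algebra.IsSeparable K L]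
    (x : separableClosure K (AlgebraicClosure K)) (hx : (x : AlgebraicClosure K) ∈ L) :
    autVal α x = autEmb L α ⟨x, hx⟩ :=
  (autEmb_mono _ α (IntermediateField.adjoin_simple_le_iff.mpr hx)
    ⟨x, IntermediateField.mem_adjoin_simple_self K _⟩).symm

theorem exists_finite_sep (x y : separableClosure K (AlgebraicClosure K)) :
    ∃ (L : IntermediateField K (AlgebraicClosure K)) (_ : FiniteDimensional K L)
      (_ : Algebra.IsSeparable K L), (x : AlgebraicClosure K) ∈ L ∧ (y : AlgebraicClosure K) ∈ L := by
  refine ⟨IntermediateField.adjoin K {(x : AlgebraicClosure K), (y : AlgebraicClosure K)},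
    IntermediateField.finiteDimensional_adjoin fun z _ => Algebra.IsIntegral.isIntegral z, ?_,
    IntermediateField.subset_adjoin K _ (by simp), IntermediateField.subset_adjoin K _ (by simp)⟩
  rw [IntermediateField.isSeparable_adjoin_iff_isSeparable]
  rintro z (rfl | rfl)
  exacts [mem_separableClosure_iff.mp x.2, mem_separableClosure_iff.mp y.2]

/-- The embedding of the separable closure attached to `α`. -/
noncomputable def autSep (α : Aut (FEt.fiber (algPt K))) :
    separableClosure K (AlgebraicClosure K) →ₐ[K] AlgebraicClosure K where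
  toFun := autVal α
  map_one' := by
    obtain ⟨L, _, _, h, -⟩ := exists_finite_sep (K := K) 1 1
    rw [autVal_eq α L 1 h]; exact map_one _
  map_mul' x y := by
    obtain ⟨L, _, _, hx, hy⟩ := exists_finite_sep x y
    rw [autVal_eq α L x hx, autVal_eq α L y hy, autVal_eq α L (x * y) (mul_mem hx hy), ← map_mul]
    rfl
  map_zero' := by
    obtain ⟨L, _, _, h, -⟩ := exists_finite_sep (K := K) 0 0
    rw [autVal_eq α L 0 h]; exact map_zero _
  map_add' x y := by
    obtain ⟨L, _, _, hx, hy⟩ := exists_finite_sep x y
    rw [autVal_eq α L x hx, autVal_eq α L y hy, autVal_eq α L (x + y) (add_mem hx hy), ← map_add]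
    rfl
  commutes' r := by
    obtain ⟨L, _, _, h, -⟩ := exists_finite_sep (K := K) (algebraMap K _ r) (algebraMap K _ r)
    show autVal α _ = _
    rw [autVal_eq α L _ h]; exact (autEmb L α).commutes r

theorem algHom_ext_sep {f g : AlgebraicClosure K →ₐ[K] AlgebraicClosure K}
    (h : ∀ x : separableClosure K (AlgebraicClosure K), f x = g x) : f = g :=
  AlgHom.coe_ringHom_injective <| IsPurelyInseparable.injective_comp_algebraMap
    (separableClosure K (AlgebraicClosure K)) (AlgebraicClosure K) (AlgebraicClosure K)
    (RingHom.ext h)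

theorem galHom_injective : Function.Injective (galHom K) := by
  intro σ τ h
  refine AlgEquiv.coe_toAlgHom_injective (algHom_ext_sep fun x => ?_)
  have := isSeparable_of_mem_sepClosure x
  let L := IntermediateField.adjoin K {(x : AlgebraicClosure K)}
  have h1 := congrArg (fun α : Aut (FEt.fiber (algPt K)) =>
    (α.hom.app (fieldCover L) (fieldPt L)).1) h
  have h3 := Spec.map_injective ((Spec.map_comp _ _).trans (h1.trans (Spec.map_comp _ _).symm))
  exact congr($h3 ⟨x, IntermediateField.mem_adjoin_simple_self K _⟩)

/-- Finite étale algebras map to finite separable subextensions. -/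
theorem finite_separable_range (C : Type u) [CommRing C] [Algebra K C] [Module.Finite K C]
    [Algebra.Etale K C] (φ : C →ₐ[K] AlgebraicClosure K) :
    ∃ (L : IntermediateField K (AlgebraicClosure K)) (_ : FiniteDimensional K L)
      (_ : Algebra.IsSeparable K L), ∀ c, φ c ∈ L := by
  let S := φ.range
  have : Module.Finite K S := Module.Finite.of_surjective φ.rangeRestrict.toLinearMap
    φ.rangeRestrict_surjective
  have : Algebra.IsAlgebraic K (AlgebraicClosure K) := inferInstance
  let L : IntermediateField K (AlgebraicClosure K) :=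
    Subalgebra.toIntermediateField' S
      (Algebra.IsIntegral.isField_iff_isField (algebraMap K S).injective |>.mp (Field.toIsField K))
  have : FiniteDimensional K L := inferInstanceAs (Module.Finite K S)
  have : Algebra.FormallyUnramified K L :=
    Algebra.FormallyUnramified.of_surjective φ.rangeRestrict φ.rangeRestrict_surjective
  have : Algebra.IsSeparable K L := Algebra.FormallyUnramified.isSeparable K L
  exact ⟨L, inferInstance, inferInstance, fun c => ⟨c, rfl⟩⟩

theorem galHom_surjective : Function.Surjective (galHom K) := by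
  intro α
  let _ : Algebra (separableClosure K (AlgebraicClosure K)) (AlgebraicClosure K) :=
    inferInstance
  obtain ⟨σ₀, hσ₀⟩ : ∃ σ : AlgebraicClosure K →ₐ[K] AlgebraicClosure K,
      ∀ x : separableClosure K (AlgebraicClosure K), σ x = autSep α x := by
    let _ : Algebra (separableClosure K (AlgebraicClosure K)) (AlgebraicClosure (AlgebraicClosure K)) :=
      ((algebraMap (AlgebraicClosure K) (AlgebraicClosure (AlgebraicClosure K))).comp
        (autSep α).toRingHom).toAlgebra
    obtain ⟨σ, hσ⟩ := IsAlgClosed.surjective_domRestrict_of_isAlgebraic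
      (L := separableClosure K (AlgebraicClosure K)) (E := AlgebraicClosure K)
      (M := AlgebraicClosure K) (K := K) (autSep α)
    exact ⟨σ, fun x => congr($hσ x)⟩
  refine ⟨AlgEquiv.ofBijective σ₀ (Algebra.IsAlgebraic.algHom_bijective σ₀),
    Iso.ext (NatTrans.ext (funext fun Y => ConcreteCategory.hom_ext _ _ fun s => ?_))⟩
  obtain ⟨C, ⟨e⟩⟩ := Functor.EssSurj.mem_essImage (F := specFunctor K) Y
  obtain ⟨φ, hφ⟩ : ∃ φ : C.unop.obj →ₐ[K] AlgebraicClosure K,
      (FEt.fiber (algPt K)).map e.hom
        ((specFunctorFiberIso K (AlgebraicClosure K)).inv.app C φ) = s := by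
    refine ⟨(specFunctorFiberIso K (AlgebraicClosure K)).hom.app C
      ((FEt.fiber (algPt K)).map e.inv s), ?_⟩
    rw [Iso.hom_inv_id_app_apply, ← CategoryTheory.comp_apply, ← Functor.map_comp,
      Iso.inv_hom_id, CategoryTheory.Functor.map_id]
    rfl
  subst hφ
  obtain ⟨L, _, _, hL⟩ := finite_separable_range C.unop.obj φ
  have := etale_intermediate L
  let φ₀ : C.unop.obj →ₐ[K] L :=
    (φ.codRestrict L.toSubalgebra hL)
  let m : fieldCover L ⟶ Y := (specFunctor K).map
    (show Opposite.op (CommAlgCat.FiniteEtale.of K L) ⟶ C from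
      (ObjectProperty.homMk (CommAlgCat.ofHom φ₀)).op) ≫ e.hom
  have hm : (FEt.fiber (algPt K)).map m (fieldPt L) =
      (FEt.fiber (algPt K)).map e.hom
        ((specFunctorFiberIso K (AlgebraicClosure K)).inv.app C φ) := by
    refine Subtype.ext ?_
    show Spec.map (CommRingCat.ofHom L.val.toRingHom) ≫ Spec.map (CommRingCat.ofHom φ₀.toRingHom) ≫
      e.hom.left = Spec.map (CommRingCat.ofHom φ.toRingHom) ≫ e.hom.left
    exact (Category.assoc _ _ _).symm.trans (congrArg (· ≫ e.hom.left) (Spec.map_comp _ _).symm)
  have key : (galHom K (AlgEquiv.ofBijective σ₀ (Algebra.IsAlgebraic.algHom_bijective σ₀))).hom.app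
      (fieldCover L) (fieldPt L) = α.hom.app (fieldCover L) (fieldPt L) := by
    refine Subtype.ext ((Spec.map_comp _ _).symm.trans (Eq.trans ?_ (autEmb_spec L α).symm))
    refine congrArg Spec.map (CommRingCat.hom_ext (RingHom.ext fun x => ?_))
    have hx : (x : AlgebraicClosure K) ∈ separableClosure K (AlgebraicClosure K) :=
      le_separableClosure K (AlgebraicClosure K) L x.2
    show σ₀ (x : AlgebraicClosure K) = autEmb L α x
    rw [hσ₀ ⟨x, hx⟩]
    exact autVal_eq α L ⟨x, hx⟩ x.2
  rw [← hm]
  have n1 := ConcreteCategory.congr_hom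
    ((galHom K (AlgEquiv.ofBijective σ₀ (Algebra.IsAlgebraic.algHom_bijective σ₀))).hom.naturality m)
    (fieldPt L)
  have n2 := ConcreteCategory.congr_hom (α.hom.naturality m) (fieldPt L)
  exact n1.trans ((congrArg (fun z => (FEt.fiber (algPt K)).map m z) key).trans n2.symm)

/-- The fundamental group of `Spec K` is the absolute Galois group. -/
noncomputable def galEquiv :
    (AlgebraicClosure K ≃ₐ[K] AlgebraicClosure K) ≃* Aut (FEt.fiber (algPt K)) :=
  MulEquiv.ofBijective (galHom K) ⟨galHom_injective, galHom_surjective⟩

section Topology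

variable (K)

/-- Automorphisms of the finite-set valued fibre functor and of the fibre functor. -/
noncomputable def autFiberFEquiv : Aut (fiberF (algPt K)) ≃* Aut (FEt.fiber (algPt K)) :=
  ((Functor.FullyFaithful.ofFullyFaithful FintypeCat.incl.{u}).whiskeringRight
      (FEt.Cat (Spec (CommRingCat.of K)))).autMulEquivOfFullyFaithful (fiberF (algPt K)) |>.trans
    (Aut.autMulEquivOfIso (fiberFIso (algPt K)))

/-- `Aut (fiberF) → Gal` is continuous, hence a homeomorphism. -/
theorem continuous_autToGal :
    Continuous (((autFiberFEquiv K).trans galEquiv.symm) :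
      Aut (fiberF (algPt K)) → (AlgebraicClosure K ≃ₐ[K] AlgebraicClosure K)) := by
  let Φ := ((autFiberFEquiv K).trans (galEquiv (K := K)).symm).toMonoidHom
  refine continuous_of_continuousAt_one Φ ?_
  rw [ContinuousAt, map_one, Filter.tendsto_def]
  intro S hS
  obtain ⟨_, ⟨_, ⟨E, hE, rfl⟩, rfl⟩, hES⟩ :=
    ((GroupFilterBasis.nhds_one_hasBasis (galGroupBasis K (AlgebraicClosure K))).mem_iff).mp hS
  have : FiniteDimensional K E := hE
  let L : IntermediateField K (AlgebraicClosure K) :=
    E ⊓ separableClosure K (AlgebraicClosure K)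
  have : FiniteDimensional K L := Module.Finite.of_injective
    (IntermediateField.inclusion (inf_le_left (a := E))).toLinearMap
    (fun a b h => Subtype.ext (congrArg Subtype.val h :))
  have : Algebra.IsSeparable K L := (le_separableClosure_iff K (AlgebraicClosure K) L).mp inf_le_right
  let p : (fiberF (algPt K)).obj (fieldCover L) :=
    (fiberFIso (algPt K)).inv.app (fieldCover L) (fieldPt L)
  refine Filter.mem_of_superset
    (IsOpen.mem_nhds (s := {α : Aut (fiberF (algPt K)) | α • p = p}) ?_ (one_smul _ p)) fun α hα => ?_
  · have hc : Continuous fun α : Aut (fiberF (algPt K)) => α • p :=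
      continuous_id.smul continuous_const
    exact (isOpen_discrete {p}).preimage hc
  refine hES ?_
  have hα' : (autFiberFEquiv K α).hom.app (fieldCover L) (fieldPt L) = fieldPt L := by
    show (fiberFIso (algPt K)).hom.app _ (α.hom.app (fieldCover L) p) = _
    rw [show α.hom.app (fieldCover L) p = p from hα]
    exact Iso.inv_hom_id_app_apply _ _ _
  let σ := galEquiv.symm (autFiberFEquiv K α)
  have hσL : ∀ x : L, σ (x : AlgebraicClosure K) = x := by
    have h1 : ((galEquiv σ).hom.app (fieldCover L) (fieldPt L)).1 = (fieldPt L).1 :=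
      congrArg Subtype.val (by rw [MulEquiv.apply_symm_apply]; exact hα')
    have h3 := Spec.map_injective ((Spec.map_comp _ _).trans h1)
    exact fun x => congr($h3 x)
  show σ ∈ E.fixingSubgroup
  rw [IntermediateField.mem_fixingSubgroup_iff]
  intro y hy
  have : ExpChar (AlgebraicClosure K) (ringExpChar K) :=
    expChar_of_injective_algebraMap (algebraMap K (AlgebraicClosure K)).injective _
  obtain ⟨n, x, hx⟩ := IsPurelyInseparable.pow_mem
    (separableClosure K (AlgebraicClosure K)) (ringExpChar K) y
  refine iterateFrobenius_inj (AlgebraicClosure K) (ringExpChar K) n ?_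
  simp only [iterateFrobenius_def, ← map_pow]
  have hyL : y ^ ringExpChar K ^ n ∈ L := ⟨pow_mem hy _, hx ▸ x.2⟩
  exact hσL ⟨_, hyL⟩

/-- The topological group isomorphism. -/
noncomputable def autContEquiv :
    Aut (fiberF (algPt K)) ≃ₜ* Field.absoluteGaloisGroup K :=
  let e := (autFiberFEquiv K).trans (galEquiv (K := K)).symm
  have : T2Space (Field.absoluteGaloisGroup K) := krullTopology_t2
  let h : Aut (fiberF (algPt K)) ≃ₜ Field.absoluteGaloisGroup K :=
    (continuous_autToGal K).homeoOfEquivCompactToT2 (f := e.toEquiv)
  { e with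
    continuous_toFun := h.continuous
    continuous_invFun := h.symm.continuous }

end Topology

end Groth.Agent.FEt83
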