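import Mathlib.CategoryTheory.Limits.Preserves.Shapes.Equalizers
import Groth.Agent.FEt83.FieldCovers

/-!
# Quotients of constant covers are constant
-/

universe u

open CategoryTheory Limits AlgebraicGeometry

namespace Groth.Agent.FEt83

variable {X S : Scheme.{u}}

set_option backward.isDefEq.respectTransparency.types false in
/-- A surjective morphism of covers is the coequalizer of its kernel pair. -/
theorem nonempty_isColimit_kernelPair {A B Z : FEt.Cat X} (t : A ⟶ B) [Surjective t.left]
    (p₁ p₂ : Z ⟶ A) (w : p₁ ≫ t = p₂ ≫ t) (H : IsPullback p₁.left p₂.left t.left t.left) :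
    Nonempty (IsColimit (Cofork.ofπ t w)) := by
  obtain ⟨_, _⟩ := isFinite_left t
  have he : EffectiveEpi t.left := inferInstance
  have hg : ∀ (s : Cofork p₁ p₂) {W : Scheme.{u}} (g₁ g₂ : W ⟶ A.left),
      g₁ ≫ t.left = g₂ ≫ t.left → g₁ ≫ s.π.left = g₂ ≫ s.π.left := by
    intro s W g₁ g₂ e
    conv_lhs => rw [← H.lift_fst g₁ g₂ e]
    conv_rhs => rw [← H.lift_snd g₁ g₂ e]
    rw [Category.assoc, Category.assoc]
    exact congrArg (H.lift g₁ g₂ e ≫ ·) (congrArg (fun k => k.left) s.condition)
  have := Flat.epi_of_flat_of_surjective t.left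
  refine ⟨Cofork.IsColimit.mk _ (fun s => MorphismProperty.Over.homMk
    (EffectiveEpi.desc t.left s.π.left (hg s)) ?_) (fun s => ?_) (fun s m hm => ?_)⟩
  · rw [← cancel_epi t.left, EffectiveEpi.fac_assoc, w_left]
    exact (w_left t).symm
  · exact MorphismProperty.Over.Hom.ext (EffectiveEpi.fac t.left s.π.left (hg s))
  · refine MorphismProperty.Over.Hom.ext ((cancel_epi t.left).mp ?_)
    exact (congrArg (fun k => k.left) hm).trans (EffectiveEpi.fac t.left s.π.left (hg s)).symm

set_option backward.isDefEq.respectTransparency.types false in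
/-- A subobject of a pulled back cover is pulled back when clopens lift. -/
theorem exists_subobject {f : X ⟶ S} (h : LiftsClopens f) {Z : FEt.Cat X} {B : FEt.Cat S}
    (i : Z ⟶ (FEt.restrict f).obj B) [Mono i] :
    ∃ (W : FEt.Cat S) (j : W ⟶ B) (e : (FEt.restrict f).obj W ≅ Z),
      e.hom ≫ i = (FEt.restrict f).map j := by
  obtain ⟨_, _⟩ := isFinite_left i
  have := mono_left i
  have : IsOpenImmersion i.left := IsOpenImmersion.of_flat_of_mono i.left
  obtain ⟨C, hC, hpre⟩ := h B (Set.range i.left) ⟨i.left.isClosedMap.isClosed_range, i.left.opensRange.2⟩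
  let W₀ : B.left.Opens := ⟨C, hC.2⟩
  have : IsClosedImmersion W₀.ι := .of_isPreimmersion W₀.ι (by
    rw [Scheme.Opens.range_ι]; exact hC.1)
  let W : FEt.Cat S := MorphismProperty.Over.mk ⊤ (W₀.ι ≫ B.hom) ⟨inferInstance, inferInstance⟩
  let j : W ⟶ B := MorphismProperty.Over.homMk W₀.ι rfl
  let m : pullback W.hom f ⟶ pullback B.hom f := ((FEt.restrict f).map j).left
  have sq : IsPullback m (pullback.fst W.hom f) (pullback.fst B.hom f) j.left := by
    refine IsPullback.flip ?_
    refine IsPullback.of_bot (v₂₁ := pullback.snd B.hom f) ?_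
      (pullback.lift_fst _ _ _).symm (IsPullback.of_hasPullback _ f)
    rw [show m ≫ pullback.snd B.hom f = pullback.snd W.hom f from pullback.lift_snd _ _ _, w_left]
    exact IsPullback.of_hasPullback W.hom f
  have : IsOpenImmersion m := MorphismProperty.of_isPullback (P := @IsOpenImmersion) sq.flip
    (inferInstanceAs (IsOpenImmersion W₀.ι))
  have hr : Set.range m = Set.range i.left := by
    refine Eq.trans ?_ hpre
    ext z
    constructor
    · rintro ⟨w, rfl⟩
      show pullback.fst B.hom f (m w) ∈ C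
      have e1 : pullback.fst B.hom f (m w) = j.left (pullback.fst W.hom f w) :=
        (Scheme.Hom.comp_apply _ _ _).symm.trans ((congr($(sq.w) w)).trans (Scheme.Hom.comp_apply _ _ _))
      exact e1 ▸ (pullback.fst W.hom f w).2
    · intro hz
      obtain ⟨w, hw, -⟩ := exists_preimage_of_isPullback sq z ⟨_, hz⟩ rfl
      exact ⟨w, hw⟩
  let il : Z.left ⟶ pullback B.hom f := i.left
  have : IsOpenImmersion il := ‹IsOpenImmersion i.left›
  let e : pullback W.hom f ≅ Z.left := IsOpenImmersion.isoOfRangeEq m il hr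
  have he : e.hom ≫ il = m := IsOpenImmersion.isoOfRangeEq_hom_fac m il hr
  refine ⟨W, j, MorphismProperty.Over.isoMk e ?_, MorphismProperty.Over.Hom.ext he⟩
  refine (congrArg (e.hom ≫ ·) (w_left i).symm).trans ?_
  exact (Category.assoc _ _ _).symm.trans ((congrArg (· ≫ ((FEt.restrict f).obj B).hom) he).trans
    (w_left ((FEt.restrict f).map j)))

set_option backward.isDefEq.respectTransparency.types false in
/-- A quotient of a pulled back cover is pulled back, when restriction is fully faithful and
clopens lift. -/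
theorem exists_quotient {f : X ⟶ S} (h : LiftsClopens f) {A : FEt.Cat S} {X' : FEt.Cat X}
    (t : (FEt.restrict f).obj A ⟶ X') [Surjective t.left] :
    ∃ S' : FEt.Cat S, Nonempty ((FEt.restrict f).obj S' ≅ X') := by
  let R := FEt.restrict f
  let RA := R.obj A
  obtain ⟨_, _⟩ := isFinite_left t
  let Z : FEt.Cat X := MorphismProperty.Over.mk ⊤ (pullback.fst t.left t.left ≫ RA.hom)
    (FEt.prop.{u}.comp_mem _ _
      (MorphismProperty.pullback_fst (P := FEt.prop.{u}) _ _ ⟨inferInstance, inferInstance⟩) RA.prop)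
  let p₁ : Z ⟶ RA := MorphismProperty.Over.homMk (pullback.fst t.left t.left) rfl
  let p₂ : Z ⟶ RA := MorphismProperty.Over.homMk (pullback.snd t.left t.left) (by
    show pullback.snd t.left t.left ≫ RA.hom = pullback.fst t.left t.left ≫ RA.hom
    rw [← w_left t, pullback.condition_assoc])
  have w : p₁ ≫ t = p₂ ≫ t := MorphismProperty.Over.Hom.ext pullback.condition
  obtain ⟨hc⟩ := nonempty_isColimit_kernelPair t p₁ p₂ w (IsPullback.of_hasPullback _ _)
  let A₂ := A ⨯ A
  have : PreservesFiniteLimits R :=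
    inferInstanceAs (PreservesFiniteLimits (MorphismProperty.Over.pullback FEt.prop ⊤ f))
  let i : Z ⟶ R.obj A₂ := prod.lift p₁ p₂ ≫ (PreservesLimitPair.iso R A A).inv
  have : Mono i := by
    refine ⟨fun {T} a b hab => ?_⟩
    have hab' : a ≫ prod.lift p₁ p₂ = b ≫ prod.lift p₁ p₂ := by
      rw [← cancel_mono (PreservesLimitPair.iso R A A).inv]
      simpa [i] using hab
    have h1 : a ≫ p₁ = b ≫ p₁ := by
      rw [← show prod.lift p₁ p₂ ≫ prod.fst = p₁ from prod.lift_fst _ _, ← Category.assoc, hab',
        Category.assoc]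
    have h2 : a ≫ p₂ = b ≫ p₂ := by
      rw [← show prod.lift p₁ p₂ ≫ prod.snd = p₂ from prod.lift_snd _ _, ← Category.assoc, hab',
        Category.assoc]
    exact MorphismProperty.Over.Hom.ext
      (pullback.hom_ext (congrArg (fun k => k.left) h1) (congrArg (fun k => k.left) h2))
  obtain ⟨W, j, e, he⟩ := exists_subobject h i
  let w₁ := j ≫ prod.fst
  let w₂ := j ≫ prod.snd
  have h₁ : R.map w₁ = e.hom ≫ p₁ := by
    rw [R.map_comp, ← he, Category.assoc]
    congr 1
    simp only [i, Category.assoc, PreservesLimitPair.iso_inv_fst]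
    exact prod.lift_fst _ _
  have h₂ : R.map w₂ = e.hom ≫ p₂ := by
    rw [R.map_comp, ← he, Category.assoc]
    congr 1
    simp only [i, Category.assoc, PreservesLimitPair.iso_inv_snd]
    exact prod.lift_snd _ _
  have := preservesFiniteColimits_restrict f
  refine ⟨coequalizer w₁ w₂, ⟨IsColimit.coconePointsIsoOfNatIso
    (isColimitOfHasCoequalizerOfPreservesColimit R w₁ w₂) hc
    (parallelPair.ext e (Iso.refl _) (by simpa using h₁) (by simpa using h₂))⟩⟩

end Groth.Agent.FEt83
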