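import Groth.Agent.FEt83.FieldQuot

/-!
# Constant covers dominating a cover with a geometric section
-/

universe u

open CategoryTheory Limits AlgebraicGeometry

namespace Groth.Agent.FEt83

variable {k : Type u} [Field k] {X : Scheme.{u}} (f : X ⟶ Spec (CommRingCat.of k))
  [CompactSpace X] [QuasiSeparatedSpace X]

set_option backward.isDefEq.respectTransparency.types false in
/-- A geometric section of a cover factors through a map from a constant cover. -/
theorem exists_constant_hom (U : FEt.Cat X) (s : pullback f (toBar k) ⟶ U.left)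
    (hs : s ≫ U.hom = pullback.fst f (toBar k)) :
    ∃ (A : FEt.Cat (Spec (CommRingCat.of k))) (T : (FEt.restrict f).obj A ⟶ U)
      (c : pullback f (toBar k) ⟶ ((FEt.restrict f).obj A).left), c ≫ T.left = s := by
  obtain ⟨L, _, _, _, _, c, t, ht, hct⟩ := exists_separable_section f U s hs
  let gL := Spec.map (CommRingCat.ofHom (algebraMap k L))
  let A : FEt.Cat (Spec (CommRingCat.of k)) :=
    MorphismProperty.Over.mk ⊤ gL (isFinite_etale_fst f L).1
  let σ := pullbackSymmetry gL f
  refine ⟨A, MorphismProperty.Over.homMk (σ.hom ≫ t) ?_, c ≫ σ.inv, ?_⟩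
  · show (σ.hom ≫ t) ≫ U.hom = pullback.snd gL f
    rw [Category.assoc, ht]
    exact pullbackSymmetry_hom_comp_fst gL f
  · exact (Category.assoc _ _ _).trans ((congrArg (c ≫ ·) (σ.inv_hom_id_assoc t)).trans hct)

end Groth.Agent.FEt83
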