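import Mathlib.RingTheory.Ideal.Height
import Mathlib.RingTheory.KrullDimension.Field
import Groth.Agent.FEt83.DiscrPurity

/-!
# Finite flat algebras over noetherian rings which are étale in low codimension
-/

universe u

open TensorProduct

namespace Groth.Agent.FEt83

variable {A B : Type u} [CommRing A] [CommRing B] [Algebra A B]

/-- The base change of an étale fibre to any field over the residue field is étale. -/
theorem etale_baseChange_of_fiber (p : Ideal A) [p.IsPrime] [Algebra.Etale p.ResidueField (p.Fiber B)]
    (L : Type u) [Field L] [Algebra A L] (h : RingHom.ker (algebraMap A L) = p) :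
    Algebra.Etale L (L ⊗[A] B) := by
  let l : p.ResidueField →+* L := Ideal.ResidueField.lift p (algebraMap A L) h.ge
    fun a ha => isUnit_iff_ne_zero.mpr fun h0 => ha (h.le h0)
  let _ := l.toAlgebra
  have : IsScalarTower A p.ResidueField L :=
    .of_algebraMap_eq fun a => (Ideal.ResidueField.lift_algebraMap _ _ _ _ a).symm
  exact Algebra.Etale.of_equiv
    (Algebra.TensorProduct.cancelBaseChange A p.ResidueField L L B)

/-- A finite flat algebra is étale if all its fibres are. -/
theorem etale_of_fibers [IsNoetherianRing A] [Module.Finite A B] [Module.Flat A B]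
    (h : ∀ (p : Ideal A) [p.IsPrime], Algebra.Etale p.ResidueField (p.Fiber B)) :
    Algebra.Etale A B := by
  have : Module.FinitePresentation A B := Module.finitePresentation_of_finite A B
  have : Algebra.FinitePresentation A B := inferInstance
  have : Algebra.FormallyUnramified A B := by
    refine ⟨(Module.support_eq_empty_iff (R := A)).mp (Set.eq_empty_iff_forall_notMem.mpr fun p hp ↦ ?_)⟩
    have : Module.Finite A Ω[B⁄A] := .trans B _
    rw [Module.mem_support_iff_nontrivial_residueField_tensorProduct] at hp
    let K := p.asIdeal.ResidueField
    have : Algebra.Etale K (p.asIdeal.Fiber B) := h p.asIdeal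
    let := Algebra.TensorProduct.rightAlgebra (R := A) (A := K) (B := B)
    exact not_subsingleton (K ⊗[A] Ω[B⁄A])
      (KaehlerDifferential.tensorKaehlerEquivBase A K B (K ⊗[A] B)).subsingleton
  exact Algebra.Etale.of_formallyUnramified_of_flat

/-- If the fibres at all proper generizations of a point of codimension at least two are étale, so
is the fibre at the point. -/
theorem etale_fiber_of_generizations [IsNoetherianRing A] [Module.Finite A B] [Module.Flat A B]
    (p : Ideal A) [p.IsPrime] (hdim : (2 : WithBot ℕ∞) ≤ ringKrullDim (Localization.AtPrime p))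
    (h : ∀ (p' : Ideal A) [p'.IsPrime], p' < p → Algebra.Etale p'.ResidueField (p'.Fiber B)) :
    Algebra.Etale p.ResidueField (p.Fiber B) := by
  classical
  let R := Localization.AtPrime p
  let C := R ⊗[A] B
  have : Module.Free R C := Module.free_of_flat_of_isLocalRing
  let b := Module.Free.chooseBasis R C
  have hC : Algebra.Etale R C := by
    rw [Unr55.etale_iff_bijective_traceForm, Unr55.bijective_traceForm_iff_isUnit_det b]
    by_contra hd
    obtain ⟨P, hP, -⟩ := Ideal.exists_minimalPrimes_le
      (show Ideal.span {(Algebra.traceMatrix R b).det} ≤ IsLocalRing.maximalIdeal R from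
        (Ideal.span_singleton_le_iff_mem _).mpr hd)
    have := hP.1.1
    have h1 := Ideal.height_le_one_of_isPrincipal_of_mem_minimalPrimes
      (Ideal.span {(Algebra.traceMatrix R b).det}) P hP
    have hne : P ≠ IsLocalRing.maximalIdeal R := fun e => by
      rw [← IsLocalRing.maximalIdeal_height_eq_ringKrullDim, ← e] at hdim
      exact absurd ((WithBot.coe_le_coe.mp hdim : (2 : ℕ∞) ≤ P.height).trans h1) (by decide)
    let p' := P.comap (algebraMap A R)
    have hlt : p' < p := by
      have hle : p' ≤ p := by
        intro a ha
        by_contra hap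
        exact hP.1.1.ne_top
          (Ideal.eq_top_of_isUnit_mem _ ha (IsLocalization.map_units R (⟨a, hap⟩ : p.primeCompl)))
      refine lt_of_le_of_ne hle fun e => hne ?_
      rw [← IsLocalization.map_under p.primeCompl R P, ← IsLocalization.map_under p.primeCompl R
        (IsLocalRing.maximalIdeal R)]
      exact congrArg _ (e.trans (IsLocalization.AtPrime.under_maximalIdeal R p).symm)
    have := h p' hlt
    have : Algebra.Etale P.ResidueField (P.ResidueField ⊗[A] B) :=
      etale_baseChange_of_fiber p' P.ResidueField (by
        rw [IsScalarTower.algebraMap_eq A R P.ResidueField, ← RingHom.comap_ker,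
          Ideal.ker_algebraMap_residueField])
    have : Algebra.Etale P.ResidueField (P.Fiber C) := Algebra.Etale.of_equiv
      (Algebra.TensorProduct.cancelBaseChange A R P.ResidueField P.ResidueField B).symm
    have hb := (Unr55.bijective_traceForm_iff_etale_field P.ResidueField (P.Fiber C)).mpr this
    rw [Unr55.bijective_traceForm_iff_isUnit_det (b.baseChange P.ResidueField),
      Unr55.traceMatrix_baseChange, ← RingHom.mapMatrix_apply, ← RingHom.map_det] at hb
    exact hb.ne_zero (Ideal.algebraMap_residueField_eq_zero.mpr
      (hP.1.2 (Ideal.mem_span_singleton_self _)))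
  exact Algebra.Etale.of_equiv
    (Algebra.TensorProduct.cancelBaseChange A R p.ResidueField p.ResidueField B)

/-- A finite flat algebra étale over all points of codimension at most one is étale. -/
theorem etale_of_flat_of_codim_one [IsNoetherianRing A] [Module.Finite A B] [Module.Flat A B]
    (h : ∀ (p : Ideal A) [p.IsPrime], (2 : WithBot ℕ∞) ≤ ringKrullDim (Localization.AtPrime p) ∨
      Algebra.Etale p.ResidueField (p.Fiber B)) :
    Algebra.Etale A B := by
  refine etale_of_fibers fun p hp => ?_
  suffices ∀ q : PrimeSpectrum A, Algebra.Etale q.asIdeal.ResidueField (q.asIdeal.Fiber B) from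
    this ⟨p, hp⟩
  intro q
  induction hn : q.asIdeal.height using WellFoundedLT.induction generalizing q with
  | _ n ih =>
    rcases h q.asIdeal with hd | he
    · exact etale_fiber_of_generizations q.asIdeal hd fun p' hp' hlt =>
        ih _ (hn ▸ Ideal.height_strict_mono_of_isPrime_of_isPrime hlt) ⟨p', hp'⟩ rfl
    · exact he

end Groth.Agent.FEt83
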