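import Groth.Agent.FEt83.LimFET
import Groth.Agent.FEt83.UHLift
import Groth.Agent.S9218

/-!
# Isomorphisms of finite étale covers of a limit come from a stage
-/

universe u

open CategoryTheory Limits AlgebraicGeometry

namespace Groth.Agent.FEt83

variable {I : Type u} [SmallCategory I] [IsCofiltered I] (D : I ⥤ Scheme.{u}) (c : Cone D)
  (hc : IsLimit c) [∀ (i j : I) (f : i ⟶ j), IsAffineHom (D.map f)] [∀ i, CompactSpace (D.obj i)]
  [∀ i, QuasiSeparatedSpace (D.obj i)]

omit [IsCofiltered I] [∀ (i j : I) (f : i ⟶ j), IsAffineHom (D.map f)] in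
theorem compactSpace_left (i : I) (V : FEt.Cat (D.obj i)) : CompactSpace ↥V.left :=
  have : IsFinite V.hom := V.prop.1
  @QuasiCompact.compactSpace_of_compactSpace V.left (D.obj i) V.hom inferInstance inferInstance

omit [IsCofiltered I] [∀ (i j : I) (f : i ⟶ j), IsAffineHom (D.map f)] in
theorem quasiSeparatedSpace_left (i : I) (V : FEt.Cat (D.obj i)) : QuasiSeparatedSpace ↥V.left :=
  have : IsFinite V.hom := V.prop.1
  @quasiSeparatedSpace_of_quasiSeparated V.left (D.obj i) V.hom inferInstance inferInstance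

omit [IsCofiltered I] [∀ (i j : I) (f : i ⟶ j), IsAffineHom (D.map f)] [∀ i, CompactSpace (D.obj i)]
  [∀ i, QuasiSeparatedSpace (D.obj i)] in
/-- A cover of the limit which is the base change from `i` is the base change from later stages. -/
theorem exists_lift_stage {i j : I} (a : j ⟶ i) (V : FEt.Cat (D.obj i)) {L : Scheme.{u}}
    (q : L ⟶ V.left) (p : L ⟶ c.pt) (h : IsPullback q p V.hom (c.π.app i)) :
    ∃ s : L ⟶ ((FEt.restrict (D.map a)).obj V).left,
      s ≫ pullback.fst V.hom (D.map a) = q ∧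
        IsPullback s p ((FEt.restrict (D.map a)).obj V).hom (c.π.app j) := by
  have hw : c.π.app i = c.π.app j ≫ D.map a := (c.w a).symm
  let s : L ⟶ pullback V.hom (D.map a) :=
    pullback.lift q (p ≫ c.π.app j) (h.w.trans (by rw [hw, Category.assoc]))
  refine ⟨s, pullback.lift_fst _ _ _, IsPullback.of_right ?_ (pullback.lift_snd _ _ _)
    (IsPullback.of_hasPullback V.hom (D.map a))⟩
  rw [← hw]
  exact (congrArg (fun r => IsPullback r p V.hom (c.π.app i)) (pullback.lift_fst q (p ≫ c.π.app j) _)).mpr h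

include hc

/-- Morphisms of covers of the limit come from a stage. -/
theorem exists_stage_hom {i : I} (V W : FEt.Cat (D.obj i)) {LV LW : Scheme.{u}}
    (qV : LV ⟶ V.left) (pV : LV ⟶ c.pt) (hV : IsPullback qV pV V.hom (c.π.app i))
    (qW : LW ⟶ W.left) (pW : LW ⟶ c.pt) (hW : IsPullback qW pW W.hom (c.π.app i))
    (f : LV ⟶ LW) (hf : f ≫ pW = pV) :
    ∃ (j : I) (a : j ⟶ i) (g : (FEt.restrict (D.map a)).obj V ⟶ (FEt.restrict (D.map a)).obj W)
      (sV : LV ⟶ ((FEt.restrict (D.map a)).obj V).left)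
      (sW : LW ⟶ ((FEt.restrict (D.map a)).obj W).left),
      sV ≫ pullback.fst V.hom (D.map a) = qV ∧ sW ≫ pullback.fst W.hom (D.map a) = qW ∧
      IsPullback sV pV ((FEt.restrict (D.map a)).obj V).hom (c.π.app j) ∧
      IsPullback sW pW ((FEt.restrict (D.map a)).obj W).hom (c.π.app j) ∧
      sV ≫ g.left = f ≫ sW := by
  have := compactSpace_left D i V; have := quasiSeparatedSpace_left D i V
  have := compactSpace_left D i W; have := quasiSeparatedSpace_left D i W
  have : Etale V.hom := V.prop.2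
  have : Etale W.hom := W.prop.2
  obtain ⟨j, a, fj, sX, sY, h1, h2, h3, h4, h5, h6⟩ :=
    @S9218.result I _ _ D c hc _ i V.left W.left V.hom W.hom ‹_› ‹_› inferInstance ‹_› ‹_›
      inferInstance LV LW qV pV hV qW pW hW f hf
  obtain ⟨sV, hsV, hV'⟩ := exists_lift_stage D c a V qV pV hV
  obtain ⟨sW, hsW, hW'⟩ := exists_lift_stage D c a W qW pW hW
  obtain rfl : sX = sV := pullback.hom_ext (h2.trans hsV.symm) (h3.trans hV'.w.symm)
  obtain rfl : sY = sW := pullback.hom_ext (h4.trans hsW.symm) (h5.trans hW'.w.symm)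
  exact ⟨j, a, MorphismProperty.Over.homMk fj h1, sX, sY, h2, h4, hV', hW', h6⟩

/-- Endomorphisms of a cover of a stage which are the identity on the limit are the identity later. -/
theorem exists_stage_eq_id {i : I} (V : FEt.Cat (D.obj i)) {L : Scheme.{u}} (q : L ⟶ V.left)
    (p : L ⟶ c.pt) (hV : IsPullback q p V.hom (c.π.app i)) (g : V ⟶ V) (h : q ≫ g.left = q) :
    ∃ (j : I) (a : j ⟶ i), (FEt.restrict (D.map a)).map g = 𝟙 _ := by
  have := compactSpace_left D i V; have := quasiSeparatedSpace_left D i V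
  have : Etale V.hom := V.prop.2
  obtain ⟨j, a, ha⟩ := @S9219.result I _ _ D c hc _ i V.left V.left V.hom V.hom ‹_› ‹_› inferInstance
    ‹_› ‹_› inferInstance L q p hV g.left (𝟙 _) (w_left g) (Category.id_comp _)
    (h.trans (Category.comp_id _).symm)
  refine ⟨j, a, MorphismProperty.Over.Hom.ext (pullback.hom_ext ?_ ?_)⟩
  · exact (pullback.lift_fst _ _ _).trans
      (ha.trans ((Category.comp_id _).trans (Category.id_comp _).symm))
  · exact (pullback.lift_snd _ _ _).trans (Category.id_comp _).symm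

/-- Isomorphisms of covers of the limit come from a stage. -/
theorem exists_stage_iso_iso {i : I} (V W : FEt.Cat (D.obj i))
    (e : (FEt.restrict (c.π.app i)).obj V ≅ (FEt.restrict (c.π.app i)).obj W) :
    ∃ (j : I) (a : j ⟶ i),
      Nonempty ((FEt.restrict (D.map a)).obj V ≅ (FEt.restrict (D.map a)).obj W) := by
  obtain ⟨j, a, g, sV, sW, -, -, hV, hW, hg⟩ := exists_stage_hom D c hc V W _ _
    (IsPullback.of_hasPullback V.hom (c.π.app i)) _ _ (IsPullback.of_hasPullback W.hom (c.π.app i))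
    e.hom.left (w_left e.hom)
  obtain ⟨k, b, h, tW, tV, htW, htV, hW', hV', hh⟩ := exists_stage_hom D c hc _ _ _ _ hW _ _ hV
    e.inv.left (w_left e.inv)
  let g' := (FEt.restrict (D.map b)).map g
  have hg' : tV ≫ g'.left = e.hom.left ≫ tW := by
    refine pullback.hom_ext ?_ ?_
    · refine (Category.assoc _ _ _).trans ?_
      refine (congrArg (tV ≫ ·) (pullback.lift_fst _ _ _)).trans ?_
      refine (Category.assoc _ _ _).symm.trans ?_
      exact (congrArg (· ≫ g.left) htV).trans (hg.trans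
        ((congrArg (e.hom.left ≫ ·) htW.symm).trans (Category.assoc _ _ _).symm))
    · refine (Category.assoc _ _ _).trans ?_
      refine (congrArg (tV ≫ ·) (w_left g')).trans ?_
      refine hV'.w.trans (Eq.trans ?_ (Category.assoc _ _ _).symm)
      exact (congrArg (· ≫ c.π.app k) (w_left e.hom).symm).trans
        ((Category.assoc _ _ _).trans (congrArg (e.hom.left ≫ ·) hW'.w.symm))
  have e1 : e.hom.left ≫ e.inv.left = 𝟙 _ := congrArg (fun q => q.left) e.hom_inv_id
  have e2 : e.inv.left ≫ e.hom.left = 𝟙 _ := congrArg (fun q => q.left) e.inv_hom_id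
  have h1 : tV ≫ (g' ≫ h).left = tV := by
    refine (Category.assoc _ _ _).symm.trans ?_
    refine (congrArg (· ≫ h.left) hg').trans ((Category.assoc _ _ _).trans ?_)
    refine (congrArg (e.hom.left ≫ ·) hh).trans ((Category.assoc _ _ _).symm.trans ?_)
    exact (congrArg (· ≫ tV) e1).trans (Category.id_comp _)
  have h2 : tW ≫ (h ≫ g').left = tW := by
    refine (Category.assoc _ _ _).symm.trans ?_
    refine (congrArg (· ≫ g'.left) hh).trans ((Category.assoc _ _ _).trans ?_)
    refine (congrArg (e.inv.left ≫ ·) hg').trans ((Category.assoc _ _ _).symm.trans ?_)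
    exact (congrArg (· ≫ tW) e2).trans (Category.id_comp _)
  obtain ⟨l, d, hd⟩ := exists_stage_eq_id D c hc _ _ _ hV' (g' ≫ h) h1
  obtain ⟨l', d', hd'⟩ := exists_stage_eq_id D c hc _ _ _ hW' (h ≫ g') h2
  obtain ⟨m, u, v, huv⟩ := IsCofiltered.cospan d d'
  have hu : D.map (u ≫ d) = D.map u ≫ D.map d := D.map_comp _ _
  have hv : D.map (u ≫ d) = D.map v ≫ D.map d' := (congrArg D.map huv).trans (D.map_comp _ _)
  have key : ∀ {l : I} (d : l ⟶ k) (u : m ⟶ l) (X : FEt.Cat (D.obj k)) (r : X ⟶ X)
      (_ : (FEt.restrict (D.map d)).map r = 𝟙 _) (w : m ⟶ k) (_ : D.map w = D.map u ≫ D.map d),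
      (FEt.restrict (D.map w)).map r = 𝟙 _ := by
    intro l d u X r hr w hw
    rw [hw]
    apply (Iso.cancel_iso_hom_right _ _ ((restrictCompIso (D.map u) (D.map d)).app X)).mp
    refine ((restrictCompIso (D.map u) (D.map d)).hom.naturality r).trans ?_
    show _ ≫ (FEt.restrict (D.map u)).map ((FEt.restrict (D.map d)).map r) = _
    rw [hr, CategoryTheory.Functor.map_id, Category.comp_id]
    exact (Category.id_comp _).symm
  let G : (FEt.restrict (D.map (u ≫ d))).obj ((FEt.restrict (D.map b)).obj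
      ((FEt.restrict (D.map a)).obj V)) ≅ (FEt.restrict (D.map (u ≫ d))).obj
        ((FEt.restrict (D.map b)).obj ((FEt.restrict (D.map a)).obj W)) :=
    { hom := (FEt.restrict (D.map (u ≫ d))).map g'
      inv := (FEt.restrict (D.map (u ≫ d))).map h
      hom_inv_id := by rw [← Functor.map_comp]; exact key d u _ _ hd _ hu
      inv_hom_id := by rw [← Functor.map_comp]; exact key d' v _ _ hd' _ hv }
  refine ⟨m, ((u ≫ d) ≫ b) ≫ a, ⟨?_⟩⟩
  rw [D.map_comp, D.map_comp]
  exact (restrictCompIso _ _).app V ≪≫ (restrictCompIso _ _).app _ ≪≫ G ≪≫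
    ((restrictCompIso _ _).app _).symm ≪≫ ((restrictCompIso _ _).app W).symm

end Groth.Agent.FEt83
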