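import Groth.Agent.FEt83.ClopensOfFF
import Groth.Agent.FEt83.FieldQuot
import Groth.Agent.FEt83.FieldSplit
import Groth.Agent.FEt83.FieldCovers
import Groth.Agent.FEt83.UHLift
import Groth.Agent.FEt83.PurityExtend
import Groth.Agent.Stein58.HenselComponents
import Groth.Agent.S0239

/-!
# Restriction of covers to the closed fibre of a proper scheme over a complete base
-/

universe u

open CategoryTheory CategoryTheory.Limits AlgebraicGeometry TopologicalSpace

namespace Groth.Agent.FEt83

set_option backward.isDefEq.respectTransparency.types false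

/-- A map inducing bijections on connected components of covers has fully faithful restriction. -/
theorem ff_of_components {X' X : Scheme.{u}} (i : X' ⟶ X) [IsLocallyNoetherian X] [CompactSpace X]
    (h : ∀ Y : FEt.Cat X, Function.Bijective
      (pullback.fst Y.hom i).continuous.connectedComponentsMap) :
    (FEt.restrict i).Full ∧ (FEt.restrict i).Faithful := by
  have hpre : ∀ (Y : FEt.Cat X) (C : Set Y.left), IsClopen C →
      ∀ y, y ∈ C ↔ (y : ConnectedComponents Y.left) ∈ ConnectedComponents.mk '' C := fun Y C hC y => by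
    refine ⟨fun hy => ⟨y, hy, rfl⟩, ?_⟩
    rintro ⟨y', hy', e⟩
    exact hC.connectedComponent_subset hy' (ConnectedComponents.coe_eq_coe'.mp e.symm)
  have hm : MeetsClopens i := by
    intro Y C hC hne
    obtain ⟨y, hy⟩ := hne
    obtain ⟨z, hz⟩ := (h Y).2 (y : ConnectedComponents Y.left)
    obtain ⟨z, rfl⟩ := ConnectedComponents.surjective_coe z
    exact ⟨z, (hpre Y C hC _).mpr ⟨y, hy, hz.symm⟩⟩
  have hl : LiftsClopens i := by
    intro Y C₀ hC₀
    have : IsFinite Y.hom := Y.prop.1
    have : IsLocallyNoetherian ((Functor.fromPUnit X).obj Y.right) := ‹IsLocallyNoetherian X›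
    have hN : IsLocallyNoetherian ((𝟭 Scheme).obj Y.left) := LocallyOfFiniteType.isLocallyNoetherian Y.hom
    have : IsLocallyNoetherian Y.left := hN
    have : CompactSpace Y.left := @QuasiCompact.compactSpace_of_compactSpace Y.left X Y.hom inferInstance ‹_›
    have : IsNoetherian Y.left := { }
    have := Stein58.finite_connectedComponents Y.left
    let φ := (pullback.fst Y.hom i).continuous.connectedComponentsMap
    refine ⟨ConnectedComponents.mk ⁻¹' (φ '' (ConnectedComponents.mk '' C₀)),
      (isClopen_discrete _).preimage ConnectedComponents.continuous_coe, Set.ext fun z => ?_⟩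
    show φ (ConnectedComponents.mk z) ∈ φ '' (ConnectedComponents.mk '' C₀) ↔ z ∈ C₀
    rw [(h Y).1.mem_set_image]
    refine ⟨?_, fun hz => ⟨z, hz, rfl⟩⟩
    rintro ⟨z', hz', e⟩
    exact hC₀.connectedComponent_subset hz' (ConnectedComponents.coe_eq_coe'.mp e.symm)
  exact ⟨full_of_lifts hm hl, faithful_of_meets hm⟩

/-- The covers of a proper scheme over a complete base inject fully faithfully in those of the closed
fibre. -/
theorem ff_closedFibre {A : Type u} [CommRing A] [IsNoetherianRing A] (I : Ideal A) [IsAdicComplete I A]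
    {X : Scheme.{u}} (f : X ⟶ Spec (CommRingCat.of A)) [IsProper f] :
    (FEt.restrict (pullback.fst f (Spec.map (CommRingCat.ofHom (Ideal.Quotient.mk I))))).Full ∧
    (FEt.restrict (pullback.fst f (Spec.map (CommRingCat.ofHom (Ideal.Quotient.mk I))))).Faithful := by
  have : IsLocallyNoetherian X := LocallyOfFiniteType.isLocallyNoetherian f
  have : CompactSpace X := QuasiCompact.compactSpace_of_compactSpace f
  refine ff_of_components _ fun Y => ?_
  let g₀ := Spec.map (CommRingCat.ofHom (Ideal.Quotient.mk I))
  have : IsFinite Y.hom := Y.prop.1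
  have : IsProper (Y.hom ≫ f) := MorphismProperty.comp_mem (W := @IsProper) _ _ inferInstance inferInstance
  let e := pullbackRightPullbackFstIso f g₀ Y.hom
  have he : e.hom ≫ pullback.fst (Y.hom ≫ f) g₀ = pullback.fst Y.hom (pullback.fst f g₀) :=
    pullbackRightPullbackFstIso_hom_fst f g₀ Y.hom
  obtain ⟨hi, hs⟩ := Stein58.bijective_connectedComponentsMap I (Y.hom ≫ f)
  refine ⟨fun a b hab => ?_, fun y => ?_⟩
  · obtain ⟨a, rfl⟩ := ConnectedComponents.surjective_coe a
    obtain ⟨b, rfl⟩ := ConnectedComponents.surjective_coe b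
    have h1 : ∀ z, pullback.fst (Y.hom ≫ f) g₀ (e.hom z) = pullback.fst Y.hom (pullback.fst f g₀) z :=
      fun z => congr($he z)
    have h2 : (e.hom a : ConnectedComponents ↥(pullback (Y.hom ≫ f) g₀)) = e.hom b := hi (by
      show ConnectedComponents.mk (pullback.fst (Y.hom ≫ f) g₀ (e.hom a)) =
        ConnectedComponents.mk (pullback.fst (Y.hom ≫ f) g₀ (e.hom b))
      rw [h1, h1]
      exact hab)
    have h3 := congrArg e.inv.continuous.connectedComponentsMap h2
    have h4 : ∀ z, e.inv (e.hom z) = z := fun z => congr($(e.hom_inv_id) z)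
    change ConnectedComponents.mk (e.inv (e.hom a)) = ConnectedComponents.mk (e.inv (e.hom b)) at h3
    rwa [h4, h4] at h3
  · obtain ⟨z, hz⟩ := hs y
    obtain ⟨z, rfl⟩ := ConnectedComponents.surjective_coe z
    refine ⟨ConnectedComponents.mk (e.inv z), Eq.trans ?_ hz⟩
    show ConnectedComponents.mk (pullback.fst Y.hom (pullback.fst f g₀) (e.inv z)) =
      ConnectedComponents.mk (pullback.fst (Y.hom ≫ f) g₀ z)
    exact congrArg ConnectedComponents.mk congr($(pullbackRightPullbackFstIso_inv_fst f g₀ Y.hom) z)

/-- Restriction along a closed map with connected fibres over all covers is fully faithful. -/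
theorem ff_of_connected_fibres {X S : Scheme.{u}} (f : X ⟶ S) [UniversallyClosed f]
    (hfibre : ∀ (Y : FEt.Cat S) (z : Y.left),
      _root_.IsConnected (pullback.fst Y.hom f ⁻¹' {z})) :
    (FEt.restrict f).Full ∧ (FEt.restrict f).Faithful := by
  have hm : MeetsClopens f := fun Y C _ ⟨y, hy⟩ => by
    obtain ⟨w, hw⟩ := (hfibre Y y).nonempty
    exact ⟨w, (Set.mem_singleton_iff.mp hw).symm ▸ hy⟩
  have hl : LiftsClopens f := by
    intro Y C₀ hC
    let pr := pullback.fst Y.hom f
    haveI : UniversallyClosed pr := MorphismProperty.pullback_fst _ _ ‹UniversallyClosed f›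
    have hsat : ∀ z, pr ⁻¹' {z} ⊆ C₀ ∨ pr ⁻¹' {z} ⊆ C₀ᶜ := fun z => by
      by_contra hcon
      rw [not_or, Set.not_subset, Set.not_subset] at hcon
      obtain ⟨⟨a, ha, ha'⟩, b, hb, hb'⟩ := hcon
      exact ha' ((hfibre Y z).isPreconnected.subset_isClopen hC ⟨b, hb, not_not.1 hb'⟩ ha)
    refine ⟨pr '' C₀, ⟨pr.isClosedMap _ hC.1, ?_⟩, ?_⟩
    · have : (pr '' C₀)ᶜ = pr '' C₀ᶜ := by
        ext z
        refine ⟨fun h => ?_, ?_⟩
        · obtain ⟨w, hw⟩ := (hfibre Y z).nonempty
          exact ⟨w, fun h' => h ⟨w, h', hw⟩, hw⟩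
        · rintro ⟨w, hw, rfl⟩ ⟨v, hv, hvw⟩
          rcases hsat (pr w) with h' | h'
          · exact hw (h' rfl)
          · exact h' hvw hv
      rw [← isClosed_compl_iff, this]
      exact pr.isClosedMap _ hC.2.isClosed_compl
    · ext w
      refine ⟨?_, fun h => ⟨w, h, rfl⟩⟩
      rintro ⟨v, hv, hvw⟩
      rcases hsat (pr w) with h' | h'
      · exact h' rfl
      · exact absurd hv (h' hvw)
  exact ⟨full_of_lifts hm hl, faithful_of_meets hm⟩

/-- A proper scheme over a field with connected geometric fibre: restriction is fully faithful. -/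
theorem ff_of_field {k : Type u} [Field k] {X : Scheme.{u}} (f : X ⟶ Spec (CommRingCat.of k)) [IsProper f]
    [ConnectedSpace ↥(pullback f (toBar k))] :
    (FEt.restrict f).Full ∧ (FEt.restrict f).Faithful := by
  refine ff_of_connected_fibres f fun Y z => ?_
  have : IsFinite Y.hom := Y.prop.1
  let j := Y.left.fromSpecResidueField z
  have : IsFinite j := by
    have hz : IsClosed ({z} : Set Y.left) := by
      have : T1Space Y.left := Stein58.t1Space_of_isIntegralHom_field Y.hom
      exact isClosed_singleton
    have : IsClosedImmersion j := isClosed_singleton_iff_isClosedImmersion.mp hz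
    infer_instance
  obtain ⟨ν, hν⟩ := exists_lift_point (j ≫ Y.hom) (toBar k) (fun x _ => by
    refine ⟨default, Subsingleton.elim (α := PrimeSpectrum k) _ _⟩)
  let t := ν ≫ j
  have ht : Set.range t = {z} := by
    refine Set.Subset.antisymm ?_ ?_
    · rintro _ ⟨p, rfl⟩
      exact Y.left.fromSpecResidueField_apply z _
    · intro z' hz'
      exact ⟨default, (Y.left.fromSpecResidueField_apply z _).trans (Set.mem_singleton_iff.1 hz').symm⟩
  let pr := pullback.fst Y.hom f
  have h1 : IsPullback (pullback.fst pr t ≫ pullback.snd Y.hom f) (pullback.snd pr t) f (toBar k) := by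
    have := (IsPullback.of_hasPullback pr t).paste_horiz (IsPullback.of_hasPullback Y.hom f).flip
    rwa [show t ≫ Y.hom = toBar k from (Category.assoc _ _ _).trans hν] at this
  haveI : ConnectedSpace ↥(pullback pr t) :=
    h1.isoPullback.inv.homeomorph.surjective.connectedSpace h1.isoPullback.inv.continuous
  have hr : Set.range (pullback.fst pr t) = pr ⁻¹' {z} := by rw [Scheme.Pullback.range_fst, ht]
  rw [← hr]
  exact isConnected_range (pullback.fst pr t).continuous

section Complete

variable {A : Type u} [CommRing A] [IsNoetherianRing A] [IsLocalRing A]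
  [IsAdicComplete (IsLocalRing.maximalIdeal A) A] {X : Scheme.{u}} (f : X ⟶ Spec (CommRingCat.of A)) [IsProper f]

/-- The closed point. -/
noncomputable abbrev toResidue (A : Type u) [CommRing A] [IsLocalRing A] :
    Spec (CommRingCat.of (IsLocalRing.ResidueField A)) ⟶ Spec (CommRingCat.of A) :=
  Spec.map (CommRingCat.ofHom (IsLocalRing.residue A))

theorem connectedSpace_bar (ξ : Spec (CommRingCat.of (AlgebraicClosure (IsLocalRing.ResidueField A))) ⟶ Spec (CommRingCat.of A))
    (hξ : ξ = toBar (IsLocalRing.ResidueField A) ≫ toResidue A) [ConnectedSpace ↥(pullback f ξ)] :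
    ConnectedSpace ↥(pullback (pullback.snd f (toResidue A)) (toBar (IsLocalRing.ResidueField A))) := by
  subst hξ
  let e := pullbackLeftPullbackSndIso f (toResidue A) (toBar (IsLocalRing.ResidueField A))
  exact e.inv.homeomorph.surjective.connectedSpace e.inv.continuous

/-- Pullback from a complete local base is fully faithful for a connected geometric closed fibre. -/
theorem ff_of_complete (ξ : Spec (CommRingCat.of (AlgebraicClosure (IsLocalRing.ResidueField A))) ⟶ Spec (CommRingCat.of A))
    (hξ : ξ = toBar (IsLocalRing.ResidueField A) ≫ toResidue A) [ConnectedSpace ↥(pullback f ξ)] :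
    (FEt.restrict f).Full ∧ (FEt.restrict f).Faithful := by
  let g₀ := toResidue A
  let i := pullback.fst f g₀
  let f₀ := pullback.snd f g₀
  have := connectedSpace_bar f ξ hξ
  have : IsProper f₀ := MorphismProperty.pullback_snd _ _ ‹_›
  obtain ⟨_, _⟩ := ff_of_field f₀
  obtain ⟨_, _⟩ : (FEt.restrict i).Full ∧ (FEt.restrict i).Faithful :=
    ff_closedFibre (IsLocalRing.maximalIdeal A) f
  have : (FEt.restrict g₀).IsEquivalence := S0239.result A (IsLocalRing.maximalIdeal A)
  let e : FEt.restrict g₀ ⋙ FEt.restrict f₀ ≅ FEt.restrict f ⋙ FEt.restrict i :=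
    (restrictCompIso f₀ g₀).symm ≪≫ eqToIso (congrArg FEt.restrict pullback.condition.symm) ≪≫
      restrictCompIso i f
  have : (FEt.restrict f ⋙ FEt.restrict i).Full := Functor.Full.of_iso e
  have : (FEt.restrict f ⋙ FEt.restrict i).Faithful := Functor.Faithful.of_iso e
  exact ⟨Functor.Full.of_comp_faithful (FEt.restrict f) (FEt.restrict i),
    Functor.Faithful.of_comp (FEt.restrict f) (FEt.restrict i)⟩

/-- Connected covers with a section over the geometric closed fibre come from the base. -/
theorem exists_descended_of_section (ξ : Spec (CommRingCat.of (AlgebraicClosure (IsLocalRing.ResidueField A))) ⟶ Spec (CommRingCat.of A))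
    (hξ : ξ = toBar (IsLocalRing.ResidueField A) ≫ toResidue A) [ConnectedSpace ↥(pullback f ξ)]
    (X' : FEt.Cat X) [ConnectedSpace X'.left] (σ : pullback f ξ ⟶ X'.left) (hσ : σ ≫ X'.hom = pullback.fst f ξ) :
    ∃ T : FEt.Cat (Spec (CommRingCat.of A)), Nonempty ((FEt.restrict f).obj T ≅ X') := by
  obtain ⟨hF, hFf⟩ := ff_of_complete f ξ hξ
  subst hξ
  let g₀ := toResidue A
  let i := pullback.fst f g₀
  let f₀ := pullback.snd f g₀
  have : IsProper f₀ := MorphismProperty.pullback_snd _ _ ‹_›
  have : CompactSpace ↥(pullback f g₀) := QuasiCompact.compactSpace_of_compactSpace f₀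
  have : QuasiSeparatedSpace ↥(pullback f g₀) := quasiSeparatedSpace_of_quasiSeparated f₀
  let ek := pullbackLeftPullbackSndIso f g₀ (toBar (IsLocalRing.ResidueField A))
  let U := (FEt.restrict i).obj X'
  let s : pullback f₀ (toBar (IsLocalRing.ResidueField A)) ⟶ U.left :=
    pullback.lift (ek.hom ≫ σ) (pullback.fst f₀ (toBar (IsLocalRing.ResidueField A))) (by
      rw [Category.assoc, hσ]
      exact pullbackLeftPullbackSndIso_hom_fst f g₀ (toBar (IsLocalRing.ResidueField A)))
  obtain ⟨A₀, T₀, c, -⟩ := exists_constant_hom f₀ U s (pullback.lift_snd _ _ _)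
  have : (FEt.restrict g₀).IsEquivalence := S0239.result A (IsLocalRing.maximalIdeal A)
  let AT := (FEt.restrict g₀).objPreimage A₀
  obtain ⟨hi, -⟩ : (FEt.restrict i).Full ∧ (FEt.restrict i).Faithful :=
    ff_closedFibre (IsLocalRing.maximalIdeal A) f
  let ei : (FEt.restrict i).obj ((FEt.restrict f).obj AT) ≅ (FEt.restrict f₀).obj A₀ :=
    restrictSqIso i f f₀ g₀ pullback.condition AT ≪≫
      (FEt.restrict f₀).mapIso ((FEt.restrict g₀).objObjPreimageIso A₀)
  obtain ⟨T, -⟩ := hi.map_surjective (ei.hom ≫ T₀)
  obtain ⟨_, _⟩ := isFinite_left T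
  have : Surjective T.left := ⟨by
    have hne : Nonempty ↥(((FEt.restrict f).obj AT).left) := by
      have : Nonempty ↥(pullback f₀ (toBar (IsLocalRing.ResidueField A))) :=
        ⟨ek.inv (Classical.arbitrary _)⟩
      exact ⟨pullback.fst _ i (ei.inv.left (c (Classical.arbitrary _)))⟩
    have hr : IsClopen (Set.range T.left) := ⟨T.left.isClosedMap.isClosed_range,
      T.left.isOpenMap.isOpen_range⟩
    exact Set.range_eq_univ.mp (@IsClopen.eq_univ X'.left _ ‹ConnectedSpace X'.left›.toPreconnectedSpace _ hr
      (@Set.range_nonempty _ _ hne _))⟩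
  exact exists_quotient (liftsClopens_of_full hF) T

end Complete

end Groth.Agent.FEt83
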