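import Groth.Agent.FEt83.FullFaithful
import Groth.Agent.FEt83.AffineEquiv
import Mathlib.RingTheory.Spectrum.Prime.Topology
import Mathlib.RingTheory.Spectrum.Prime.Noetherian

/-!
# Full faithfulness from connectedness of punctured spectra

If for every finite étale algebra over a Noetherian local ring and every maximal ideal the punctured
local spectrum is connected, then restriction of covers to the punctured spectrum is fully faithful.
-/

universe u

open CategoryTheory Limits AlgebraicGeometry PrimeSpectrum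

namespace Groth.Agent.FEt83

/-- The punctured spectrum of the local ring at a point, inside the whole spectrum. -/
def puncBelow {B : Type u} [CommRing B] (M : PrimeSpectrum B) : Set (PrimeSpectrum B) :=
  {p | p.asIdeal ≤ M.asIdeal ∧ p ≠ M}

theorem mem_closure_singleton_of_le {B : Type u} [CommRing B] {p q : PrimeSpectrum B}
    (h : p.asIdeal ≤ q.asIdeal) : q ∈ closure ({p} : Set (PrimeSpectrum B)) := by
  rw [PrimeSpectrum.closure_singleton, PrimeSpectrum.mem_zeroLocus]
  exact h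

theorem not_isMax_of_mem_puncBelow {B : Type u} [CommRing B] {p M : PrimeSpectrum B}
    (h : p ∈ puncBelow M) : ¬ p.asIdeal.IsMaximal := fun hp =>
  h.2 (PrimeSpectrum.ext (hp.eq_of_le M.2.ne_top h.1))

/-- In a Noetherian spectrum, a maximal point of the closure of a relatively closed set of
non-maximal points lies above a point of the set. -/
theorem exists_le_of_mem_closure {B : Type u} [CommRing B] [IsNoetherianRing B]
    (Z : Set (PrimeSpectrum B)) (hZ : IsClosed Z) (M : PrimeSpectrum B) (_hM : M.asIdeal.IsMaximal)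
    (h : M ∈ closure {p | p ∈ Z ∧ ¬ p.asIdeal.IsMaximal}) :
    ∃ q ∈ Z, ¬ q.asIdeal.IsMaximal ∧ q.asIdeal ≤ M.asIdeal := by
  let T : Set (PrimeSpectrum B) := {p | p ∈ Z ∧ ¬ p.asIdeal.IsMaximal}
  let J := vanishingIdeal T
  let Q : Set (Ideal B) := {q ∈ J.minimalPrimes | ¬ q.IsMaximal}
  have hQ : Q.Finite := (Ideal.finite_minimalPrimes_of_isNoetherianRing B J).subset fun q hq => hq.1
  have hsub : T ⊆ ⋃ q ∈ Q, zeroLocus (q : Set B) := by
    intro p hp
    have hJp : J ≤ p.asIdeal := fun x hx => (mem_vanishingIdeal T x).mp hx p hp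
    obtain ⟨q, hq, hqp⟩ := Ideal.exists_minimalPrimes_le hJp
    exact Set.mem_biUnion (x := q) ⟨hq, fun hm => hp.2 (hm.eq_of_le p.2.ne_top hqp ▸ hm)⟩ hqp
  have hcl : IsClosed (⋃ q ∈ Q, zeroLocus (q : Set B)) :=
    hQ.isClosed_biUnion fun q _ => isClosed_zeroLocus _
  obtain ⟨q, ⟨hq, hqm⟩, hqM⟩ := Set.mem_iUnion₂.mp (closure_minimal hsub hcl h)
  refine ⟨⟨q, hq.1.1⟩, ?_, hqm, hqM⟩
  have : (⟨q, hq.1.1⟩ : PrimeSpectrum B) ∈ closure T := by
    rw [← zeroLocus_vanishingIdeal_eq_closure]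
    exact hq.1.2
  exact closure_minimal (fun p hp => hp.1) hZ this

/-- Clopen subsets of the non-maximal locus extend to clopen subsets of the spectrum. -/
theorem exists_clopen_extension {B : Type u} [CommRing B] [IsNoetherianRing B]
    (hconn : ∀ M : PrimeSpectrum B, M.asIdeal.IsMaximal → _root_.IsConnected (puncBelow M))
    (Z₀ Z₁ : Set (PrimeSpectrum B)) (h₀ : IsClosed Z₀) (h₁ : IsClosed Z₁)
    (hun : ∀ p : PrimeSpectrum B, ¬ p.asIdeal.IsMaximal → p ∈ Z₀ ∨ p ∈ Z₁)
    (hdisj : ∀ p : PrimeSpectrum B, ¬ p.asIdeal.IsMaximal → p ∈ Z₀ → p ∈ Z₁ → False) :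
    ∃ C : Set (PrimeSpectrum B), IsClopen C ∧ ∀ p, ¬ p.asIdeal.IsMaximal → (p ∈ C ↔ p ∈ Z₀) := by
  let T₀ : Set (PrimeSpectrum B) := {p | p ∈ Z₀ ∧ ¬ p.asIdeal.IsMaximal}
  let T₁ : Set (PrimeSpectrum B) := {p | p ∈ Z₁ ∧ ¬ p.asIdeal.IsMaximal}
  have hs₀ : closure T₀ ⊆ Z₀ := closure_minimal (fun p hp => hp.1) h₀
  have hs₁ : closure T₁ ⊆ Z₁ := closure_minimal (fun p hp => hp.1) h₁
  have hcover : ∀ p, p ∈ closure T₀ ∨ p ∈ closure T₁ := by
    intro p
    by_cases hp : p.asIdeal.IsMaximal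
    · obtain ⟨q, hq⟩ := (hconn p hp).nonempty
      have hqp := mem_closure_singleton_of_le hq.1
      rcases hun q (not_isMax_of_mem_puncBelow hq) with h | h
      · exact .inl (closure_mono (Set.singleton_subset_iff.mpr
          (show q ∈ T₀ from ⟨h, not_isMax_of_mem_puncBelow hq⟩)) hqp)
      · exact .inr (closure_mono (Set.singleton_subset_iff.mpr
          (show q ∈ T₁ from ⟨h, not_isMax_of_mem_puncBelow hq⟩)) hqp)
    · exact (hun p hp).imp (fun h => subset_closure ⟨h, hp⟩) fun h => subset_closure ⟨h, hp⟩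
  have hd : ∀ p, p ∈ closure T₀ → p ∈ closure T₁ → False := by
    intro p hp₀ hp₁
    by_cases hp : p.asIdeal.IsMaximal
    · obtain ⟨q₀, hq₀, hn₀, hle₀⟩ := exists_le_of_mem_closure Z₀ h₀ p hp hp₀
      obtain ⟨q₁, hq₁, hn₁, hle₁⟩ := exists_le_of_mem_closure Z₁ h₁ p hp hp₁
      obtain ⟨q, hq, hqz₀, hqz₁⟩ := isPreconnected_closed_iff.mp (hconn p hp).isPreconnected Z₀ Z₁
        h₀ h₁ (fun q hq => hun q (not_isMax_of_mem_puncBelow hq))
        ⟨q₀, ⟨hle₀, fun h => hn₀ (h ▸ hp)⟩, hq₀⟩ ⟨q₁, ⟨hle₁, fun h => hn₁ (h ▸ hp)⟩, hq₁⟩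
      exact hdisj q (not_isMax_of_mem_puncBelow hq) hqz₀ hqz₁
    · exact hdisj p hp (hs₀ hp₀) (hs₁ hp₁)
  refine ⟨closure T₀, ⟨isClosed_closure, ?_⟩, fun p hp => ⟨fun h => hs₀ h, fun h => subset_closure ⟨h, hp⟩⟩⟩
  have : closure T₀ = (closure T₁)ᶜ := by
    ext p
    exact ⟨fun h h' => hd p h h', fun h => (hcover p).resolve_right h⟩
  rw [this]
  exact isClosed_closure.isOpen_compl

variable (A : Type u) [CommRing A] [IsNoetherianRing A] [IsLocalRing A]

/-- Every punctured local spectrum of every finite étale algebra is connected. -/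
def ConnectedPunctures : Prop :=
  ∀ (B : Type u) [CommRing B] [Algebra A B] [Module.Finite A B] [Algebra.Etale A B]
    (M : PrimeSpectrum B), M.asIdeal.IsMaximal → _root_.IsConnected (puncBelow M)

variable {A}

omit [IsNoetherianRing A] in
theorem isMaximal_iff_comap {B : Type u} [CommRing B] [Algebra A B] [Module.Finite A B]
    (p : PrimeSpectrum B) :
    p.asIdeal.IsMaximal ↔ p.comap (algebraMap A B) = IsLocalRing.closedPoint A := by
  have : Algebra.IsIntegral A B := Algebra.IsIntegral.of_finite A B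
  refine ⟨fun h => PrimeSpectrum.ext (IsLocalRing.eq_maximalIdeal ?_), fun h => ?_⟩
  · exact Ideal.isMaximal_comap_of_isIntegral_of_isMaximal (R := A) p.asIdeal
  · refine Ideal.isMaximal_of_isIntegral_of_isMaximal_comap (R := A) p.asIdeal ?_
    have := congrArg PrimeSpectrum.asIdeal h
    rw [PrimeSpectrum.comap_asIdeal] at this
    rw [this]
    exact IsLocalRing.maximalIdeal.isMaximal A

omit [IsNoetherianRing A] [IsLocalRing A] in
set_option backward.isDefEq.respectTransparency.types false in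
theorem exists_algebra_homeo (Y : FEt.Cat (Spec (CommRingCat.of A))) :
    ∃ (B : Type u) (_ : CommRing B) (_ : Algebra A B), Module.Finite A B ∧ Algebra.Etale A B ∧
      ∃ h : PrimeSpectrum B ≃ₜ Y.left, ∀ p, Y.hom (h p) = p.comap (algebraMap A B) := by
  let C := (specFunctor A).objPreimage Y
  let φ := (specFunctor A).objObjPreimageIso Y
  let e : ((specFunctor A).obj C).left ≅ Y.left :=
    ((MorphismProperty.Over.forget _ _ _) ⋙ Over.forget _).mapIso φ
  refine ⟨C.unop.obj, inferInstance, inferInstance, inferInstance, inferInstance,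
    Scheme.homeoOfIso e, fun p => ?_⟩
  exact (Scheme.Hom.comp_apply e.hom Y.hom p).symm.trans
    (congrArg (fun k : Spec (CommRingCat.of C.unop.obj) ⟶ Spec (CommRingCat.of A) => k p)
      (Over.w φ.hom.hom))

set_option backward.isDefEq.respectTransparency.types false in
theorem meetsClopens_punctured (hA : ConnectedPunctures A) :
    MeetsClopens (FEt.puncturedSpec A).ι := by
  intro Y C hC hne
  obtain ⟨B, _, _, _, _, h, hh⟩ := exists_algebra_homeo Y
  obtain ⟨y, hy⟩ := hne
  obtain ⟨p, rfl⟩ := h.surjective y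
  obtain ⟨M, hM, hpM⟩ := Ideal.exists_le_maximal p.asIdeal p.2.ne_top
  let M' : PrimeSpectrum B := ⟨M, hM.isPrime⟩
  have hM' : M' ∈ h ⁻¹' C := (hC.1.preimage h.continuous).stableUnderSpecialization
    ((PrimeSpectrum.le_iff_specializes p M').mp hpM) hy
  obtain ⟨q, hq⟩ := (hA B M' hM).nonempty
  have hqC : q ∈ h ⁻¹' C := (hC.2.preimage h.continuous).stableUnderGeneralization
    ((PrimeSpectrum.le_iff_specializes q M').mp hq.1) hM'
  have hU : h q ∈ Set.range (pullback.fst Y.hom (FEt.puncturedSpec A).ι) := by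
    rw [Scheme.Pullback.range_fst, Scheme.Opens.range_ι]
    show Y.hom (h q) ≠ IsLocalRing.closedPoint A
    rw [hh]
    exact fun e => not_isMax_of_mem_puncBelow hq ((isMaximal_iff_comap q).mpr e)
  obtain ⟨z, hz⟩ := hU
  exact ⟨z, hz ▸ hqC⟩

set_option backward.isDefEq.respectTransparency.types false in
theorem liftsClopens_punctured (hA : ConnectedPunctures A) :
    LiftsClopens (FEt.puncturedSpec A).ι := by
  intro Y C₀ hC₀
  obtain ⟨B, _, _, _, _, h, hh⟩ := exists_algebra_homeo Y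
  have : IsNoetherianRing B := IsNoetherianRing.of_finite A B
  let fY := pullback.fst Y.hom (FEt.puncturedSpec A).ι
  have hfi : IsOpenImmersion fY := MorphismProperty.pullback_fst (P := @IsOpenImmersion) _ _ inferInstance
  have hrg : ∀ p : PrimeSpectrum B, h p ∈ Set.range fY ↔ ¬ p.asIdeal.IsMaximal := by
    intro p
    rw [Scheme.Pullback.range_fst, Scheme.Opens.range_ι, isMaximal_iff_comap (A := A) p]
    show Y.hom (h p) ≠ _ ↔ _
    rw [hh]
    exact Iff.rfl
  obtain ⟨Z₀, hZ₀, hpre₀⟩ := fY.isOpenEmbedding.isInducing.isClosed_iff.mp hC₀.1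
  obtain ⟨Z₁, hZ₁, hpre₁⟩ := fY.isOpenEmbedding.isInducing.isClosed_iff.mp hC₀.2.isClosed_compl
  obtain ⟨C, hC, hCiff⟩ := exists_clopen_extension (hA B) (h ⁻¹' Z₀) (h ⁻¹' Z₁)
    (hZ₀.preimage h.continuous) (hZ₁.preimage h.continuous)
    (fun p hp => by
      obtain ⟨z, hz⟩ := (hrg p).mpr hp
      by_cases hzC : z ∈ C₀
      · exact .inl (show h p ∈ Z₀ from hz ▸ hpre₀.ge hzC)
      · exact .inr (show h p ∈ Z₁ from hz ▸ hpre₁.ge hzC))
    (fun p hp h₀ h₁ => by
      obtain ⟨z, hz⟩ := (hrg p).mpr hp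
      exact hpre₁.le (show fY z ∈ Z₁ from hz.symm ▸ h₁) (hpre₀.le (show fY z ∈ Z₀ from hz.symm ▸ h₀)))
  refine ⟨h '' C, ⟨h.isClosedMap _ hC.1, h.isOpenMap _ hC.2⟩, ?_⟩
  ext z
  obtain ⟨p, hp⟩ := h.surjective (fY z)
  have hp' : ¬ p.asIdeal.IsMaximal := (hrg p).mp ⟨z, hp.symm⟩
  show fY z ∈ h '' C ↔ z ∈ C₀
  rw [← hp, h.injective.mem_set_image, hCiff p hp']
  show h p ∈ Z₀ ↔ _
  rw [hp]
  exact Iff.of_eq (congrArg (z ∈ ·) hpre₀)

/-- Full faithfulness. -/
theorem fullyFaithful_punctured (hA : ConnectedPunctures A) :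
    (FEt.restrict (FEt.puncturedSpec A).ι).Full ∧ (FEt.restrict (FEt.puncturedSpec A).ι).Faithful :=
  ⟨full_of_lifts (meetsClopens_punctured hA) (liftsClopens_punctured hA),
    faithful_of_meets (meetsClopens_punctured hA)⟩

/-- The punctured spectrum is connected. -/
theorem connectedSpace_punctured (hA : ConnectedPunctures A) :
    ConnectedSpace ↥(FEt.puncturedSpec A : Scheme.{u}) := by
  have h := hA A (IsLocalRing.closedPoint A) (IsLocalRing.maximalIdeal.isMaximal A)
  have he : puncBelow (IsLocalRing.closedPoint A) = ((FEt.puncturedSpec A).carrier : Set (PrimeSpectrum A)) := by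
    ext p
    exact ⟨fun hp => hp.2, fun hp => ⟨IsLocalRing.le_maximalIdeal p.2.ne_top, hp⟩⟩
  rw [he] at h
  exact Subtype.connectedSpace h

end Groth.Agent.FEt83
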