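import Mathlib.Algebra.Category.Ring.Constructions
import Mathlib.RingTheory.IsTensorProduct
import Mathlib.RingTheory.Finiteness.Projective

/-!
# Coordinates in the base change of a finite projective algebra
-/

universe u

open CategoryTheory

namespace Groth.Agent.FEt83

variable {R C R' C' : Type u} [CommRing R] [CommRing C] [CommRing R'] [CommRing C'] {n : ℕ}

/-- The linear combination map of a base change. -/
def comb (a : R' →+* C') (σ : C →+* C') (c : Fin n → C) (r : Fin n → R') : C' :=
  ∑ k, a (r k) * σ (c k)

/-- Multiplication by the image of a matrix. -/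
def proj (ρ : R →+* R') (e : Fin n → Fin n → R) (r : Fin n → R') : Fin n → R' :=
  fun j => ∑ k, ρ (e k j) * r k

/-- In a base change of a direct summand of `R ^ n`, the fixed vectors of the projector are the
elements. -/
theorem comb_facts {φ : R →+* C} {ρ : R →+* R'} {σ : C →+* C'} {a : R' →+* C'}
    (H : IsPushout (CommRingCat.ofHom ρ) (CommRingCat.ofHom φ) (CommRingCat.ofHom a)
      (CommRingCat.ofHom σ))
    (c : Fin n → C) (g : C → Fin n → R)
    (hg_add : ∀ x y, g (x + y) = g x + g y) (hg_smul : ∀ r x, g (φ r * x) = r • g x)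
    (hfg : ∀ x, ∑ k, φ (g x k) * c k = x) :
    (∀ r : Fin n → R', proj ρ (fun k => g (c k)) r = r → comb a σ c r = 0 → r = 0) ∧
    (∀ t : C', ∃ r : Fin n → R', proj ρ (fun k => g (c k)) r = r ∧ comb a σ c r = t) := by
  let _ := φ.toAlgebra
  let _ := ρ.toAlgebra
  let _ := σ.toAlgebra
  let _ := a.toAlgebra
  let _ := (a.comp ρ).toAlgebra
  have : IsScalarTower R R' C' := .of_algebraMap_eq fun _ => rfl
  have : IsScalarTower R C C' := .of_algebraMap_eq' (by
    exact congrArg CommRingCat.Hom.hom H.w)
  have h : IsBaseChange R' (IsScalarTower.toAlgHom R C C').toLinearMap :=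
    (CommRingCat.isPushout_iff_isPushout.mp H).out
  let gl : C →ₗ[R] (Fin n → R') :=
    { toFun := fun x j => ρ (g x j)
      map_add' := fun x y => funext fun j => by simp [hg_add]
      map_smul' := fun r x => funext fun j => by
        rw [Algebra.smul_def, RingHom.algebraMap_toAlgebra, hg_smul, Pi.smul_apply, smul_eq_mul,
          map_mul, RingHom.id_apply, Pi.smul_apply, Algebra.smul_def, RingHom.algebraMap_toAlgebra] }
  let g' : C' →ₗ[R'] (Fin n → R') := h.lift gl
  have hg' : ∀ x : C, g' (σ x) = fun j => ρ (g x j) := fun x => h.lift_eq gl x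
  have hEg : ∀ r : Fin n → R', g' (comb a σ c r) = proj ρ (fun k => g (c k)) r := by
    intro r
    have : comb a σ c r = ∑ k, r k • σ (c k) :=
      Finset.sum_congr rfl fun k _ => (Algebra.smul_def (r k) (σ (c k))).symm
    rw [this, map_sum]
    funext j
    simp only [map_smul, hg', Finset.sum_apply, Pi.smul_apply, smul_eq_mul, proj]
    exact Finset.sum_congr rfl fun k _ => mul_comm _ _
  have hMg : ∀ t : C', comb a σ c (g' t) = t := by
    intro t
    induction t using h.inductionOn with
    | zero => simp [comb]
    | tmul x =>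
      show comb a σ c (g' (σ x)) = σ x
      rw [hg', ← congrArg σ (hfg x), map_sum]
      refine Finset.sum_congr rfl fun k _ => ?_
      rw [map_mul]
      exact congrArg (· * σ (c k)) (RingHom.congr_fun (congrArg CommRingCat.Hom.hom H.w) (g x k))
    | smul s y hy =>
      rw [map_smul, Algebra.smul_def s y, RingHom.algebraMap_toAlgebra]
      conv_rhs => rw [← hy]
      simp only [comb, Finset.mul_sum, Pi.smul_apply, smul_eq_mul, map_mul, mul_assoc]
    | add y z hy hz =>
      rw [map_add]
      conv_rhs => rw [← hy, ← hz]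
      simp only [comb, ← Finset.sum_add_distrib, Pi.add_apply, map_add, add_mul]
  refine ⟨fun r hr h0 => ?_, fun t => ⟨g' t, ?_, hMg t⟩⟩
  · rw [← hr, ← hEg, h0, map_zero]
  · rw [← hEg, hMg]

end Groth.Agent.FEt83
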