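import Mathlib.RingTheory.Flat.EquationalCriterion
import Groth.Agent.FEt83.PushRing
import Groth.Agent.FEt83.Colim
import Groth.Agent.FEt83.ClopenSections

/-!
# Functions on base changes of finite étale covers along morphisms with `O_S = f_* O_X`
-/

universe u

open CategoryTheory Limits AlgebraicGeometry TopologicalSpace Opposite

namespace Groth.Agent.FEt83

variable {X S T P : Scheme.{u}}

theorem isPushout_app_comm {f : X ⟶ S} {h : T ⟶ S} {fst : P ⟶ T} {p : P ⟶ X}
    (H : IsPullback fst p h f) (V : S.Opens) (O : X.Opens) (hO : O ≤ f ⁻¹ᵁ V)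
    (e : p ⁻¹ᵁ O ≤ fst ⁻¹ᵁ h ⁻¹ᵁ V) :
    h.app V ≫ fst.appLE _ _ e = f.appLE V O hO ≫ p.app O := by
  rw [Scheme.Hom.app_eq_appLE, Scheme.Hom.appLE_comp_appLE, p.app_eq_appLE,
    Scheme.Hom.appLE_comp_appLE]
  exact congr_appLE H.w _ _

theorem comb_map {A B D D' C : Type u} [CommRing A] [CommRing B] [CommRing D] [CommRing D']
    [CommRing C] {n : ℕ} (res : A →+* B) (res' : D →+* D') (a : A →+* D) (a' : B →+* D')
    (σ : C →+* D) (σ' : C →+* D') (h : res'.comp a = a'.comp res) (h' : res'.comp σ = σ')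
    (c : Fin n → C) (r : Fin n → A) :
    res' (comb a σ c r) = comb a' σ' c (res ∘ r) := by
  rw [comb, comb, map_sum]
  refine Finset.sum_congr rfl fun k _ => ?_
  rw [map_mul]
  exact congrArg₂ (· * ·) (RingHom.congr_fun h (r k)) (RingHom.congr_fun h' (c k))

theorem proj_map {R A B : Type u} [CommRing R] [CommRing A] [CommRing B] {n : ℕ} (res : A →+* B)
    (ρ : R →+* A) (ρ' : R →+* B) (h : res.comp ρ = ρ') (e : Fin n → Fin n → R) (r : Fin n → A) :
    res ∘ proj ρ e r = proj ρ' e (res ∘ r) := by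
  funext j
  rw [Function.comp_apply, proj, map_sum]
  refine Finset.sum_congr rfl fun k _ => ?_
  rw [map_mul]
  exact congrArg (· * res (r k)) (RingHom.congr_fun h _)

set_option backward.isDefEq.respectTransparency.types false in
theorem eq_of_affine_cover (Y : Scheme.{u}) (O : Y.Opens) {n : ℕ} (r r' : Fin n → Γ(Y, O))
    (h : ∀ U : Y.affineOpens, ∀ hU : U.1 ≤ O,
      (Y.presheaf.map (homOfLE hU).op).hom ∘ r = (Y.presheaf.map (homOfLE hU).op).hom ∘ r') :
    r = r' := by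
  funext j
  refine Y.sheaf.eq_of_locally_eq' (fun U : {U : Y.affineOpens // U.1 ≤ O} => U.1.1) O
    (fun U => homOfLE U.2) ?_ _ _ fun U => congrFun (h U.1 U.2) j
  intro x hx
  obtain ⟨_, ⟨U, hU, rfl⟩, hxU, hUO⟩ := Y.isBasis_affineOpens.exists_subset_of_mem_open hx O.2
  exact Opens.mem_iSup.mpr ⟨⟨⟨U, hU⟩, hUO⟩, hxU⟩

set_option backward.isDefEq.respectTransparency.types false in
theorem appLE_affine_bijective {f : X ⟶ S} {h : T ⟶ S} [IsAffineHom h] {fst : P ⟶ T} {p : P ⟶ X}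
    (H : IsPullback fst p h f) (hf : ∀ U : S.Opens, Function.Bijective (f.app U))
    (hh : FEt.prop h) (V : S.Opens) (hV : IsAffineOpen V)
    (e : p ⁻¹ᵁ f ⁻¹ᵁ V ≤ fst ⁻¹ᵁ h ⁻¹ᵁ V) :
    Function.Bijective (fst.appLE (h ⁻¹ᵁ V) (p ⁻¹ᵁ f ⁻¹ᵁ V) e) := by
  classical
  let R := Γ(S, V)
  let C := Γ(T, h ⁻¹ᵁ V)
  let φ : R →+* C := (h.app V).hom
  let _ : Algebra R C := φ.toAlgebra
  obtain ⟨hfin, het⟩ := finite_etale_app hh hV
  have : Module.Finite R C := RingHom.finite_algebraMap.mp hfin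
  have : Algebra.Etale R C := RingHom.etale_algebraMap.mp het
  have : Module.FinitePresentation R C :=
    Module.FinitePresentation.of_finite_of_finitePresentation R C
  have : Module.Projective R C := Module.Flat.projective_of_finitePresentation
  obtain ⟨n, F, G, -, -, hFG⟩ := Module.Finite.exists_comp_eq_id_of_projective R C
  let c : Fin n → C := fun k => F (Pi.single k 1)
  have hFGx : ∀ x : C, ∑ k, φ (G x k) * c k = x := fun x => by
    conv_rhs => rw [← (show F (G x) = x from LinearMap.congr_fun hFG x)]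
    rw [LinearMap.pi_apply_eq_sum_univ F (G x)]
    refine Finset.sum_congr rfl fun k _ => ?_
    rw [Algebra.smul_def, RingHom.algebraMap_toAlgebra]
    congr 1
    show F (Pi.single k 1) = _
    congr 1
    funext j
    simp [Pi.single_apply, eq_comm]
  let M := fun k => G (c k)
  let W := f ⁻¹ᵁ V
  let ρ (O : X.Opens) (hO : O ≤ W) : R →+* Γ(X, O) := (f.appLE V O hO).hom
  have hle {O : X.Opens} (hO : O ≤ W) : p ⁻¹ᵁ O ≤ fst ⁻¹ᵁ h ⁻¹ᵁ V :=
    (p.preimage_mono hO).trans e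
  let σ (O : X.Opens) (hO : O ≤ W) : C →+* Γ(P, p ⁻¹ᵁ O) := (fst.appLE _ _ (hle hO)).hom
  let q (O : X.Opens) : Γ(X, O) →+* Γ(P, p ⁻¹ᵁ O) := (p.app O).hom
  let res {O' O : X.Opens} (h : O' ≤ O) : Γ(X, O) →+* Γ(X, O') :=
    (X.presheaf.map (homOfLE h).op).hom
  let res' {O' O : X.Opens} (h : O' ≤ O) : Γ(P, p ⁻¹ᵁ O) →+* Γ(P, p ⁻¹ᵁ O') :=
    (P.presheaf.map (homOfLE (p.preimage_mono h)).op).hom
  have nq : ∀ {O' O : X.Opens} (h : O' ≤ O), (res' h).comp (q O) = (q O').comp (res h) :=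
    fun h => congrArg CommRingCat.Hom.hom (p.naturality (homOfLE h).op).symm
  have nσ : ∀ {O' O : X.Opens} (h : O' ≤ O) (hO : O ≤ W),
      (res' h).comp (σ O hO) = σ O' (h.trans hO) :=
    fun h hO => congrArg CommRingCat.Hom.hom (Scheme.Hom.appLE_map _ _ _)
  have nρ : ∀ {O' O : X.Opens} (h : O' ≤ O) (hO : O ≤ W),
      (res h).comp (ρ O hO) = ρ O' (h.trans hO) :=
    fun h hO => congrArg CommRingCat.Hom.hom (Scheme.Hom.appLE_map _ _ _)
  have rr : ∀ {O'' O' O : X.Opens} (h : O'' ≤ O') (h' : O' ≤ O) (r : Fin n → Γ(X, O)),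
      res h ∘ res h' ∘ r = res (h.trans h') ∘ r := fun h h' r => funext fun k => by
    exact (ConcreteCategory.comp_apply _ _ _).symm.trans
      (congr($((X.presheaf.map_comp _ _).symm) (r k)))
  have aff : ∀ (U : X.affineOpens) (hU : U.1 ≤ W),
      (∀ r, proj (ρ U.1 hU) M r = r → comb (q U.1) (σ U.1 hU) c r = 0 → r = 0) ∧
      (∀ t, ∃ r, proj (ρ U.1 hU) M r = r ∧ comb (q U.1) (σ U.1 hU) c r = t) := fun U hU =>
    comb_facts (isPushout_sections H hV U.2 hU (hle hU)).flip c G (map_add G)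
      (fun (r : R) (x : C) => (congrArg G (Algebra.smul_def (R := R) (A := C) r x).symm).trans
        (map_smul G r x)) hFGx
  have inj : ∀ (O : X.Opens) (hO : O ≤ W) (r r' : Fin n → Γ(X, O)),
      proj (ρ O hO) M r = r → proj (ρ O hO) M r' = r' →
      comb (q O) (σ O hO) c r = comb (q O) (σ O hO) c r' → r = r' := by
    intro O hO r r' hr hr' he
    refine eq_of_affine_cover X O r r' fun U hU => ?_
    show res hU ∘ r = res hU ∘ r'
    rw [← sub_eq_zero]
    refine (aff U (hU.trans hO)).1 _ ?_ ?_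
    · funext j
      have h1 : proj (ρ U.1 (hU.trans hO)) M (res hU ∘ r) = res hU ∘ r := by
        rw [← proj_map (res hU) (ρ O hO) _ (nρ hU hO), hr]
      have h2 : proj (ρ U.1 (hU.trans hO)) M (res hU ∘ r') = res hU ∘ r' := by
        rw [← proj_map (res hU) (ρ O hO) _ (nρ hU hO), hr']
      simp only [proj, Pi.sub_apply, mul_sub, Finset.sum_sub_distrib]
      exact congrArg₂ (· - ·) (congrFun h1 j) (congrFun h2 j)
    · have h1 := congrArg (res' hU) he
      rw [comb_map (res hU) (res' hU) _ (q U.1) _ (σ U.1 (hU.trans hO)) (nq hU) (nσ hU hO),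
        comb_map (res hU) (res' hU) _ (q U.1) _ (σ U.1 (hU.trans hO)) (nq hU) (nσ hU hO)] at h1
      simp only [comb, Pi.sub_apply, map_sub, sub_mul, Finset.sum_sub_distrib]
      exact sub_eq_zero.mpr h1
  have hM : ∀ (O : X.Opens) (hO : O ≤ W) (x : C),
      proj (ρ O hO) M (ρ O hO ∘ G x) = ρ O hO ∘ G x ∧
        comb (q O) (σ O hO) c (ρ O hO ∘ G x) = σ O hO x := by
    intro O hO x
    have hqρ : ∀ a : R, q O (ρ O hO a) = σ O hO (φ a) := fun a => by
      have h1 : f.appLE V O hO ≫ p.app O = h.app V ≫ fst.appLE _ _ (hle hO) :=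
        ((isPushout_app_comm H V O hO (hle hO))).symm
      exact congr($h1 a)
    refine ⟨?_, ?_⟩
    · funext j
      show ∑ k, ρ O hO (G (c k) j) * ρ O hO (G x k) = ρ O hO (G x j)
      conv_rhs => rw [← hFGx x, map_sum, Finset.sum_apply, map_sum]
      refine Finset.sum_congr rfl fun k _ => ?_
      rw [show φ (G x k) * c k = G x k • c k from (Algebra.smul_def _ _).symm, map_smul,
        Pi.smul_apply, smul_eq_mul, map_mul, mul_comm]
    · conv_rhs => rw [← hFGx x, map_sum]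
      refine Finset.sum_congr rfl fun k _ => ?_
      rw [map_mul, Function.comp_apply, hqρ]
  have hρ : Function.Bijective (ρ W le_rfl) := by
    show Function.Bijective (f.appLE V (f ⁻¹ᵁ V) le_rfl)
    rw [← Scheme.Hom.app_eq_appLE]
    exact hf V
  show Function.Bijective (σ W le_rfl)
  refine ⟨(injective_iff_map_eq_zero _).mpr fun x hx => ?_, fun t => ?_⟩
  · have h0 : ρ W le_rfl ∘ G x = 0 := inj W le_rfl _ 0 (hM W le_rfl x).1
      (by funext j; simp [proj]) ((hM W le_rfl x).2.trans (hx.trans (by simp [comb])))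
    have : G x = 0 := funext fun k => hρ.1 ((congrFun h0 k).trans (map_zero _).symm)
    rw [← show F (G x) = x from LinearMap.congr_fun hFG x, this, map_zero]
  · choose r hr hrt using fun U : {U : X.affineOpens // U.1 ≤ W} =>
      (aff U.1 U.2).2 (res' U.2 t)
    have hcov : W ≤ ⨆ U : {U : X.affineOpens // U.1 ≤ W}, U.1.1 := fun x hx => by
      obtain ⟨_, ⟨U, hU, rfl⟩, hxU, hUW⟩ := X.isBasis_affineOpens.exists_subset_of_mem_open hx W.2
      exact Opens.mem_iSup.mpr ⟨⟨⟨U, hU⟩, hUW⟩, hxU⟩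
    have hglue : ∀ j, ∃! s : Γ(X, W), ∀ U : {U : X.affineOpens // U.1 ≤ W}, res U.2 s = r U j := by
      intro j
      refine X.sheaf.existsUnique_gluing' (fun U : {U : X.affineOpens // U.1 ≤ W} => U.1.1) W
        (fun U => homOfLE U.2) hcov (fun U => r U j) fun U U' => ?_
      refine congrFun (?_ : res inf_le_left ∘ r U = res inf_le_right ∘ r U') j
      have hO : U.1.1 ⊓ U'.1.1 ≤ W := inf_le_left.trans U.2
      refine inj _ hO _ _ ?_ ?_ ?_
      · rw [← proj_map (res inf_le_left) (ρ _ U.2) _ (nρ inf_le_left U.2), hr]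
      · rw [← proj_map (res inf_le_right) (ρ _ U'.2) _ (nρ inf_le_right U'.2), hr]
      · rw [← comb_map (res inf_le_left) (res' inf_le_left) (q U.1.1) _ (σ _ U.2) _
            (nq inf_le_left) (nσ inf_le_left U.2),
          ← comb_map (res inf_le_right) (res' inf_le_right) (q U'.1.1) _ (σ _ U'.2) _
            (nq inf_le_right) (nσ inf_le_right U'.2), hrt, hrt]
        show res' inf_le_left (res' U.2 t) = res' inf_le_right (res' U'.2 t)
        simp only [res', ← CommRingCat.comp_apply, ← Functor.map_comp]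
        rfl
    choose s hs _ using hglue
    choose s₀ hs₀ using fun j => hρ.2 (s j)
    refine ⟨F s₀, ?_⟩
    refine P.sheaf.eq_of_locally_eq'
      (fun U : {U : X.affineOpens // U.1 ≤ W} => p ⁻¹ᵁ U.1.1) (p ⁻¹ᵁ W)
      (fun U => homOfLE (p.preimage_mono U.2)) (fun z hz => by
        obtain ⟨U, hU⟩ := Opens.mem_iSup.mp (hcov hz)
        exact Opens.mem_iSup.mpr ⟨U, hU⟩) _ _ fun U => ?_
    show res' U.2 (σ W le_rfl (F s₀)) = res' U.2 t
    rw [← hrt U, show res' U.2 (σ W le_rfl (F s₀)) = σ U.1.1 U.2 (F s₀) from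
      RingHom.congr_fun (nσ U.2 le_rfl) _]
    have hFs : F s₀ = ∑ k, φ (s₀ k) * c k := by
      rw [LinearMap.pi_apply_eq_sum_univ F s₀]
      refine Finset.sum_congr rfl fun k _ => ?_
      rw [Algebra.smul_def, RingHom.algebraMap_toAlgebra]
      congr 1
      show _ = F (Pi.single k 1)
      congr 1
      funext j
      simp [Pi.single_apply, eq_comm]
    rw [hFs, map_sum]
    refine Finset.sum_congr rfl fun k _ => ?_
    rw [map_mul, ← hs k U, ← hs₀ k,
      show res U.2 (ρ W le_rfl (s₀ k)) = ρ U.1.1 U.2 (s₀ k) from RingHom.congr_fun (nρ U.2 le_rfl) _]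
    congr 1
    exact (congr($((isPushout_app_comm H V U.1.1 U.2 (hle U.2))) (s₀ k)))

set_option backward.isDefEq.respectTransparency.types false in
/-- If `O_S = f_* O_X`, pullback to `X` is bijective on functions of finite étale covers of `S`. -/
theorem appTop_bijective_of_app_bijective {f : X ⟶ S} {h : T ⟶ S} [IsAffineHom h] {fst : P ⟶ T}
    {p : P ⟶ X} (H : IsPullback fst p h f) (hf : ∀ U : S.Opens, Function.Bijective (f.app U))
    (hh : FEt.prop h) : Function.Bijective fst.appTop := by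
  have he : ∀ O : S.Opens, p ⁻¹ᵁ f ⁻¹ᵁ O = fst ⁻¹ᵁ h ⁻¹ᵁ O := fun O => by
    rw [← Scheme.Hom.comp_preimage, ← H.w, Scheme.Hom.comp_preimage]
  have aff : ∀ V : S.Opens, IsAffineOpen V → Function.Bijective (fst.app (h ⁻¹ᵁ V)) := fun V hV => by
    have key : ∀ (O : P.Opens) (hO : O ≤ fst ⁻¹ᵁ h ⁻¹ᵁ V), O = fst ⁻¹ᵁ h ⁻¹ᵁ V →
        Function.Bijective (fst.appLE (h ⁻¹ᵁ V) O hO) → Function.Bijective (fst.app (h ⁻¹ᵁ V)) := by
      rintro O hO rfl hb
      rwa [Scheme.Hom.app_eq_appLE]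
    exact key _ (he V).le (he V) (appLE_affine_bijective H hf hh V hV (he V).le)
  have nat : ∀ {O' O : S.Opens} (hO : O' ≤ O) (s : Γ(T, h ⁻¹ᵁ O)),
      P.presheaf.map (homOfLE (fst.preimage_mono (h.preimage_mono hO))).op (fst.app (h ⁻¹ᵁ O) s) =
        fst.app (h ⁻¹ᵁ O') (T.presheaf.map (homOfLE (h.preimage_mono hO)).op s) := fun hO s =>
    (congr($(fst.naturality (homOfLE (h.preimage_mono hO)).op) s)).symm
  have inj : ∀ O : S.Opens, Function.Injective (fst.app (h ⁻¹ᵁ O)) := fun O s s' e => by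
    refine T.sheaf.eq_of_locally_eq' (fun U : {U : S.affineOpens // U.1 ≤ O} => h ⁻¹ᵁ U.1.1)
      (h ⁻¹ᵁ O) (fun U => homOfLE (h.preimage_mono U.2)) (fun z hz => ?_) s s'
      fun U => (aff _ U.1.2).1 ?_
    · obtain ⟨_, ⟨U, hU, rfl⟩, hxU, hUO⟩ :=
        S.isBasis_affineOpens.exists_subset_of_mem_open (hz : h z ∈ O) O.2
      exact Opens.mem_iSup.mpr ⟨⟨⟨U, hU⟩, hUO⟩, hxU⟩
    · exact ((nat U.2 s).symm.trans (congrArg _ e)).trans (nat U.2 s')
  refine ⟨inj ⊤, fun t => ?_⟩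
  choose s hs using fun U : S.affineOpens =>
    (aff _ U.2).2 (P.presheaf.map (homOfLE (le_top : fst ⁻¹ᵁ h ⁻¹ᵁ U.1 ≤ ⊤)).op t)
  have hcov : (⊤ : T.Opens) ≤ ⨆ U : S.affineOpens, h ⁻¹ᵁ U.1 := fun z _ => by
    obtain ⟨U, hU⟩ := Opens.mem_iSup.mp ((iSup_affineOpens_eq_top S).ge (Set.mem_univ (h z)))
    exact Opens.mem_iSup.mpr ⟨U, hU⟩
  obtain ⟨g, hg, -⟩ := T.sheaf.existsUnique_gluing' (fun U : S.affineOpens => h ⁻¹ᵁ U.1) ⊤
    (fun U => homOfLE le_top) hcov s fun U U' => by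
      refine inj (U.1 ⊓ U'.1) ?_
      refine ((nat inf_le_left (s U)).symm.trans ?_).trans (nat inf_le_right (s U'))
      rw [hs, hs]
      simp only [← CommRingCat.comp_apply, ← Functor.map_comp]
      rfl
  refine ⟨g, P.sheaf.eq_of_locally_eq' (fun U : S.affineOpens => fst ⁻¹ᵁ h ⁻¹ᵁ U.1) ⊤
    (fun U => homOfLE le_top) (fun z _ => ?_) _ t fun U => ?_⟩
  · obtain ⟨U, hU⟩ := Opens.mem_iSup.mp (hcov (Set.mem_univ (fst z)))
    exact Opens.mem_iSup.mpr ⟨U, hU⟩
  · refine Eq.trans ?_ (hs U)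
    rw [← show T.presheaf.map (homOfLE (le_top : h ⁻¹ᵁ U.1 ≤ ⊤)).op g = s U from hg U]
    exact (congr($(fst.naturality (homOfLE (le_top : h ⁻¹ᵁ U.1 ≤ ⊤)).op) g)).symm

/-- If `O_S = f_* O_X`, pullback of finite étale covers of `S` to `X` is fully faithful. -/
theorem fullyFaithful_of_app_bijective (f : X ⟶ S) (hf : ∀ U : S.Opens, Function.Bijective (f.app U)) :
    (FEt.restrict f).Full ∧ (FEt.restrict f).Faithful :=
  fullyFaithful_of_appTop_bijective f fun Y => by
    have : IsFinite Y.hom := Y.prop.1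
    exact appTop_bijective_of_app_bijective (IsPullback.of_hasPullback Y.hom f) hf Y.prop

end Groth.Agent.FEt83
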