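import Groth.Agent.FEt83.RegularExtend
import Groth.Agent.FEt83.DenseFull
import Mathlib.AlgebraicGeometry.Sites.SmallAffineZariski
import Mathlib.AlgebraicGeometry.RelativeGluing

/-!
# Gluing local extensions of a cover
-/

universe u

open CategoryTheory Limits AlgebraicGeometry TopologicalSpace

namespace Groth.Agent.FEt83

variable {X : Scheme.{u}} (U : X.Opens) (E : FEt.Cat (U : Scheme.{u}))

/-- The structure map of the cover, to the whole scheme. -/
noncomputable abbrev coverToX : E.left ⟶ X := E.hom ≫ U.ι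

/-- An extension of the cover over an open. -/
structure Piece (W : X.Opens) where
  /-- the extension -/
  T : FEt.Cat (W : Scheme.{u})
  /-- the inclusion of the part of the cover over `W` -/
  a : (coverToX U E ⁻¹ᵁ W : Scheme.{u}) ⟶ T.left
  isOpenImmersion : IsOpenImmersion a
  fac : a ≫ T.hom = coverToX U E ∣_ W
  range_eq : Set.range a = T.hom ⁻¹' (W.ι ⁻¹' (U : Set X))

variable {U E}

set_option backward.isDefEq.respectTransparency.types false in
/-- An extension over an open containing `U` is a piece. -/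
theorem nonempty_piece_of_ext {O : X.Opens} (hle : U ≤ O) (Z : FEt.Cat (O : Scheme.{u}))
    (e : (FEt.restrict (X.homOfLE hle)).obj Z ≅ E) : Nonempty (Piece U E O) := by
  have : IsIso e.inv.left :=
    ((MorphismProperty.Over.forget _ _ _ ⋙ CategoryTheory.Over.forget _).mapIso e.symm).isIso_hom
  let b : E.left ⟶ Z.left := e.inv.left ≫ pullback.fst Z.hom (X.homOfLE hle)
  have hfst : IsOpenImmersion (pullback.fst Z.hom (X.homOfLE hle)) :=
    MorphismProperty.pullback_fst (P := @IsOpenImmersion) _ _ inferInstance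
  have hb : IsOpenImmersion b := MorphismProperty.comp_mem (W := @IsOpenImmersion) _ _
    (@IsOpenImmersion.of_isIso _ _ e.inv.left ‹_›) hfst
  have hbh : b ≫ Z.hom = E.hom ≫ X.homOfLE hle := by
    refine (Category.assoc _ _ _).trans ((congrArg (e.inv.left ≫ ·) pullback.condition).trans ?_)
    exact (Category.assoc _ _ _).symm.trans (congrArg (· ≫ _) (Over.w e.inv.hom))
  have hr : Set.range b = Z.hom ⁻¹' (O.ι ⁻¹' (U : Set X)) := by
    have h1 : Set.range b = Set.range (pullback.fst Z.hom (X.homOfLE hle)) :=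
      (Set.range_comp (pullback.fst Z.hom (X.homOfLE hle)) e.inv.left).trans
        ((congrArg ((pullback.fst Z.hom (X.homOfLE hle)) '' ·) (Function.Surjective.range_eq
          (Scheme.homeoOfIso (@asIso _ _ _ _ e.inv.left ‹_›)).surjective)).trans Set.image_univ)
    rw [h1, Scheme.Pullback.range_fst]
    refine congrArg (Z.hom ⁻¹' ·) (Set.ext fun z => ⟨?_, fun hz => ?_⟩)
    · rintro ⟨w, rfl⟩
      show O.ι (X.homOfLE hle w) ∈ U
      rw [← Scheme.Hom.comp_apply, X.homOfLE_ι]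
      exact w.2
    · exact ⟨⟨O.ι z, hz⟩, O.ι.isOpenEmbedding.injective congr($(X.homOfLE_ι hle).base ⟨O.ι z, hz⟩)⟩
  have hO : ∀ p : E.left, p ∈ coverToX U E ⁻¹ᵁ O := fun p => hle (E.hom p).2
  refine ⟨⟨Z, (coverToX U E ⁻¹ᵁ O).ι ≫ b, MorphismProperty.comp_mem (W := @IsOpenImmersion) _ _
    inferInstance hb, ?_, ?_⟩⟩
  · rw [← cancel_mono O.ι, morphismRestrict_ι]
    refine (congrArg (· ≫ O.ι) (Category.assoc _ _ _)).trans ((Category.assoc _ _ _).trans
      (congrArg ((coverToX U E ⁻¹ᵁ O).ι ≫ ·) ?_))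
    refine (congrArg (· ≫ O.ι) hbh).trans ((Category.assoc _ _ _).trans ?_)
    exact congrArg (E.hom ≫ ·) (X.homOfLE_ι hle)
  · rw [← hr]
    refine (Set.range_comp b (coverToX U E ⁻¹ᵁ O).ι).trans ?_
    rw [Scheme.Opens.range_ι, Set.eq_univ_of_forall (s := ((coverToX U E ⁻¹ᵁ O : E.left.Opens) :
      Set E.left)) hO, Set.image_univ]

set_option backward.isDefEq.respectTransparency.types false in
/-- Pieces restrict to smaller opens. -/
theorem exists_piece_baseChange {W W' : X.Opens} (i : W' ≤ W) (P : Piece U E W) :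
    ∃ P' : Piece U E W', P'.T = (FEt.restrict (X.homOfLE i)).obj P.T ∧ ∃ m : P'.T.left ⟶ P.T.left,
      m ≫ P.T.hom = P'.T.hom ≫ X.homOfLE i ∧
      P'.a ≫ m = E.left.homOfLE ((coverToX U E).preimage_mono i) ≫ P.a ∧
      IsPullback m P'.T.hom P.T.hom (X.homOfLE i) := by
  have := P.isOpenImmersion
  let k := E.left.homOfLE ((coverToX U E).preimage_mono i)
  have hk : k ≫ coverToX U E ∣_ W = coverToX U E ∣_ W' ≫ X.homOfLE i := by
    rw [← cancel_mono W.ι, Category.assoc, Category.assoc, morphismRestrict_ι, X.homOfLE_ι,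
      morphismRestrict_ι, ← Category.assoc, E.left.homOfLE_ι]
  let a' : (coverToX U E ⁻¹ᵁ W' : Scheme.{u}) ⟶ pullback P.T.hom (X.homOfLE i) :=
    pullback.lift (k ≫ P.a) (coverToX U E ∣_ W')
      ((Category.assoc _ _ _).trans ((congrArg (k ≫ ·) P.fac).trans hk))
  have hfst : IsOpenImmersion (pullback.fst P.T.hom (X.homOfLE i)) :=
    MorphismProperty.pullback_fst (P := @IsOpenImmersion) _ _ inferInstance
  have ha' : a' ≫ pullback.fst _ _ = k ≫ P.a := pullback.lift_fst _ _ _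
  have hcomp : IsOpenImmersion (a' ≫ pullback.fst P.T.hom (X.homOfLE i)) := by
    rw [ha']; infer_instance
  have hr : Set.range a' = (pullback.snd P.T.hom (X.homOfLE i)) ⁻¹' (W'.ι ⁻¹' (U : Set X)) := by
    refine Set.ext fun z => ⟨?_, fun hz => ?_⟩
    · rintro ⟨p, rfl⟩
      show W'.ι ((a' ≫ pullback.snd _ _) p) ∈ U
      rw [pullback.lift_snd, ← Scheme.Hom.comp_apply, morphismRestrict_ι]
      exact (E.hom _).2
    · have h1 : W.ι (P.T.hom (pullback.fst P.T.hom (X.homOfLE i) z)) =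
          W'.ι (pullback.snd P.T.hom (X.homOfLE i) z) := by
        have := congr($(pullback.condition (f := P.T.hom) (g := X.homOfLE i)).base z)
        exact (congrArg W.ι this).trans congr($(X.homOfLE_ι i).base (pullback.snd P.T.hom _ z))
      obtain ⟨p, hp⟩ : pullback.fst P.T.hom (X.homOfLE i) z ∈ Set.range P.a := by
        rw [P.range_eq]
        show W.ι (P.T.hom _) ∈ U
        rw [h1]
        exact hz
      have hpW : ((coverToX U E ⁻¹ᵁ W).ι p) ∈ coverToX U E ⁻¹ᵁ W' := by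
        show coverToX U E ((coverToX U E ⁻¹ᵁ W).ι p) ∈ W'
        have h2 := congr($(morphismRestrict_ι (coverToX U E) W).base p)
        have h3 := congr($(P.fac).base p)
        refine (h2.symm.trans ((congrArg W.ι (h3.symm.trans (congrArg P.T.hom hp))).trans h1)) ▸ ?_
        exact (pullback.snd P.T.hom (X.homOfLE i) z).2
      refine ⟨⟨_, hpW⟩, (pullback.fst P.T.hom (X.homOfLE i)).isOpenEmbedding.injective ?_⟩
      refine congr($(ha').base ⟨_, hpW⟩).trans ((congrArg P.a ?_).trans hp)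
      exact (coverToX U E ⁻¹ᵁ W).ι.isOpenEmbedding.injective
        congr($(E.left.homOfLE_ι ((coverToX U E).preimage_mono i)).base ⟨_, hpW⟩)
  exact ⟨⟨(FEt.restrict (X.homOfLE i)).obj P.T, a',
    IsOpenImmersion.of_comp a' (pullback.fst P.T.hom (X.homOfLE i)), pullback.lift_snd _ _ _, hr⟩,
    rfl, pullback.fst P.T.hom (X.homOfLE i), pullback.condition, ha',
    IsPullback.of_hasPullback _ _⟩

variable [IsLocallyNoetherian X] (hU : Dense (U : Set X))
  (hreg : ∀ x : X, x ∉ U → IsRegularLocalRing (X.presheaf.stalk x))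

include hU hreg

omit [IsLocallyNoetherian X] in
set_option backward.isDefEq.respectTransparency.types false in
theorem dense_regular_open (W : X.Opens) :
    DenseRange (W.ι ⁻¹ᵁ U).ι ∧ ∀ z : (W : Scheme.{u}), z ∉ Set.range (W.ι ⁻¹ᵁ U).ι →
      IsRegularLocalRing ((W : Scheme.{u}).presheaf.stalk z) := by
  refine ⟨?_, fun z hz => ?_⟩
  · show Dense (Set.range (W.ι ⁻¹ᵁ U).ι)
    rw [Scheme.Opens.range_ι]
    show Dense (W.ι ⁻¹' (U : Set X))
    exact hU.preimage W.ι.isOpenEmbedding.isOpenMap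
  · rw [Scheme.Opens.range_ι] at hz
    have := hreg (W.ι z) hz
    exact IsRegularLocalRing.of_ringEquiv (asIso (W.ι.stalkMap z)).commRingCatIsoToRingEquiv

set_option backward.isDefEq.respectTransparency.types false in
/-- Maps between extensions are determined by their restriction. -/
theorem piece_hom_ext {W : X.Opens} (P : Piece U E W) (T : FEt.Cat (W : Scheme.{u}))
    {φ ψ : P.T ⟶ T} (h : P.a ≫ φ.left = P.a ≫ ψ.left) : φ = ψ := by
  have := P.isOpenImmersion
  have hd := dense_regular_open hU hreg W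
  have := (fullyFaithful_of_regular_complement (W.ι ⁻¹ᵁ U).ι hd.1 hd.2).2
  refine (FEt.restrict (W.ι ⁻¹ᵁ U).ι).map_injective (MorphismProperty.Over.Hom.ext ?_)
  have hrl : Set.range (pullback.fst P.T.hom (W.ι ⁻¹ᵁ U).ι) ⊆ Set.range P.a := by
    rw [Scheme.Pullback.range_fst, P.range_eq, Scheme.Opens.range_ι]; rfl
  let l := IsOpenImmersion.lift P.a (pullback.fst P.T.hom (W.ι ⁻¹ᵁ U).ι) hrl
  have hl : l ≫ P.a = pullback.fst P.T.hom (W.ι ⁻¹ᵁ U).ι := IsOpenImmersion.lift_fac _ _ _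
  refine pullback.hom_ext ?_ ?_
  · refine (pullback.lift_fst _ _ _).trans (Eq.trans ?_ (pullback.lift_fst _ _ _).symm)
    rw [← hl]
    exact (Category.assoc _ _ _).trans ((congrArg (l ≫ ·) h).trans (Category.assoc _ _ _).symm)
  · exact (pullback.lift_snd _ _ _).trans (pullback.lift_snd _ _ _).symm

set_option backward.isDefEq.respectTransparency.types false in
/-- Two pieces over the same open are related by a unique map. -/
theorem exists_piece_hom {W : X.Opens} (P Q : Piece U E W) :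
    ∃ φ : P.T ⟶ Q.T, P.a ≫ φ.left = Q.a := by
  have := P.isOpenImmersion
  have hd := dense_regular_open hU hreg W
  have := (fullyFaithful_of_regular_complement (W.ι ⁻¹ᵁ U).ι hd.1 hd.2).1
  have hrl : Set.range (pullback.fst P.T.hom (W.ι ⁻¹ᵁ U).ι) ⊆ Set.range P.a := by
    rw [Scheme.Pullback.range_fst, P.range_eq, Scheme.Opens.range_ι]; rfl
  let l := IsOpenImmersion.lift P.a (pullback.fst P.T.hom (W.ι ⁻¹ᵁ U).ι) hrl
  have hl : l ≫ P.a = pullback.fst P.T.hom (W.ι ⁻¹ᵁ U).ι := IsOpenImmersion.lift_fac _ _ _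
  have hw : (l ≫ Q.a) ≫ Q.T.hom = pullback.snd P.T.hom (W.ι ⁻¹ᵁ U).ι ≫ (W.ι ⁻¹ᵁ U).ι := by
    refine (Category.assoc _ _ _).trans ((congrArg (l ≫ ·) Q.fac).trans ?_)
    refine (congrArg (l ≫ ·) P.fac.symm).trans ((Category.assoc _ _ _).symm.trans ?_)
    exact (congrArg (· ≫ P.T.hom) hl).trans pullback.condition
  let ψ : (FEt.restrict (W.ι ⁻¹ᵁ U).ι).obj P.T ⟶ (FEt.restrict (W.ι ⁻¹ᵁ U).ι).obj Q.T :=
    MorphismProperty.Over.homMk (pullback.lift (l ≫ Q.a) (pullback.snd _ _) hw)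
      (pullback.lift_snd _ _ _)
  obtain ⟨φ, hφ⟩ := (FEt.restrict (W.ι ⁻¹ᵁ U).ι).map_surjective ψ
  refine ⟨φ, ?_⟩
  have hu : Set.range (coverToX U E ∣_ W) ⊆ Set.range (W.ι ⁻¹ᵁ U).ι := by
    rintro _ ⟨p, rfl⟩
    rw [Scheme.Opens.range_ι]
    show W.ι _ ∈ U
    rw [← Scheme.Hom.comp_apply, morphismRestrict_ι]
    exact (E.hom _).2
  let s := pullback.lift P.a (IsOpenImmersion.lift (W.ι ⁻¹ᵁ U).ι (coverToX U E ∣_ W) hu)
    (P.fac.trans (IsOpenImmersion.lift_fac _ _ _).symm)
  have hs : s ≫ l = 𝟙 _ := by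
    rw [← cancel_mono P.a, Category.assoc, hl, Category.id_comp]
    exact pullback.lift_fst _ _ _
  have h := congrArg (fun t : (FEt.restrict (W.ι ⁻¹ᵁ U).ι).obj P.T ⟶ _ =>
    s ≫ t.left ≫ pullback.fst Q.T.hom (W.ι ⁻¹ᵁ U).ι) hφ
  refine Eq.trans ?_ ((h.trans ((congrArg (s ≫ ·) (pullback.lift_fst _ _ _)).trans
    ((Category.assoc _ _ _).symm.trans ((congrArg (· ≫ Q.a) hs).trans (Category.id_comp _))))))
  refine (congrArg (· ≫ φ.left) (show s ≫ pullback.fst P.T.hom (W.ι ⁻¹ᵁ U).ι = P.a from pullback.lift_fst _ _ _).symm).trans ?_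
  refine (Category.assoc _ _ _).trans (congrArg (s ≫ ·) ?_)
  exact (pullback.lift_fst (f := Q.T.hom) (g := (W.ι ⁻¹ᵁ U).ι) _ _ _).symm

set_option backward.isDefEq.respectTransparency.types false in
/-- The transition maps between pieces. -/
theorem exists_transition {W W' : X.Opens} (i : W' ≤ W) (P' : Piece U E W') (P : Piece U E W) :
    ∃ m : P'.T.left ⟶ P.T.left, m ≫ P.T.hom = P'.T.hom ≫ X.homOfLE i ∧
      P'.a ≫ m = E.left.homOfLE ((coverToX U E).preimage_mono i) ≫ P.a ∧
      IsPullback m P'.T.hom P.T.hom (X.homOfLE i) := by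
  obtain ⟨Q, -, m, hm, ha, hpb⟩ := exists_piece_baseChange i P
  obtain ⟨φ, hφ⟩ := exists_piece_hom hU hreg P' Q
  obtain ⟨ψ, hψ⟩ := exists_piece_hom hU hreg Q P'
  have h1 : φ ≫ ψ = 𝟙 _ := piece_hom_ext hU hreg P' _ (by
    refine (Category.assoc _ _ _).symm.trans ((congrArg (· ≫ ψ.left) hφ).trans (hψ.trans ?_))
    exact (Category.comp_id _).symm)
  have h2 : ψ ≫ φ = 𝟙 _ := piece_hom_ext hU hreg Q _ (by
    refine (Category.assoc _ _ _).symm.trans ((congrArg (· ≫ φ.left) hψ).trans (hφ.trans ?_))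
    exact (Category.comp_id _).symm)
  let e : P'.T ≅ Q.T := ⟨φ, ψ, h1, h2⟩
  have : IsIso φ.left :=
    ((MorphismProperty.Over.forget _ _ _ ⋙ CategoryTheory.Over.forget _).mapIso e).isIso_hom
  have hw : φ.left ≫ Q.T.hom = P'.T.hom := Over.w φ.hom
  refine ⟨φ.left ≫ m, ?_, ?_, ?_⟩
  · exact (Category.assoc _ _ _).trans ((congrArg (φ.left ≫ ·) hm).trans
      ((Category.assoc _ _ _).symm.trans (congrArg (· ≫ X.homOfLE i) hw)))
  · exact ((Category.assoc _ _ _).symm.trans ((congrArg (· ≫ m) hφ).trans ha))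
  · exact IsPullback.of_iso hpb (@asIso _ _ _ _ φ.left ‹_›).symm (Iso.refl _) (Iso.refl _)
      (Iso.refl _)
      ((Category.comp_id m).trans ((congrArg (· ≫ m) (IsIso.inv_hom_id φ.left)).trans
        (Category.id_comp m) |>.symm.trans (Category.assoc _ _ _)))
      ((Category.comp_id _).trans (((IsIso.inv_comp_eq φ.left).mpr hw.symm).symm))
      ((Category.comp_id _).trans (Category.id_comp _).symm)
      ((Category.comp_id _).trans (Category.id_comp _).symm)

set_option backward.isDefEq.respectTransparency.types false in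
/-- Transition maps are unique. -/
theorem transition_unique {W W' : X.Opens} (i : W' ≤ W) (P' : Piece U E W') (P : Piece U E W)
    {m₁ m₂ : P'.T.left ⟶ P.T.left} (h₁ : m₁ ≫ P.T.hom = P'.T.hom ≫ X.homOfLE i)
    (h₂ : m₂ ≫ P.T.hom = P'.T.hom ≫ X.homOfLE i) (h : P'.a ≫ m₁ = P'.a ≫ m₂) : m₁ = m₂ := by
  let φ₁ : P'.T ⟶ (FEt.restrict (X.homOfLE i)).obj P.T :=
    MorphismProperty.Over.homMk (pullback.lift m₁ P'.T.hom h₁) (pullback.lift_snd _ _ _)
  let φ₂ : P'.T ⟶ (FEt.restrict (X.homOfLE i)).obj P.T :=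
    MorphismProperty.Over.homMk (pullback.lift m₂ P'.T.hom h₂) (pullback.lift_snd _ _ _)
  have e : φ₁ = φ₂ := piece_hom_ext hU hreg P' _ (by
    refine pullback.hom_ext ?_ ?_
    · refine (Category.assoc _ _ _).trans (((congrArg (P'.a ≫ ·) (pullback.lift_fst _ _ _)).trans
        (h.trans ((congrArg (P'.a ≫ ·) (pullback.lift_fst _ _ _)).symm))).trans
        (Category.assoc _ _ _).symm)
    · exact (Category.assoc _ _ _).trans (((congrArg (P'.a ≫ ·) (pullback.lift_snd _ _ _)).trans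
        (congrArg (P'.a ≫ ·) (pullback.lift_snd _ _ _)).symm).trans (Category.assoc _ _ _).symm))
  exact ((pullback.lift_fst _ _ _).symm.trans
    ((congrArg (fun t : P'.T ⟶ _ => t.left ≫ pullback.fst _ _) e))).trans (pullback.lift_fst _ _ _)

end Groth.Agent.FEt83
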