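import Groth.Agent.FEt83.RegularGlue

/-!
# Covers unramified in codimension one extend over regular points
-/

universe u

open CategoryTheory Limits AlgebraicGeometry TopologicalSpace

namespace Groth.Agent.FEt83

variable {X : Scheme.{u}} [IsLocallyNoetherian X]

set_option backward.isDefEq.respectTransparency.types false in
set_option backward.defeqAttrib.useBackward true in
/-- A cover unramified in codimension one over a regular complement extends. -/
theorem exists_extension_of_regular (U : X.Opens) (hU : Dense (U : Set X))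
    (E : FEt.Cat (U : Scheme.{u}))
    (hreg : ∀ x : X, x ∉ U → IsRegularLocalRing (X.presheaf.stalk x))
    (hunr : ∀ ξ : X, ξ ∉ U → ringKrullDim (X.presheaf.stalk ξ) = 1 →
      ∃ Yξ : FEt.Cat (Spec (X.presheaf.stalk ξ)),
        Nonempty ((FEt.restrict (pullback.snd U.ι (X.fromSpecStalk ξ))).obj Yξ ≅
          (FEt.restrict (pullback.fst U.ι (X.fromSpecStalk ξ))).obj E)) :
    ∃ Y' : FEt.Cat X, Nonempty ((FEt.restrict U.ι).obj Y' ≅ E) := by
  have hpiece : ∀ W : X.AffineZariskiSite, Nonempty (Piece U E W.1) := fun W => by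
    obtain ⟨O, hle, Z, hWO, ⟨e⟩⟩ := exists_extension_affine U hU E hreg hunr W.1 W.2
    obtain ⟨P⟩ := nonempty_piece_of_ext hle Z e
    obtain ⟨P', -⟩ := exists_piece_baseChange hWO P
    exact ⟨P'⟩
  let P := fun W => (hpiece W).some
  choose m hm ha hpb using fun (W' W : X.AffineZariskiSite) (i : W' ≤ W) =>
    exists_transition hU hreg (Scheme.AffineZariskiSite.toOpens_mono i) (P W') (P W)
  have huniq := fun (W' W : X.AffineZariskiSite) (i : W' ≤ W)
      (m₁ : (P W').T.left ⟶ (P W).T.left)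
      (h₁ : m₁ ≫ (P W).T.hom = (P W').T.hom ≫ X.homOfLE (Scheme.AffineZariskiSite.toOpens_mono i))
      (h : (P W').a ≫ m₁ = E.left.homOfLE ((coverToX U E).preimage_mono
        (Scheme.AffineZariskiSite.toOpens_mono i)) ≫ (P W).a) =>
    transition_unique hU hreg (Scheme.AffineZariskiSite.toOpens_mono i) (P W') (P W) h₁ (hm W' W i)
      (h.trans (ha W' W i).symm)
  let F : X.AffineZariskiSite ⥤ Scheme.{u} :=
    { obj := fun W => (P W).T.left
      map := fun {W' W} i => m W' W i.le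
      map_id := fun W => (huniq W W le_rfl (𝟙 _)
          ((Category.id_comp _).trans ((congrArg (_ ≫ ·) (X.homOfLE_rfl _)).trans (Category.comp_id _)).symm)
          ((Category.comp_id _).trans ((congrArg (· ≫ _) (E.left.homOfLE_rfl _)).trans (Category.id_comp _)).symm)).symm
      map_comp := fun {W₁ W₂ W₃} i j => (huniq W₁ W₃ (i ≫ j).le _ (by
          refine (Category.assoc _ _ _).trans ((congrArg (m W₁ W₂ i.le ≫ ·) (hm W₂ W₃ j.le)).trans ?_)
          refine (Category.assoc _ _ _).symm.trans ((congrArg (· ≫ _) (hm W₁ W₂ i.le)).trans ?_)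
          exact (Category.assoc _ _ _).trans (congrArg (_ ≫ ·) (X.homOfLE_homOfLE _ _))) (by
          refine (Category.assoc _ _ _).symm.trans ((congrArg (· ≫ _) (ha W₁ W₂ i.le)).trans ?_)
          refine (Category.assoc _ _ _).trans ((congrArg (_ ≫ ·) (ha W₂ W₃ j.le)).trans ?_)
          exact (Category.assoc _ _ _).symm.trans (congrArg (· ≫ _) (E.left.homOfLE_homOfLE _ _)))).symm }
  let d : (Scheme.AffineZariskiSite.directedCover X).RelativeGluingData :=
    { functor := F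
      natTrans :=
        { app := fun W => (P W).T.hom
          naturality := fun W' W i => hm W' W i.le }
      equifibered := fun {W' W} i => hpb W' W i.le }
  -- the glued cover
  have : (d.functor ⋙ Scheme.forget).IsLocallyDirected :=
    Scheme.Cover.RelativeGluingData.instIsLocallyDirectedI₀CompFunctorForgetOfIsThin ..
  have : ∀ {i j : X.AffineZariskiSite} (f : i ⟶ j), IsOpenImmersion (d.functor.map f) :=
    fun f => MorphismProperty.of_isPullback (P := @IsOpenImmersion) (hpb _ _ f.le).flip inferInstance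
  have hcol : HasColimit d.functor := inferInstance
  let G := d.glued
  let q : G ⟶ X := d.toBase
  have hsq : ∀ W : X.AffineZariskiSite,
      IsPullback (P W).T.hom (colimit.ι d.functor W) W.1.ι q := fun W => d.isPullback_natTrans_ι_toBase W
  have hq : FEt.prop q := by
    have h1 : IsFinite q := by
      rw [IsZariskiLocalAtTarget.iff_of_openCover (P := @IsFinite)
        (Scheme.AffineZariskiSite.directedCover X)]
      intro W
      have h := (hsq W).flip
      exact (MorphismProperty.cancel_left_of_respectsIso @IsFinite h.isoPullback.hom _).mp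
        (Eq.subst (motive := fun t => IsFinite t) h.isoPullback_hom_snd.symm (P W).T.prop.1)
    have h2 : Etale q := by
      rw [IsZariskiLocalAtTarget.iff_of_openCover (P := @Etale)
        (Scheme.AffineZariskiSite.directedCover X)]
      intro W
      have h := (hsq W).flip
      exact (MorphismProperty.cancel_left_of_respectsIso @Etale h.isoPullback.hom _).mp
        (Eq.subst (motive := fun t => Etale t) h.isoPullback_hom_snd.symm (P W).T.prop.2)
    exact ⟨h1, h2⟩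
  -- the inclusion of the original cover
  let g := coverToX U E
  have hcovE : IsOpenCover fun W : X.AffineZariskiSite => g ⁻¹ᵁ W.1 :=
    top_le_iff.mp fun p _ => by
      obtain ⟨W, hW⟩ := Opens.mem_iSup.mp ((iSup_affineOpens_eq_top X).ge (Set.mem_univ (g p)))
      exact Opens.mem_iSup.mpr ⟨⟨W.1, W.2⟩, hW⟩
  have hnat : ∀ (W' W : X.AffineZariskiSite) (i : W' ≤ W),
      E.left.homOfLE (g.preimage_mono (Scheme.AffineZariskiSite.toOpens_mono i)) ≫ (P W).a ≫
        colimit.ι d.functor W = (P W').a ≫ colimit.ι d.functor W' := fun W' W i => by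
    refine (Category.assoc _ _ _).symm.trans ((congrArg (· ≫ _) (ha W' W i).symm).trans ?_)
    exact (Category.assoc _ _ _).trans (congrArg (_ ≫ ·) (colimit.w d.functor (homOfLE i)))
  let 𝒰 := E.left.openCoverOfIsOpenCover _ hcovE
  have hglue : ∀ W₁ W₂ : X.AffineZariskiSite,
      pullback.fst (g ⁻¹ᵁ W₁.1).ι (g ⁻¹ᵁ W₂.1).ι ≫ (P W₁).a ≫ colimit.ι d.functor W₁ =
        pullback.snd (g ⁻¹ᵁ W₁.1).ι (g ⁻¹ᵁ W₂.1).ι ≫ (P W₂).a ≫ colimit.ι d.functor W₂ := by
    intro W₁ W₂
    refine Scheme.hom_ext_of_forall _ _ fun z => ?_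
    let p := (pullback.fst (g ⁻¹ᵁ W₁.1).ι (g ⁻¹ᵁ W₂.1).ι ≫ (g ⁻¹ᵁ W₁.1).ι) z
    have hp1 : g p ∈ W₁.1 := (pullback.fst (g ⁻¹ᵁ W₁.1).ι (g ⁻¹ᵁ W₂.1).ι z).2
    have hp2 : g p ∈ W₂.1 := by
      show g ((pullback.fst _ _ ≫ (g ⁻¹ᵁ W₁.1).ι) z) ∈ W₂.1
      rw [pullback.condition]
      exact (pullback.snd (g ⁻¹ᵁ W₁.1).ι (g ⁻¹ᵁ W₂.1).ι z).2
    obtain ⟨f₁, f₂, e, hxf⟩ := exists_basicOpen_le_affine_inter W₁.2 W₂.2 _ ⟨hp1, hp2⟩
    let W' := W₁.basicOpen f₁
    have i₁ : W' ≤ W₁ := W₁.basicOpen_le f₁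
    have i₂ : W' ≤ W₂ := ⟨f₂, e.symm⟩
    let o := (pullback.fst (g ⁻¹ᵁ W₁.1).ι (g ⁻¹ᵁ W₂.1).ι ≫ (g ⁻¹ᵁ W₁.1).ι) ⁻¹ᵁ (g ⁻¹ᵁ W'.1)
    refine ⟨o, hxf, ?_⟩
    let r : (o : Scheme.{u}) ⟶ (g ⁻¹ᵁ W'.1 : Scheme.{u}) := _ ∣_ (g ⁻¹ᵁ W'.1)
    have hr : r ≫ (g ⁻¹ᵁ W'.1).ι = o.ι ≫ pullback.fst _ _ ≫ (g ⁻¹ᵁ W₁.1).ι := morphismRestrict_ι _ _
    have hr1 : r ≫ E.left.homOfLE (g.preimage_mono (Scheme.AffineZariskiSite.toOpens_mono i₁)) =
        o.ι ≫ pullback.fst _ _ := by
      rw [← cancel_mono (g ⁻¹ᵁ W₁.1).ι, Category.assoc, E.left.homOfLE_ι, hr, Category.assoc]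
    have hr2 : r ≫ E.left.homOfLE (g.preimage_mono (Scheme.AffineZariskiSite.toOpens_mono i₂)) =
        o.ι ≫ pullback.snd _ _ := by
      rw [← cancel_mono (g ⁻¹ᵁ W₂.1).ι, Category.assoc, E.left.homOfLE_ι, hr, Category.assoc,
        pullback.condition]
    refine ((Category.assoc _ _ _).symm.trans ((congrArg (· ≫ _) hr1.symm).trans ?_)).trans
      ((congrArg (· ≫ _) hr2).trans (Category.assoc _ _ _))
    refine (Category.assoc _ _ _).trans (((congrArg (r ≫ ·) (hnat W' W₁ i₁)).trans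
      (congrArg (r ≫ ·) (hnat W' W₂ i₂)).symm).trans (Category.assoc _ _ _).symm)
  let b : E.left ⟶ G := 𝒰.glueMorphisms (fun W => (P W).a ≫ colimit.ι d.functor W) hglue
  have hb : ∀ W : X.AffineZariskiSite, (g ⁻¹ᵁ W.1).ι ≫ b = (P W).a ≫ colimit.ι d.functor W := fun W => 𝒰.ι_glueMorphisms _ hglue W
  have hbq : b ≫ q = g := Scheme.Cover.hom_ext 𝒰 _ _ fun (W : X.AffineZariskiSite) => by
    show (g ⁻¹ᵁ W.1).ι ≫ b ≫ q = _
    refine (Category.assoc _ _ _).symm.trans ((congrArg (· ≫ q) (hb W)).trans ?_)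
    refine (Category.assoc _ _ _).trans ((congrArg ((P W).a ≫ ·) (hsq W).w.symm).trans ?_)
    refine (Category.assoc _ _ _).symm.trans ((congrArg (· ≫ W.1.ι) (P W).fac).trans ?_)
    exact morphismRestrict_ι g W.1
  have hbW : ∀ W : X.AffineZariskiSite, IsOpenImmersion ((g ⁻¹ᵁ W.1).ι ≫ b) := fun W => by
    rw [hb W]
    exact MorphismProperty.comp_mem (W := @IsOpenImmersion) _ _ (P W).isOpenImmersion
      (inferInstanceAs (IsOpenImmersion (colimit.ι d.functor W)))
  have hbinj : Function.Injective b := by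
    intro p p' e
    have hg : g p = g p' := by rw [← hbq, Scheme.Hom.comp_apply, Scheme.Hom.comp_apply, e]
    obtain ⟨W, hW⟩ := Opens.mem_iSup.mp (hcovE.ge (Set.mem_univ p))
    have hW' : p' ∈ g ⁻¹ᵁ W.1 := (show g p' ∈ W.1 from hg ▸ hW)
    have := (hbW W).base_open.injective (a₁ := ⟨p, hW⟩) (a₂ := ⟨p', hW'⟩) e
    exact congrArg Subtype.val this
  have hbopen : IsOpenMap b := fun s hs => by
    rw [show b '' s = ⋃ W : X.AffineZariskiSite, ((g ⁻¹ᵁ W.1).ι ≫ b) '' ((g ⁻¹ᵁ W.1).ι ⁻¹' s) from ?_]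
    · exact isOpen_iUnion fun W => (hbW W).base_open.isOpenMap _ (hs.preimage (Scheme.Hom.continuous _))
    ext y
    constructor
    · rintro ⟨p, hp, rfl⟩
      obtain ⟨W, hW⟩ := Opens.mem_iSup.mp (hcovE.ge (Set.mem_univ p))
      exact Set.mem_iUnion.mpr ⟨W, ⟨p, hW⟩, hp, rfl⟩
    · intro hy
      obtain ⟨W, ⟨p, hW⟩, hp, rfl⟩ := Set.mem_iUnion.mp hy
      exact ⟨p, hp, rfl⟩
  have : IsOpenImmersion b := by
    have : ∀ p : E.left, IsIso (b.stalkMap p) := fun p => by
      obtain ⟨W, hW⟩ := Opens.mem_iSup.mp (hcovE.ge (Set.mem_univ p))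
      have := hbW W
      have h : IsIso (((g ⁻¹ᵁ W.1).ι ≫ b).stalkMap ⟨p, hW⟩) :=
        (IsOpenImmersion.iff_isIso_stalkMap.mp (hbW W)).2 _
      rw [Scheme.Hom.stalkMap_comp] at h
      have hi : IsIso ((g ⁻¹ᵁ W.1).ι.stalkMap ⟨p, hW⟩) :=
        (IsOpenImmersion.iff_isIso_stalkMap.mp inferInstance).2 _
      exact @IsIso.of_isIso_comp_right _ _ _ _ _ (b.stalkMap ((g ⁻¹ᵁ W.1).ι ⟨p, hW⟩))
        ((g ⁻¹ᵁ W.1).ι.stalkMap ⟨p, hW⟩) hi h
    exact IsOpenImmersion.of_isIso_stalkMap b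
      (.of_continuous_injective_isOpenMap b.continuous hbinj hbopen)
  let c : E.left ⟶ pullback q U.ι := pullback.lift b E.hom hbq
  have hfst : IsOpenImmersion (pullback.fst q U.ι) :=
    MorphismProperty.pullback_fst (P := @IsOpenImmersion) _ _ inferInstance
  have hc : c ≫ pullback.fst q U.ι = b := pullback.lift_fst _ _ _
  have : IsOpenImmersion (c ≫ pullback.fst q U.ι) := hc.symm ▸ ‹IsOpenImmersion b›
  have : IsOpenImmersion c := IsOpenImmersion.of_comp c (pullback.fst q U.ι)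
  have hsurj : Function.Surjective c := fun z => by
    let y := pullback.fst q U.ι z
    have hy : q y ∈ U := by
      have := congr($(pullback.condition (f := q) (g := U.ι)).base z)
      exact (show U.ι (pullback.snd q U.ι z) ∈ U from (pullback.snd q U.ι z).2) |> fun h =>
        (show q y = U.ι (pullback.snd q U.ι z) from this).symm ▸ h
    obtain ⟨W, hW⟩ := Opens.mem_iSup.mp ((iSup_affineOpens_eq_top X).ge (Set.mem_univ (q y)))
    obtain ⟨t, -, ht⟩ := Scheme.exists_preimage_of_isPullback (hsq ⟨W.1, W.2⟩) ⟨q y, hW⟩ y rfl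
    have : (⟨q y, hW⟩ : W.1) = (P ⟨W.1, W.2⟩).T.hom t := by
      refine Subtype.ext ?_
      have h := congr($((hsq ⟨W.1, W.2⟩).w).base t)
      exact (congrArg q ht).symm.trans h.symm
    obtain ⟨p, hp⟩ : t ∈ Set.range (P ⟨W.1, W.2⟩).a := by
      rw [(P ⟨W.1, W.2⟩).range_eq]
      show ((P ⟨W.1, W.2⟩).T.hom t).1 ∈ U
      rw [← this]
      exact hy
    refine ⟨(g ⁻¹ᵁ W.1).ι p, (pullback.fst q U.ι).isOpenEmbedding.injective ?_⟩
    refine congr($(hc).base _).trans ?_
    exact congr($(hb ⟨W.1, W.2⟩).base p).trans ((congrArg _ hp).trans ht)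
  have : Surjective c := ⟨hsurj⟩
  have : IsIso c := (isIso_iff_isOpenImmersion_and_surjective c).mpr ⟨‹_›, ‹_›⟩
  exact ⟨MorphismProperty.Over.mk ⊤ q hq,
    ⟨(MorphismProperty.Over.isoMk (@asIso _ _ _ _ c ‹_›) (pullback.lift_snd _ _ _) :
      E ≅ (FEt.restrict U.ι).obj (MorphismProperty.Over.mk ⊤ q hq)).symm⟩⟩

end Groth.Agent.FEt83
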