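import Groth.Agent.FEt83.Connected
import Groth.Agent.FEt83.Fiber
import Groth.Prelude.Def_PiSp
import Mathlib.CategoryTheory.Galois.IsFundamentalgroup
import Mathlib.CategoryTheory.Galois.Decomposition
import Mathlib.Topology.NoetherianSpace
import Mathlib.AlgebraicGeometry.Morphisms.Proper

/-!
# Topological generators of the fundamental group along a proper surjection

Subsets of a fibre stable under a group of automorphisms of the fibre functor correspond to clopen
subsets of covers; clopen subsets descend along proper surjections.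
-/

universe u

open CategoryTheory Limits AlgebraicGeometry TopologicalSpace PreGaloisCategory

namespace Groth.Agent.FEt83

variable {X : Scheme.{u}} {Ω Ω' : Type u} [Field Ω] [Field Ω']

/-- The point of a cover underlying an element of the fibre. -/
noncomputable def imgPt {ξ : Spec (CommRingCat.of Ω) ⟶ X} {Z : FEt.Cat X}
    (s : FEt.fiberObj ξ Z) : Z.left :=
  s.1 (IsLocalRing.closedPoint Ω)

theorem imgPt_range {ξ : Spec (CommRingCat.of Ω) ⟶ X} {Z : FEt.Cat X} (s : FEt.fiberObj ξ Z)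
    {y : Z.left} (h : y ∈ Set.range s.1) : imgPt s = y := by
  obtain ⟨t, rfl⟩ := h
  exact congrArg s.1 (Subsingleton.elim (α := PrimeSpectrum Ω) _ _)

theorem base_imgPt {ξ : Spec (CommRingCat.of Ω) ⟶ X} {Z : FEt.Cat X} (s : FEt.fiberObj ξ Z) :
    Z.hom (imgPt s) = ξ (IsLocalRing.closedPoint Ω) := by
  exact (Scheme.Hom.comp_apply (show Spec (CommRingCat.of Ω) ⟶ Z.left from s.1) Z.hom _).symm.trans
    (congrArg (fun k : Spec (CommRingCat.of Ω) ⟶ X => k (IsLocalRing.closedPoint Ω)) s.2)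

theorem imgPt_map {ξ : Spec (CommRingCat.of Ω) ⟶ X} {Z Z' : FEt.Cat X} (f : Z ⟶ Z')
    (s : FEt.fiberObj ξ Z) : imgPt ((FEt.fiber ξ).map f s) = f.left (imgPt s) :=
  Scheme.Hom.comp_apply _ _ _

set_option backward.isDefEq.respectTransparency.types false in
/-- A clopen subset of a cover is a cover. -/
theorem exists_subcover (Z : FEt.Cat X) (T : Set Z.left) (hT : IsClopen T) :
    ∃ (A : FEt.Cat X) (i : A ⟶ Z), IsOpenImmersion i.left ∧ Set.range i.left = T := by
  let W : Z.left.Opens := ⟨T, hT.2⟩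
  have : IsClosedImmersion W.ι := .of_isPreimmersion W.ι (by
    rw [Scheme.Opens.range_ι]; exact hT.1)
  have : IsFinite Z.hom := Z.prop.1
  have : Etale Z.hom := Z.prop.2
  exact ⟨MorphismProperty.Over.mk ⊤ (W.ι ≫ Z.hom) ⟨inferInstance, inferInstance⟩,
    MorphismProperty.Over.homMk W.ι rfl, (show IsOpenImmersion W.ι from inferInstance), Scheme.Opens.range_ι W⟩

set_option backward.isDefEq.respectTransparency.types false in
/-- Fibre points in a clopen subcover lift. -/
theorem exists_lift_subcover {ξ : Spec (CommRingCat.of Ω) ⟶ X} {A Z : FEt.Cat X} (i : A ⟶ Z)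
    [IsOpenImmersion i.left] (s : FEt.fiberObj ξ Z) (h : imgPt s ∈ Set.range i.left) :
    ∃ a : FEt.fiberObj ξ A, (FEt.fiber ξ).map i a = s := by
  have hr : Set.range s.1 ⊆ Set.range i.left := by
    rintro y hy
    rwa [← imgPt_range s hy]
  refine ⟨⟨IsOpenImmersion.lift i.left s.1 hr, ?_⟩, Subtype.ext (IsOpenImmersion.lift_fac _ _ _)⟩
  refine (congrArg (_ ≫ ·) (Over.w i.hom).symm).trans ((Category.assoc _ _ _).symm.trans ?_)
  exact (congrArg (· ≫ Z.hom) (IsOpenImmersion.lift_fac _ _ _)).trans s.2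

/-- Natural maps of fibre functors preserve membership in clopen subsets. -/
theorem imgPt_mem_of_natTrans {ξ : Spec (CommRingCat.of Ω) ⟶ X} {ξ' : Spec (CommRingCat.of Ω') ⟶ X}
    (φ : FEt.fiber ξ ⟶ FEt.fiber ξ') (Z : FEt.Cat X) (T : Set Z.left) (hT : IsClopen T)
    (s : FEt.fiberObj ξ Z) (h : imgPt s ∈ T) : imgPt (φ.app Z s) ∈ T := by
  obtain ⟨A, i, hi, hr⟩ := exists_subcover Z T hT
  obtain ⟨a, rfl⟩ := exists_lift_subcover i s (hr.ge h)
  have e : φ.app Z ((FEt.fiber ξ).map i a) = (FEt.fiber ξ').map i (φ.app A a) :=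
    NatTrans.naturality_apply φ i a
  rw [e]
  refine Eq.mpr (congrArg (· ∈ T) (imgPt_map i (φ.app A a))) ?_
  exact hr.le (Set.mem_range_self _)

theorem imgPt_mem_iff_of_iso {ξ : Spec (CommRingCat.of Ω) ⟶ X} {ξ' : Spec (CommRingCat.of Ω') ⟶ X}
    (φ : FEt.fiber ξ ≅ FEt.fiber ξ') (Z : FEt.Cat X) (T : Set Z.left) (hT : IsClopen T)
    (s : FEt.fiberObj ξ Z) : imgPt (φ.hom.app Z s) ∈ T ↔ imgPt s ∈ T := by
  refine ⟨fun h => ?_, imgPt_mem_of_natTrans φ.hom Z T hT s⟩
  have h' := imgPt_mem_of_natTrans φ.inv Z T hT _ h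
  have e : φ.inv.app Z (φ.hom.app Z s) = s := congr($(Iso.hom_inv_id_app φ Z) s)
  rwa [e] at h'

/-- A clopen subset without fibre points is empty. -/
theorem eq_empty_of_forall_notMem [IsSepClosed Ω] [ConnectedSpace X] (ξ : Spec (CommRingCat.of Ω) ⟶ X)
    (Z : FEt.Cat X) (T : Set Z.left) (hT : IsClopen T)
    (h : ∀ s : FEt.fiberObj ξ Z, imgPt s ∉ T) : T = ∅ := by
  by_contra hne
  have : IsFinite Z.hom := Z.prop.1
  have : Etale Z.hom := Z.prop.2
  have himg : Z.hom '' T = (Set.univ : Set X) :=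
    IsClopen.eq_univ (α := X) ⟨Z.hom.isClosedMap _ hT.1, Z.hom.isOpenMap _ hT.2⟩
      ((Set.nonempty_iff_ne_empty.mpr hne).image _)
  obtain ⟨t⟩ : Nonempty (Spec (CommRingCat.of Ω)) := inferInstance
  obtain ⟨y, hy, hyt⟩ := himg.ge (Set.mem_univ (ξ t))
  obtain ⟨s, hs⟩ := exists_fiberObj ξ Z y t hyt
  exact h s (by rwa [imgPt_range s hs])

set_option maxHeartbeats 1600000 in
set_option backward.isDefEq.respectTransparency.types false in
/-- A subset of the fibre stable under all automorphisms comes from a clopen subset. -/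
theorem exists_clopen_of_stable [IsSepClosed Ω] [ConnectedSpace X] (ξ : Spec (CommRingCat.of Ω) ⟶ X)
    (Z : FEt.Cat X) (B : Set (FEt.fiberObj ξ Z))
    (hB : ∀ σ : Aut (FEt.fiber ξ), ∀ s ∈ B, σ.hom.app Z s ∈ B) :
    ∃ T : Set Z.left, IsClopen T ∧ ∀ s, imgPt s ∈ T ↔ s ∈ B := by
  let _ := galoisCategory ξ
  have := fiberFunctor ξ
  have := finite_fiberObj ξ Z
  -- one component through each point of the fibre
  have hcomp : ∀ b : FEt.fiberObj ξ Z, ∃ T : Set Z.left, IsClopen T ∧ imgPt b ∈ T ∧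
      ∀ s : FEt.fiberObj ξ Z, imgPt s ∈ T → ∃ σ : Aut (FEt.fiber ξ), σ.hom.app Z b = s := by
    intro b
    obtain ⟨eF⟩ : Nonempty (fiberF ξ ⋙ FintypeCat.incl ≅ FEt.fiber ξ) := ⟨fiberFIso ξ⟩
    obtain ⟨A, i, a, ha, hA, hmono⟩ := fiber_in_connected_component (fiberF ξ) Z (eF.inv.app Z b)
    obtain ⟨_, _⟩ := isFinite_left i
    have := mono_left i
    have : IsOpenImmersion i.left := IsOpenImmersion.of_flat_of_mono i.left
    have hab : (FEt.fiber ξ).map i (eF.hom.app A a) = b := by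
      refine (NatTrans.naturality_apply eF.hom i a).symm.trans ?_
      refine (congrArg (eF.hom.app Z) (show (fiberF ξ ⋙ FintypeCat.incl).map i a = eF.inv.app Z b from ha)).trans ?_
      exact congr($(Iso.inv_hom_id_app eF Z) b)
    refine ⟨Set.range i.left, ⟨i.left.isClosedMap.isClosed_range, i.left.isOpenEmbedding.isOpen_range⟩,
      ?_, fun s hs => ?_⟩
    · rw [← hab, imgPt_map]; exact Set.mem_range_self _
    · obtain ⟨a', rfl⟩ := exists_lift_subcover i s hs
      obtain ⟨τ, hτ⟩ := MulAction.exists_smul_eq (Aut (fiberF ξ)) a (eF.inv.app A a')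
      let σ : Aut (FEt.fiber ξ) := eF.symm ≪≫ Functor.isoWhiskerRight τ FintypeCat.incl ≪≫ eF
      refine ⟨σ, ?_⟩
      rw [← hab]
      refine (NatTrans.naturality_apply σ.hom i _).trans (congrArg ((FEt.fiber ξ).map i) ?_)
      show eF.hom.app A (τ.hom.app A (eF.inv.app A (eF.hom.app A a))) = a'
      rw [show eF.inv.app A (eF.hom.app A a) = a from congr($(Iso.hom_inv_id_app eF A) a),
        show τ.hom.app A a = eF.inv.app A a' from hτ]
      exact congr($(Iso.inv_hom_id_app eF A) a')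
  choose T hT hbT hTσ using hcomp
  refine ⟨⋃ b : B, T b, ⟨isClosed_iUnion_of_finite fun b => (hT _).1,
    isOpen_iUnion fun b => (hT _).2⟩, fun s => ⟨fun h => ?_, fun h => ?_⟩⟩
  · obtain ⟨b, hb⟩ := Set.mem_iUnion.mp h
    obtain ⟨σ, rfl⟩ := hTσ _ _ hb
    exact hB σ _ b.2
  · exact Set.mem_iUnion.mpr ⟨⟨s, h⟩, hbT s⟩

/-- Stability under generators gives stability under the whole group. -/
theorem stable_of_topGenerates (ξ : Spec (CommRingCat.of Ω) ⟶ X) (S : Set (FEt.piOne X ξ))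
    (hS : PiSp.TopGenerates S) (Z : FEt.Cat X) (B : Set (FEt.fiberObj ξ Z))
    (hB : ∀ σ ∈ S, ∀ s ∈ B, σ.hom.app Z s ∈ B) (σ : FEt.piOne X ξ) :
    ∀ s ∈ B, σ.hom.app Z s ∈ B := by
  have := finite_fiberObj ξ Z
  have hcl : ∀ τ ∈ Subgroup.closure S, ∀ s ∈ B, τ.hom.app Z s ∈ B := by
    intro τ hτ
    induction hτ using Subgroup.closure_induction with
    | mem τ hτ => exact hB τ hτ
    | one => exact fun s hs => hs
    | mul τ τ' _ _ h h' => exact fun s hs => h _ (h' s hs)
    | inv τ _ h =>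
      intro s hs
      let f : B → B := fun b => ⟨τ.hom.app Z b.1, h b.1 b.2⟩
      have hinj : Function.Injective f := fun b b' e => by
        have e' := congrArg (fun x : B => τ.inv.app Z x.1) e
        have l : ∀ x, τ.inv.app Z (τ.hom.app Z x) = x := fun x => congr($(Iso.hom_inv_id_app τ Z) x)
        exact Subtype.ext ((l b.1).symm.trans (e'.trans (l b'.1)))
      obtain ⟨b, hb⟩ := (Finite.injective_iff_surjective.mp hinj) ⟨s, hs⟩
      have hb' : τ.hom.app Z b.1 = s := congrArg Subtype.val hb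
      show τ.inv.app Z s ∈ B
      rw [← hb', show τ.inv.app Z (τ.hom.app Z b.1) = b.1 from congr($(Iso.hom_inv_id_app τ Z) b.1)]
      exact b.2
  let ev : FEt.piOne X ξ → (FEt.fiberObj ξ Z → FEt.fiberObj ξ Z) := fun τ s => τ.hom.app Z s
  let O : Set (FEt.piOne X ξ) := ev ⁻¹' {ev σ}
  have hO : IsOpen O := by
    let G : FEt.piOne X ξ → ∀ W : FEt.Cat X, FEt.fiberObj ξ W → FEt.fiberObj ξ W :=
      fun τ W s => τ.hom.app W s
    let _ : ∀ W : FEt.Cat X, TopologicalSpace (FEt.fiberObj ξ W → FEt.fiberObj ξ W) := fun _ => ⊥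
    have h1 : Continuous G := continuous_induced_dom
    have hc : Continuous ev := (continuous_apply Z).comp h1
    have : DiscreteTopology (FEt.fiberObj ξ Z → FEt.fiberObj ξ Z) := ⟨rfl⟩
    exact (isOpen_discrete {ev σ}).preimage hc
  obtain ⟨τ, hτO, hτ⟩ := hS.inter_open_nonempty O hO ⟨σ, rfl⟩
  intro s hs
  have e : ev τ = ev σ := hτO
  show ev σ s ∈ B
  rw [← e]
  exact hcl τ hτ s hs

set_option backward.isDefEq.respectTransparency.types false in
/-- Finitely many fibre points in finitely many covers come from one fibre point. -/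
theorem exists_product (ξ : Spec (CommRingCat.of Ω) ⟶ X)
    (l : List (Σ Z : FEt.Cat X, FEt.fiberObj ξ Z)) :
    ∃ (P : FEt.Cat X) (p : FEt.fiberObj ξ P), ∀ q ∈ l, ∃ f : P ⟶ q.1, (FEt.fiber ξ).map f p = q.2 := by
  induction l with
  | nil =>
    exact ⟨MorphismProperty.Over.mk ⊤ (𝟙 X) ⟨inferInstance, inferInstance⟩,
      ⟨ξ, Category.comp_id _⟩, fun q hq => by simp at hq⟩
  | cons q l ih =>
    obtain ⟨P, p, hp⟩ := ih
    have : IsFinite P.hom := P.prop.1
    have : Etale P.hom := P.prop.2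
    have : IsFinite q.1.hom := q.1.prop.1
    have : Etale q.1.hom := q.1.prop.2
    let Q : FEt.Cat X := MorphismProperty.Over.mk ⊤ (pullback.fst q.1.hom P.hom ≫ q.1.hom)
      ⟨MorphismProperty.comp_mem (W := @IsFinite) _ _
          (MorphismProperty.pullback_fst (P := @IsFinite) _ _ ‹_›) ‹_›,
        MorphismProperty.comp_mem (W := @Etale) _ _
          (MorphismProperty.pullback_fst (P := @Etale) _ _ ‹_›) ‹_›⟩
    let pr₁ : Q ⟶ q.1 := MorphismProperty.Over.homMk (pullback.fst _ _) rfl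
    let pr₂ : Q ⟶ P := MorphismProperty.Over.homMk (pullback.snd _ _) pullback.condition.symm
    let w : FEt.fiberObj ξ Q := ⟨pullback.lift q.2.1 p.1 (q.2.2.trans p.2.symm),
      (Category.assoc _ _ _).symm.trans ((congrArg (· ≫ q.1.hom) (pullback.lift_fst _ _ _)).trans q.2.2)⟩
    refine ⟨Q, w, fun r hr => ?_⟩
    rcases List.mem_cons.mp hr with rfl | hr
    · exact ⟨pr₁, Subtype.ext (pullback.lift_fst _ _ _)⟩
    · obtain ⟨f, hf⟩ := hp r hr
      refine ⟨pr₂ ≫ f, ?_⟩
      rw [← hf]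
      refine Subtype.ext ((Category.assoc _ _ _).symm.trans ?_)
      exact congrArg (· ≫ f.left) (pullback.lift_snd _ _ _)

/-- A criterion for topological generation. -/
theorem topGenerates_of_stable (ξ : Spec (CommRingCat.of Ω) ⟶ X) (S : Set (FEt.piOne X ξ))
    (h : ∀ (Z : FEt.Cat X) (B : Set (FEt.fiberObj ξ Z)), (∀ σ ∈ S, ∀ s ∈ B, σ.hom.app Z s ∈ B) →
      ∀ σ : FEt.piOne X ξ, ∀ s ∈ B, σ.hom.app Z s ∈ B) : PiSp.TopGenerates S := by
  classical
  rw [PiSp.TopGenerates, dense_iff_inter_open]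
  rintro O hO ⟨σ, hσ⟩
  obtain ⟨O', hO', rfl⟩ := hO
  obtain ⟨I, u, hu, hsub⟩ := (@isOpen_pi_iff (FEt.Cat X)
    (fun Z => FEt.fiberObj ξ Z → FEt.fiberObj ξ Z) (fun _ => ⊥) O').mp hO' _ hσ
  have : ∀ Z : FEt.Cat X, Fintype (FEt.fiberObj ξ Z) := fun Z =>
    @Fintype.ofFinite _ (finite_fiberObj ξ Z)
  let l : List (Σ Z : FEt.Cat X, FEt.fiberObj ξ Z) := (I.sigma fun _ => Finset.univ).toList
  obtain ⟨P, p, hp⟩ := exists_product ξ l
  let B : Set (FEt.fiberObj ξ P) := {x | ∃ τ ∈ Subgroup.closure S, τ.hom.app P p = x}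
  obtain ⟨τ, hτ, hτp⟩ := h P B (fun ρ hρ x ⟨τ, hτ, e⟩ =>
    ⟨ρ * τ, Subgroup.mul_mem _ (Subgroup.subset_closure hρ) hτ,
      congrArg (ρ.hom.app P) e⟩) σ p ⟨1, Subgroup.one_mem _, rfl⟩
  refine ⟨τ, hsub fun Z hZ => ?_, hτ⟩
  have e : (fun s => τ.hom.app Z s) = fun s => σ.hom.app Z s := by
    funext s
    obtain ⟨f, (hf : (FEt.fiber ξ).map f p = s)⟩ := hp ⟨Z, s⟩
      (Finset.mem_toList.mpr (Finset.mem_sigma.mpr ⟨hZ, Finset.mem_univ _⟩))
    have h1 := NatTrans.naturality_apply τ.hom f p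
    have h2 := NatTrans.naturality_apply σ.hom f p
    rw [← hf]
    exact h1.trans ((congrArg ((FEt.fiber ξ).map f) hτp).trans h2.symm)
  show (fun s => τ.hom.app Z s) ∈ u Z
  rw [e]
  exact (hu Z hZ).2

/-- A Noetherian space is a finite union of clopen connected pieces. -/
theorem exists_finite_components (X : Scheme.{u}) [NoetherianSpace X] :
    ∃ (n : ℕ) (C : Fin n → X.Opens), (∀ i, IsClosed (C i : Set X)) ∧ (∀ i, ConnectedSpace (C i)) ∧
      (∀ x, ∃ i, x ∈ C i) ∧ Function.Injective C := by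
  classical
  have hopen : ∀ x : X, IsOpen (connectedComponent x) := by
    intro x
    rw [← isClosed_compl_iff]
    let s := {Z ∈ irreducibleComponents X | Disjoint Z (connectedComponent x)}
    have hs : s.Finite := NoetherianSpace.finite_irreducibleComponents.subset fun Z h => h.1
    have : (connectedComponent x)ᶜ = ⋃ Z ∈ s, Z := by
      ext y
      constructor
      · intro hy
        refine Set.mem_biUnion ⟨irreducibleComponent_mem_irreducibleComponents y, ?_⟩ mem_irreducibleComponent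
        rw [Set.disjoint_left]
        intro z hz hzx
        refine hy ?_
        rw [connectedComponent_eq hzx]
        exact (isIrreducible_irreducibleComponent.isConnected.isPreconnected).subset_connectedComponent hz
          mem_irreducibleComponent
      · intro hy
        obtain ⟨Z, hZ, hyZ⟩ := Set.mem_iUnion₂.mp hy
        exact Set.disjoint_left.mp hZ.2 hyZ
    rw [this]
    exact hs.isClosed_biUnion fun Z hZ => isClosed_of_mem_irreducibleComponents Z hZ.1
  obtain ⟨t, ht⟩ := (NoetherianSpace.isCompact (Set.univ : Set X)).elim_finite_subcover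
    (fun x : X => connectedComponent x) hopen fun x _ => Set.mem_iUnion.mpr ⟨x, mem_connectedComponent⟩
  let P : Finset X.Opens := t.image fun x => ⟨connectedComponent x, hopen x⟩
  let e := P.equivFin.symm
  have hP : ∀ i, ∃ x : X, (e i).1 = (⟨connectedComponent x, hopen x⟩ : X.Opens) := fun i => by
    obtain ⟨x, -, hx⟩ := Finset.mem_image.mp (e i).2
    exact ⟨x, hx.symm⟩
  refine ⟨P.card, fun i => (e i).1, fun i => ?_, fun i => ?_, fun x => ?_,
    Subtype.val_injective.comp e.injective⟩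
  · obtain ⟨x, hx⟩ := hP i
    show IsClosed ((e i).1 : Set X)
    rw [hx]
    exact isClosed_connectedComponent
  · obtain ⟨x, hx⟩ := hP i
    show ConnectedSpace ((e i).1 : X.Opens)
    rw [hx]
    exact Subtype.connectedSpace isConnected_connectedComponent
  · obtain ⟨y, hy, hxy⟩ := Set.mem_iUnion₂.mp (ht (Set.mem_univ x))
    refine ⟨e.symm ⟨_, Finset.mem_image_of_mem _ hy⟩, ?_⟩
    show x ∈ (e (e.symm _)).1
    rw [Equiv.apply_symm_apply]
    exact hxy

/-- Geometric points exist. -/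
theorem exists_geometricPoint (X : Scheme.{u}) [Nonempty X] :
    ∃ (Ω : Type u) (_ : Field Ω) (_ : IsAlgClosed Ω), Nonempty (Spec (CommRingCat.of Ω) ⟶ X) := by
  obtain ⟨x⟩ := ‹Nonempty X›
  exact ⟨AlgebraicClosure (X.residueField x), inferInstance, inferInstance,
    ⟨Spec.map (CommRingCat.ofHom (algebraMap (X.residueField x)
      (AlgebraicClosure (X.residueField x)))) ≫ X.fromSpecResidueField x⟩⟩

variable {S' : Scheme.{u}}

set_option maxHeartbeats 1600000 in
set_option backward.isDefEq.respectTransparency.types false in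
/-- Topological generators descend along proper surjective morphisms. -/
theorem exists_topGenerates_of_proper [IsSepClosed Ω] [IsNoetherian X] [ConnectedSpace X]
    (g : S' ⟶ X) [IsProper g] [Surjective g]
    (hfg : ∀ (C : S'.Opens), IsClosed (C : Set S') → ConnectedSpace C →
      ∀ (Ω : Type u) [Field Ω] [IsAlgClosed Ω] (η : Spec (CommRingCat.of Ω) ⟶ (C : Scheme.{u})),
        ∃ F : Finset (FEt.piOne (C : Scheme.{u}) η),
          PiSp.TopGenerates (F : Set (FEt.piOne (C : Scheme.{u}) η)))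
    (ξ : Spec (CommRingCat.of Ω) ⟶ X) :
    ∃ F : Finset (FEt.piOne X ξ), PiSp.TopGenerates (F : Set (FEt.piOne X ξ)) := by
  classical
  let W := pullback g g
  let p₁ : W ⟶ S' := pullback.fst g g
  let p₂ : W ⟶ S' := pullback.snd g g
  have : IsLocallyNoetherian S' := LocallyOfFiniteType.isLocallyNoetherian g
  have : IsNoetherian S' := { toCompactSpace := QuasiCompact.compactSpace_of_compactSpace g }
  have : IsLocallyNoetherian W := LocallyOfFiniteType.isLocallyNoetherian p₁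
  have : IsNoetherian W := { toCompactSpace := QuasiCompact.compactSpace_of_compactSpace p₁ }
  obtain ⟨n, C, hCc, hCn, hCcov, hCinj⟩ := exists_finite_components S'
  obtain ⟨m, D, hDc, hDn, hDcov, -⟩ := exists_finite_components W
  choose K fK aK eta' using fun i => exists_geometricPoint (C i : Scheme.{u})
  let η : ∀ i, Spec (CommRingCat.of (K i)) ⟶ (C i : Scheme.{u}) := fun i => (eta' i).some
  choose F hF using fun i => hfg (C i) (hCc i) (hCn i) (K i) (η i)
  let γ : ∀ i, FEt.fiber ((η i ≫ (C i).ι) ≫ g) ≅ FEt.fiber ξ := fun i =>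
    (nonempty_fiber_iso _ _).some
  let e : ∀ i, FEt.restrict g ⋙ FEt.restrict (C i).ι ⋙ FEt.fiber (η i) ≅ FEt.fiber ξ := fun i =>
    Functor.isoWhiskerLeft (FEt.restrict g) (restrictFiberIso (C i).ι (η i) _ rfl) ≪≫
      restrictFiberIso g (η i ≫ (C i).ι) _ rfl ≪≫ γ i
  let push : ∀ i, FEt.piOne (C i : Scheme.{u}) (η i) → FEt.piOne X ξ := fun i σ =>
    (e i).symm ≪≫ Functor.isoWhiskerLeft (FEt.restrict g)
      (Functor.isoWhiskerLeft (FEt.restrict (C i).ι) σ) ≪≫ e i
  -- geometric points of the components of the fibre product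
  choose L fL aL del' using fun d => exists_geometricPoint (D d : Scheme.{u})
  let δ : ∀ d, Spec (CommRingCat.of (L d)) ⟶ W := fun d => (del' d).some ≫ (D d).ι
  choose c₁ hc₁ using fun d => hCcov ((δ d ≫ p₁) (IsLocalRing.closedPoint (L d)))
  choose c₂ hc₂ using fun d => hCcov ((δ d ≫ p₂) (IsLocalRing.closedPoint (L d)))
  have hrange : ∀ {M : Type u} [Field M] (q : Spec (CommRingCat.of M) ⟶ S') (i : Fin n),
      q (IsLocalRing.closedPoint M) ∈ C i → Set.range q ⊆ Set.range (C i).ι := by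
    rintro M _ q i h _ ⟨t, rfl⟩
    rw [Scheme.Opens.range_ι, Subsingleton.elim (α := PrimeSpectrum M) t (IsLocalRing.closedPoint M)]
    exact h
  let a₁ := fun d => IsOpenImmersion.lift (C (c₁ d)).ι (δ d ≫ p₁) (hrange _ _ (hc₁ d))
  let a₂ := fun d => IsOpenImmersion.lift (C (c₂ d)).ι (δ d ≫ p₂) (hrange _ _ (hc₂ d))
  let q : ∀ d, Spec (CommRingCat.of (L d)) ⟶ X := fun d => (δ d ≫ p₁) ≫ g
  have hq₂ : ∀ d, (δ d ≫ p₂) ≫ g = q d := fun d => by
    show (δ d ≫ p₂) ≫ g = (δ d ≫ p₁) ≫ g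
    exact (Category.assoc _ _ _).trans
      ((congrArg (δ d ≫ ·) pullback.condition.symm).trans (Category.assoc _ _ _).symm)
  let lam₁ : ∀ d, FEt.fiber (q d) ≅ FEt.fiber ξ := fun d =>
    (restrictFiberIso g (δ d ≫ p₁) (q d) rfl).symm ≪≫ Functor.isoWhiskerLeft (FEt.restrict g)
      ((restrictFiberIso (C (c₁ d)).ι (a₁ d) _ (IsOpenImmersion.lift_fac _ _ _)).symm ≪≫
        Functor.isoWhiskerLeft (FEt.restrict (C (c₁ d)).ι) (nonempty_fiber_iso (a₁ d) (η (c₁ d))).some) ≪≫
      e (c₁ d)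
  let lam₂ : ∀ d, FEt.fiber (q d) ≅ FEt.fiber ξ := fun d =>
    (restrictFiberIso g (δ d ≫ p₂) (q d) (hq₂ d)).symm ≪≫ Functor.isoWhiskerLeft (FEt.restrict g)
      ((restrictFiberIso (C (c₂ d)).ι (a₂ d) _ (IsOpenImmersion.lift_fac _ _ _)).symm ≪≫
        Functor.isoWhiskerLeft (FEt.restrict (C (c₂ d)).ι) (nonempty_fiber_iso (a₂ d) (η (c₂ d))).some) ≪≫
      e (c₂ d)
  let τ : Fin m → FEt.piOne X ξ := fun d => (lam₁ d).symm ≪≫ lam₂ d
  refine ⟨(Finset.univ.biUnion fun i => (F i).image (push i)) ∪ Finset.univ.image τ, ?_⟩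
  refine topGenerates_of_stable ξ _ fun Z B hB => ?_
  have := finite_fiberObj ξ Z
  let Z' := (FEt.restrict g).obj Z
  let pr : Z'.left ⟶ Z.left := pullback.fst Z.hom g
  -- the clopen pieces
  let Bi : ∀ i, Set (FEt.fiberObj (η i) ((FEt.restrict (C i).ι).obj Z')) := fun i =>
    {s | (e i).hom.app Z s ∈ B}
  have hBi : ∀ i, ∃ T : Set ((FEt.restrict (C i).ι).obj Z').left, IsClopen T ∧
      ∀ s, imgPt s ∈ T ↔ s ∈ Bi i := fun i => by
    refine exists_clopen_of_stable (η i) _ (Bi i) fun σ => ?_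
    refine stable_of_topGenerates (η i) _ (hF i) _ (Bi i) (fun ρ hρ s hs => ?_) σ
    show (e i).hom.app Z (ρ.hom.app _ s) ∈ B
    have h1 := hB (push i ρ) (Finset.mem_coe.mpr (Finset.mem_union_left _
      (Finset.mem_biUnion.mpr ⟨i, Finset.mem_univ i, Finset.mem_image_of_mem _ hρ⟩))) _ hs
    have h2 : (e i).inv.app Z ((e i).hom.app Z s) = s := congr($(Iso.hom_inv_id_app (e i) Z) s)
    change (e i).hom.app Z (ρ.hom.app _ ((e i).inv.app Z ((e i).hom.app Z s))) ∈ B at h1
    rwa [h2] at h1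
  choose T hT hTB using hBi
  let fi : ∀ i, ((FEt.restrict (C i).ι).obj Z').left ⟶ Z'.left := fun i => pullback.fst Z'.hom (C i).ι
  have hfi : ∀ i, IsOpenImmersion (fi i) := fun i =>
    MorphismProperty.pullback_fst (P := @IsOpenImmersion) _ _ inferInstance
  have hrg : ∀ i, Set.range (fi i) = Z'.hom ⁻¹' (C i : Set S') := fun i =>
    (Scheme.Pullback.range_fst _ _).trans (congrArg _ (Scheme.Opens.range_ι _))
  have hfc : ∀ i, IsClosed (Set.range (fi i)) := fun i => by
    rw [hrg i]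
    exact (hCc i).preimage Z'.hom.continuous
  let T' : Set Z'.left := ⋃ i, fi i '' T i
  have hT' : IsClopen T' := by
    refine ⟨isClosed_iUnion_of_finite fun i => ?_, isOpen_iUnion fun i => ?_⟩
    · exact (Topology.IsClosedEmbedding.mk (fi i).isOpenEmbedding.isEmbedding (hfc i)).isClosedMap _ (hT i).1
    · exact (fi i).isOpenEmbedding.isOpenMap _ (hT i).2
  -- different pieces do not overlap
  have hdisj : ∀ i j (x : ((FEt.restrict (C i).ι).obj Z').left),
      Z'.hom (fi i x) ∈ C j → C i = C j := by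
    intro i j x hx
    have hxi : Z'.hom (fi i x) ∈ C i := by
      have h : fi i x ∈ Set.range (fi i) := Set.mem_range_self x
      exact (hrg i).le h
    have hi := isConnected_iff_connectedSpace.mpr (hCn i)
    have hj := isConnected_iff_connectedSpace.mpr (hCn j)
    exact le_antisymm
      (hi.isPreconnected.subset_isClopen ⟨hCc j, (C j).2⟩ ⟨_, hxi, hx⟩)
      (hj.isPreconnected.subset_isClopen ⟨hCc i, (C i).2⟩ ⟨_, hx, hxi⟩)
  -- membership in the glued clopen
  have hmem : ∀ {M : Type u} [Field M] (i : Fin n) (a : Spec (CommRingCat.of M) ⟶ (C i : Scheme.{u}))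
      (φ : FEt.fiber a ≅ FEt.fiber (η i))
      (s : FEt.fiberObj a ((FEt.restrict (C i).ι).obj Z')),
      fi i (imgPt s) ∈ T' ↔ (e i).hom.app Z (φ.hom.app _ s) ∈ B := by
    intro M _ i a φ s
    refine Iff.trans ?_ (Iff.trans (imgPt_mem_iff_of_iso φ _ (T i) (hT i) s).symm (hTB i _))
    refine ⟨fun h => ?_, fun h => Set.mem_iUnion.mpr ⟨i, _, h, rfl⟩⟩
    obtain ⟨j, y, hy, hyx⟩ := Set.mem_iUnion.mp h
    by_cases hij : i = j
    · subst hij
      rwa [← (fi i).isOpenEmbedding.injective hyx]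
    · refine absurd (hCinj (hdisj i j (imgPt s) ?_)) hij
      rw [← hyx]
      exact (hrg j).le (Set.mem_range_self y)
  -- membership along the two projections
  have hlam₁ : ∀ d (s : FEt.fiberObj (q d) Z),
      (imgPt ((restrictFiberIso g (δ d ≫ p₁) (q d) rfl).inv.app Z s) : Z'.left) ∈ T' ↔
        (lam₁ d).hom.app Z s ∈ B := by
    intro d s
    let s' := (restrictFiberIso g (δ d ≫ p₁) (q d) rfl).inv.app Z s
    let s'' := (restrictFiberIso (C (c₁ d)).ι (a₁ d) _ (IsOpenImmersion.lift_fac _ _ _)).inv.app Z' s'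
    have h := hmem (c₁ d) (a₁ d) (nonempty_fiber_iso (a₁ d) (η (c₁ d))).some s''
    have he : fi (c₁ d) (imgPt s'') = imgPt s' :=
      congrArg (fun k : Spec (CommRingCat.of (L d)) ⟶ Z'.left => k (IsLocalRing.closedPoint (L d)))
        (pullback.lift_fst (f := Z'.hom) (g := (C (c₁ d)).ι) s'.1 (a₁ d) _)
    rw [he] at h
    exact h
  have hlam₂ : ∀ d (s : FEt.fiberObj (q d) Z),
      (imgPt ((restrictFiberIso g (δ d ≫ p₂) (q d) (hq₂ d)).inv.app Z s) : Z'.left) ∈ T' ↔
        (lam₂ d).hom.app Z s ∈ B := by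
    intro d s
    let s' := (restrictFiberIso g (δ d ≫ p₂) (q d) (hq₂ d)).inv.app Z s
    let s'' := (restrictFiberIso (C (c₂ d)).ι (a₂ d) _ (IsOpenImmersion.lift_fac _ _ _)).inv.app Z' s'
    have h := hmem (c₂ d) (a₂ d) (nonempty_fiber_iso (a₂ d) (η (c₂ d))).some s''
    have he : fi (c₂ d) (imgPt s'') = imgPt s' :=
      congrArg (fun k : Spec (CommRingCat.of (L d)) ⟶ Z'.left => k (IsLocalRing.closedPoint (L d)))
        (pullback.lift_fst (f := Z'.hom) (g := (C (c₂ d)).ι) s'.1 (a₂ d) _)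
    rw [he] at h
    exact h
  -- the two pullbacks agree
  let ZW := (FEt.restrict (p₁ ≫ g)).obj Z
  let π₁ : ZW.left ⟶ Z'.left := pullback.map _ _ _ _ (𝟙 _) p₁ (𝟙 _) (by simp) (by simp)
  let π₂ : ZW.left ⟶ Z'.left := pullback.map _ _ _ _ (𝟙 _) p₂ (𝟙 _) (by simp)
    (by simp [p₁, p₂, pullback.condition])
  have hstab : ∀ d (x : FEt.fiberObj ξ Z), (τ d).hom.app Z x ∈ B ↔ x ∈ B := by
    intro d x
    have h1 := hB (τ d) (Finset.mem_coe.mpr (Finset.mem_union_right _
      (Finset.mem_image_of_mem _ (Finset.mem_univ d))))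
    let f : B → B := fun b => ⟨(τ d).hom.app Z b.1, h1 b.1 b.2⟩
    have hl : ∀ x, (τ d).inv.app Z ((τ d).hom.app Z x) = x := fun x =>
      congr($(Iso.hom_inv_id_app (τ d) Z) x)
    have hinj : Function.Injective f := fun b b' h => Subtype.ext <| by
      rw [← hl b.1, ← hl b'.1]
      exact congrArg ((τ d).inv.app Z) (congrArg Subtype.val h)
    refine ⟨fun h => ?_, h1 x⟩
    obtain ⟨b, hb⟩ := Finite.injective_iff_surjective.mp hinj ⟨_, h⟩
    rw [← hl x, ← show (τ d).hom.app Z b.1 = (τ d).hom.app Z x from congrArg Subtype.val hb, hl]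
    exact b.2
  have hagree : ∀ z : ZW.left, π₁ z ∈ T' ↔ π₂ z ∈ T' := by
    intro z
    obtain ⟨d, hd⟩ := hDcov (ZW.hom z)
    let Dd : Scheme.{u} := (D d : Scheme.{u})
    have : ConnectedSpace Dd := hDn d
    let ZD := (FEt.restrict (D d).ι).obj ZW
    let κ : ZD.left ⟶ ZW.left := pullback.fst ZW.hom (D d).ι
    obtain ⟨y, hy, -⟩ := Scheme.Pullback.exists_preimage_pullback (f := ZW.hom) (g := (D d).ι) z
      (⟨ZW.hom z, hd⟩ : (D d : Scheme.{u})) rfl
    by_contra hne
    have hK : IsClopen {y : ZD.left | ¬ (π₁ (κ y) ∈ T' ↔ π₂ (κ y) ∈ T')} := by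
      have c1 : IsClopen ((π₁ ∘ κ) ⁻¹' T' : Set ZD.left) :=
        hT'.preimage (π₁.continuous.comp κ.continuous)
      have c2 : IsClopen ((π₂ ∘ κ) ⁻¹' T' : Set ZD.left) :=
        hT'.preimage (π₂.continuous.comp κ.continuous)
      have : {y : ZD.left | ¬ (π₁ (κ y) ∈ T' ↔ π₂ (κ y) ∈ T')} =
          ((π₁ ∘ κ) ⁻¹' T') \ ((π₂ ∘ κ) ⁻¹' T') ∪ ((π₂ ∘ κ) ⁻¹' T') \ ((π₁ ∘ κ) ⁻¹' T') := by
        ext y
        show ¬ (π₁ (κ y) ∈ T' ↔ π₂ (κ y) ∈ T') ↔ (π₁ (κ y) ∈ T' ∧ ¬ π₂ (κ y) ∈ T') ∨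
          (π₂ (κ y) ∈ T' ∧ ¬ π₁ (κ y) ∈ T')
        tauto
      rw [this]
      exact (c1.diff c2).union (c2.diff c1)
    have hempty := eq_empty_of_forall_notMem ((del' d).some) ZD _ hK fun s hs => hs ?_
    · have : y ∈ ({y : ZD.left | ¬ (π₁ (κ y) ∈ T' ↔ π₂ (κ y) ∈ T')}) := by
        show ¬ (π₁ (κ y) ∈ T' ↔ π₂ (κ y) ∈ T')
        rw [show κ y = z from hy]
        exact hne
      rw [hempty] at this
      exact this
    -- reduce to the fibre at the geometric point of the component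
    let w : FEt.fiberObj (q d) Z := ⟨s.1 ≫ κ ≫ pullback.fst Z.hom (p₁ ≫ g), by
      show (s.1 ≫ κ ≫ pullback.fst Z.hom (p₁ ≫ g)) ≫ Z.hom = q d
      refine (Category.assoc _ _ _).trans ((congrArg (s.1 ≫ ·) ((Category.assoc _ _ _).trans
        ((congrArg (κ ≫ ·) pullback.condition).trans ((Category.assoc _ _ _).symm.trans
          (congrArg (· ≫ p₁ ≫ g) pullback.condition))))).trans ?_)
      refine (congrArg (s.1 ≫ ·) (Category.assoc _ _ _)).trans ((Category.assoc _ _ _).symm.trans ?_)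
      refine (congrArg (· ≫ _) s.2).trans ?_
      simp only [q, δ, Category.assoc]⟩
    have hk : ∀ (p : W ⟶ S') (π : ZW.left ⟶ Z'.left) (hπ1 : π ≫ pr = pullback.fst Z.hom (p₁ ≫ g))
        (hπ2 : π ≫ Z'.hom = ZW.hom ≫ p) (hh : (δ d ≫ p) ≫ g = q d),
        π (κ (imgPt s)) = imgPt ((restrictFiberIso g (δ d ≫ p) (q d) hh).inv.app Z w) := by
      intro p π hπ1 hπ2 hh
      refine (Eq.trans ?_ (congrArg (fun k : Spec (CommRingCat.of (L d)) ⟶ Z'.left =>
        k (IsLocalRing.closedPoint (L d))) (show s.1 ≫ κ ≫ π =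
          pullback.lift w.1 (δ d ≫ p) (w.2.trans hh.symm) from ?_)))
      · show π (κ (s.1 _)) = (s.1 ≫ κ ≫ π) _
        rw [Scheme.Hom.comp_apply, Scheme.Hom.comp_apply]
      refine pullback.hom_ext ?_ ?_
      · refine (Category.assoc _ _ _).trans (Eq.trans ?_ (pullback.lift_fst _ _ _).symm)
        exact congrArg (s.1 ≫ ·) ((Category.assoc _ _ _).trans (congrArg (κ ≫ ·) hπ1))
      · refine (Category.assoc _ _ _).trans (Eq.trans ?_ (pullback.lift_snd _ _ _).symm)
        refine (congrArg (s.1 ≫ ·) ((Category.assoc _ _ _).trans ((congrArg (κ ≫ ·) hπ2).trans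
          ((Category.assoc _ _ _).symm.trans (congrArg (· ≫ p) pullback.condition))))).trans ?_
        refine (congrArg (s.1 ≫ ·) (Category.assoc _ _ _)).trans ((Category.assoc _ _ _).symm.trans ?_)
        refine (congrArg (· ≫ _) s.2).trans ?_
        exact (Category.assoc _ _ _).symm
    rw [hk p₁ π₁ ((pullback.lift_fst _ _ _).trans (Category.comp_id _)) (pullback.lift_snd _ _ _) rfl,
      hk p₂ π₂ ((pullback.lift_fst _ _ _).trans (Category.comp_id _)) (pullback.lift_snd _ _ _) (hq₂ d)]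
    refine (hlam₁ d w).trans (Iff.trans ?_ (hlam₂ d w).symm)
    refine Iff.trans (hstab d _).symm ?_
    show (lam₂ d).hom.app Z ((lam₁ d).inv.app Z ((lam₁ d).hom.app Z w)) ∈ B ↔ _
    rw [show (lam₁ d).inv.app Z ((lam₁ d).hom.app Z w) = w from
      congr($(Iso.hom_inv_id_app (lam₁ d) Z) w)]
  -- descent of the clopen
  have hwd : ∀ a b : Z'.left, pr a = pr b → (a ∈ T' ↔ b ∈ T') := by
    intro a b hab
    have hbase : g (Z'.hom a) = g (Z'.hom b) := by
      have h : ∀ c : Z'.left, g (Z'.hom c) = Z.hom (pr c) := fun c =>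
        (congrArg (fun k : Z'.left ⟶ X => k c) (pullback.condition (f := Z.hom) (g := g))).symm
      rw [h, h, hab]
    obtain ⟨w, hw1, hw2⟩ := Scheme.Pullback.exists_preimage_pullback (f := pr) (g := pr) a b hab
    let θ : pullback pr pr ⟶ ZW.left := pullback.lift (pullback.fst pr pr ≫ pr)
      (pullback.lift (pullback.fst pr pr ≫ Z'.hom) (pullback.snd pr pr ≫ Z'.hom) (by
        refine (Category.assoc _ _ _).trans (Eq.trans ?_ (Category.assoc _ _ _).symm)
        refine (congrArg (_ ≫ ·) pullback.condition.symm).trans ?_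
        refine (Category.assoc _ _ _).symm.trans ((congrArg (· ≫ Z.hom) pullback.condition).trans ?_)
        exact (Category.assoc _ _ _).trans (congrArg (_ ≫ ·) pullback.condition)))
      (by
        refine (Category.assoc _ _ _).trans (Eq.trans ?_ (Category.assoc _ _ _))
        rw [pullback.lift_fst]
        exact (congrArg (_ ≫ ·) pullback.condition).trans (Category.assoc _ _ _).symm)
    have h1 : π₁ (θ w) = a := by
      rw [← hw1, ← Scheme.Hom.comp_apply]
      refine congrArg (fun k : pullback pr pr ⟶ Z'.left => k w) (pullback.hom_ext ?_ ?_)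
      · refine (Category.assoc _ _ _).trans ((congrArg (θ ≫ ·) (pullback.lift_fst _ _ _)).trans ?_)
        rw [Category.comp_id]
        exact pullback.lift_fst _ _ _
      · refine (Category.assoc _ _ _).trans ((congrArg (θ ≫ ·) (pullback.lift_snd _ _ _)).trans ?_)
        refine (Category.assoc _ _ _).symm.trans ((congrArg (· ≫ p₁) (pullback.lift_snd _ _ _)).trans ?_)
        exact pullback.lift_fst _ _ _
    have h2 : π₂ (θ w) = b := by
      rw [← hw2, ← Scheme.Hom.comp_apply]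
      refine congrArg (fun k : pullback pr pr ⟶ Z'.left => k w) (pullback.hom_ext ?_ ?_)
      · refine (Category.assoc _ _ _).trans ((congrArg (θ ≫ ·) (pullback.lift_fst _ _ _)).trans ?_)
        rw [Category.comp_id]
        exact (pullback.lift_fst _ _ _).trans pullback.condition
      · refine (Category.assoc _ _ _).trans ((congrArg (θ ≫ ·) (pullback.lift_snd _ _ _)).trans ?_)
        refine (Category.assoc _ _ _).symm.trans ((congrArg (· ≫ p₂) (pullback.lift_snd _ _ _)).trans ?_)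
        exact pullback.lift_snd _ _ _
    rw [← h1, ← h2]
    exact hagree _
  have hsurj : Surjective pr := MorphismProperty.pullback_fst (P := @Surjective) _ _ ‹_›
  have hproper : IsProper pr := MorphismProperty.pullback_fst (P := @IsProper) _ _ ‹_›
  let T0 : Set Z.left := pr '' T'
  have hT0 : IsClopen T0 := by
    refine ⟨pr.isClosedMap _ hT'.1, ?_⟩
    have : T0ᶜ = pr '' T'ᶜ := by
      ext x
      refine ⟨fun hx => ?_, ?_⟩
      · obtain ⟨a, rfl⟩ := pr.surjective x
        exact ⟨a, fun ha => hx ⟨a, ha, rfl⟩, rfl⟩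
      · rintro ⟨a, ha, rfl⟩ ⟨b, hb, hba⟩
        exact ha ((hwd b a hba).mp hb)
    rw [← isClosed_compl_iff, this]
    exact pr.isClosedMap _ hT'.2.isClosed_compl
  obtain ⟨x₀⟩ : Nonempty S' := by
    obtain ⟨x⟩ : Nonempty X := inferInstance
    obtain ⟨y, -⟩ := g.surjective x
    exact ⟨y⟩
  obtain ⟨i, -⟩ := hCcov x₀
  have hB0 : ∀ x : FEt.fiberObj ξ Z, imgPt x ∈ T0 ↔ x ∈ B := by
    intro x
    let s := (e i).inv.app Z x
    have hx : (e i).hom.app Z s = x := congr($(Iso.inv_hom_id_app (e i) Z) x)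
    have h1 : fi i (imgPt s) ∈ T' ↔ x ∈ B := by
      have h := hmem i (η i) (Iso.refl _) s
      rw [show (Iso.refl (FEt.fiber (η i))).hom.app _ s = s from rfl, hx] at h
      exact h
    let y := (γ i).inv.app Z x
    have hy : pr (fi i (imgPt s)) = imgPt y := by
      show _ = y.1 _
      have : (s.1 ≫ fi i) ≫ pr = y.1 := by
        refine (congrArg (· ≫ pr) (pullback.lift_fst _ _ _)).trans ?_
        exact pullback.lift_fst _ _ _
      rw [← this]
      show _ = ((s.1 ≫ fi i) ≫ pr) _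
      rw [Scheme.Hom.comp_apply, Scheme.Hom.comp_apply]
      rfl
    have h2 : imgPt x ∈ T0 ↔ imgPt y ∈ T0 := (imgPt_mem_iff_of_iso (γ i).symm Z T0 hT0 x).symm
    rw [h2, ← hy, ← h1]
    exact ⟨fun ⟨b, hb, hbs⟩ => (hwd b _ hbs).mp hb, fun h => ⟨_, h, rfl⟩⟩
  intro σ x hx
  exact (hB0 _).mp (imgPt_mem_of_natTrans σ.hom Z T0 hT0 x ((hB0 x).mpr hx))

end Groth.Agent.FEt83
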