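import Groth.Agent.Unr55.EtAscent
import Mathlib.RingTheory.Unramified.LocalStructure
import Mathlib.RingTheory.Etale.Locus
import Mathlib.RingTheory.RingHom.Etale
import Mathlib.RingTheory.Flat.TorsionFree

/-!
# An unramified injective extension of a normal domain by a domain is étale
-/

universe u

namespace Groth.Agent.FEt83

variable {A B : Type u} [CommRing A] [IsDomain A] [IsIntegrallyClosed A] [CommRing B] [IsDomain B]
  [Algebra A B] [Algebra.FiniteType A B] [Algebra.FormallyUnramified A B] [FaithfulSMul A B]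

theorem exists_etale_away (q : Ideal B) [q.IsPrime] :
    ∃ g ∉ q, Algebra.Etale A (Localization.Away g) := by
  classical
  obtain ⟨f, hfq, P, φ, hφ⟩ := Algebra.IsUnramifiedAt.exists_hasStandardEtaleSurjectionOn (R := A) q
  let C := P.Ring
  let Bf := Localization.Away f
  have hf0 : f ≠ 0 := fun h => hfq (h ▸ q.zero_mem)
  have : IsDomain Bf := IsLocalization.isDomain_localization
    (powers_le_nonZeroDivisors_of_noZeroDivisors hf0)
  have hinj : Function.Injective (algebraMap A Bf) := by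
    rw [IsScalarTower.algebraMap_eq A B Bf]
    exact (IsLocalization.injective Bf (powers_le_nonZeroDivisors_of_noZeroDivisors hf0)).comp
      (FaithfulSMul.algebraMap_injective A B)
  let qf : Ideal Bf := q.map (algebraMap B Bf)
  have hd : Disjoint (Submonoid.powers f : Set B) q := Set.disjoint_left.mpr
    fun _ ⟨n, hn⟩ hx => hfq (‹q.IsPrime›.mem_of_pow_mem n ((show f ^ n = _ from hn) ▸ hx))
  have hqf : qf.IsPrime := IsLocalization.isPrime_of_isPrime_disjoint (.powers f) Bf q ‹_› hd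
  let r : Ideal C := qf.comap φ
  let I : Ideal C := RingHom.ker φ
  have hI : I.IsPrime := RingHom.ker_isPrime _
  have hIA : I.under A = ⊥ := eq_bot_iff.mpr fun a (ha : φ (algebraMap A C a) = 0) => hinj (by
    rw [map_zero, ← φ.commutes a, ha])
  obtain ⟨hdom, -⟩ := Unr55.isNormalDomain_localization_of_etale (A := A) r
  let K : Ideal C := RingHom.ker (algebraMap C (Localization.AtPrime r))
  have hK : K.IsPrime := RingHom.ker_isPrime _
  -- the only minimal prime inside `r`
  have hmin : ∀ Q : Ideal C, Q.IsPrime → Q ≤ r → K ≤ Q := fun Q hQ hQr c hc => by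
    obtain ⟨⟨s, hs⟩, hsc⟩ := (IsLocalization.map_eq_zero_iff r.primeCompl _ _).mp hc
    exact (hQ.mem_or_mem (show s * c ∈ Q by rw [show s * c = 0 from hsc]; exact Q.zero_mem)).resolve_left
      fun h => hs (hQr h)
  have hIr : I ≤ r := fun c (hc : φ c = 0) => show φ c ∈ qf by rw [hc]; exact qf.zero_mem
  have hKI : K = I := Algebra.QuasiFinite.eq_of_le_of_under_eq (R := A) K I (hmin I hI hIr)
    (le_antisymm (Ideal.comap_mono (hmin I hI hIr)) (hIA.le.trans bot_le))
  -- finitely many minimal primes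
  have hfin : (minimalPrimes C).Finite := by
    refine (Algebra.QuasiFinite.finite_primesOver (R := A) (⊥ : Ideal A)).subset fun Q hQ => ?_
    have : Q.IsPrime := hQ.1.1
    refine ⟨this, ⟨Eq.symm (eq_bot_iff.mpr fun a (ha : algebraMap A C a ∈ Q) => ?_)⟩⟩
    by_contra h0
    refine (Ideal.disjoint_nonZeroDivisors_of_mem_minimalPrimes hQ).le_bot ⟨ha, ?_⟩
    refine mem_nonZeroDivisors_iff_right.mpr fun c hc => ?_
    have h1 : a • c = 0 := by rwa [Algebra.smul_def, mul_comm]
    exact (Module.Flat.isSMulRegular_of_isRegular (IsRegular.of_ne_zero h0)) (h1.trans (smul_zero a).symm)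
  have hne : ∀ Q ∈ minimalPrimes C, Q ≠ I → ¬ Q ≤ r := fun Q hQ hne hQr =>
    hne (le_antisymm (hQ.2 ⟨hI, bot_le⟩ (hKI ▸ hmin Q hQ.1.1 hQr)) (hKI ▸ hmin Q hQ.1.1 hQr))
  choose! x hxQ hxr using fun Q (hQ : Q ∈ minimalPrimes C \ {I}) =>
    Set.not_subset.mp (hne Q hQ.1 hQ.2)
  have hfin' : (minimalPrimes C \ {I}).Finite := hfin.subset Set.sdiff_subset
  let h₀ : C := ∏ Q ∈ hfin'.toFinset, x Q
  have hh₀r : h₀ ∉ r := fun h => by
    obtain ⟨Q, hQ, hx⟩ := (qf.comap_isPrime φ).prod_mem_iff.mp h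
    exact hxr Q (hfin'.mem_toFinset.mp hQ) hx
  have hred : IsReduced C := Unr55.isReduced_of_etale (A := A)
  have hI0 : ∀ c ∈ I, h₀ * c = 0 := fun c hc => by
    refine (mem_nilradical.mp ?_).eq_zero
    rw [nilradical, ← Ideal.sInf_minimalPrimes]
    refine Submodule.mem_sInf.mpr fun Q hQ => ?_
    by_cases hQI : Q = I
    · exact hQI ▸ I.mul_mem_left _ hc
    · exact Ideal.mul_mem_right c Q (Ideal.prod_mem Q (hfin'.mem_toFinset.mpr ⟨hQ, hQI⟩) (hxQ Q ⟨hQ, hQI⟩))
  -- adjust so that the image of `h` comes from `B`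
  obtain ⟨⟨b, ⟨_, n, rfl⟩⟩, hb⟩ := IsLocalization.surj (Submonoid.powers f) (φ h₀)
  obtain ⟨c, hc⟩ := hφ (algebraMap B Bf (f ^ n))
  let h := h₀ * c
  have hφh : φ h = algebraMap B Bf b := by rw [map_mul, hc]; exact hb
  have hhr : h ∉ r := fun hh => by
    refine (hqf.mem_or_mem (show φ h₀ * φ c ∈ qf by rw [← map_mul]; exact hh)).elim hh₀r fun h' => ?_
    rw [hc] at h'
    exact hqf.ne_top (Ideal.eq_top_of_isUnit_mem _ h'
      (IsLocalization.map_units Bf (⟨f ^ n, n, rfl⟩ : Submonoid.powers f)))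
  refine ⟨f * b, fun hm => (‹q.IsPrime›.mem_or_mem hm).elim hfq fun hbq => hhr ?_, ?_⟩
  · show φ h ∈ qf
    rw [hφh]
    exact Ideal.mem_map_of_mem _ hbq
  let ψ := IsLocalization.Away.mapₐ (Localization.Away h) (Localization.Away (φ h)) φ h
  have hψ : Function.Bijective ψ := by
    refine ⟨(injective_iff_map_eq_zero ψ).mpr fun z hz => ?_,
      IsLocalization.Away.mapₐ_surjective_of_surjective h hφ⟩
    obtain ⟨c', ⟨_, k, rfl⟩, rfl⟩ := IsLocalization.exists_mk'_eq (Submonoid.powers h) z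
    rw [IsLocalization.mk'_eq_zero_iff]
    change IsLocalization.map (T := Submonoid.powers (φ h)) (Localization.Away (φ h)) (φ : C →+* Bf) (show Submonoid.powers h ≤ (Submonoid.powers (φ h)).comap _ from by rintro _ ⟨i, rfl⟩; exact ⟨i, (map_pow φ h i).symm⟩) (IsLocalization.mk' _ c' _) = 0 at hz
    rw [IsLocalization.map_mk', IsLocalization.mk'_eq_zero_iff] at hz
    obtain ⟨⟨_, j, rfl⟩, hj⟩ := hz
    have h2 : h ^ j * c' ∈ I := by show φ _ = 0; rw [map_mul, map_pow]; exact hj
    exact ⟨⟨h ^ (j + 1), j + 1, rfl⟩, by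
      show h ^ (j + 1) * c' = 0
      rw [show h ^ (j + 1) * c' = c * (h₀ * (h ^ j * c')) from by rw [pow_succ, show h = h₀ * c from rfl]; ring, hI0 _ h2, mul_zero]⟩
  have : Algebra.Etale C (Localization.Away h) := Algebra.Etale.of_isLocalizationAway h
  have : Algebra.Etale A (Localization.Away h) := Algebra.Etale.comp A C (Localization.Away h)
  have : Algebra.Etale A (Localization.Away (φ h)) := .of_equiv (AlgEquiv.ofBijective ψ hψ)
  have : IsLocalization.Away (f * b) (Localization.Away (φ h)) := hφh ▸ .mul' Bf _ _ _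
  exact .of_equiv ((IsLocalization.algEquiv (.powers (f * b)) (Localization.Away (φ h))
    (Localization.Away (f * b))).restrictScalars A)

theorem etale_of_unramified : Algebra.Etale A B := by
  rw [← RingHom.etale_algebraMap]
  choose g hg het using fun q : PrimeSpectrum B => exists_etale_away (A := A) q.asIdeal
  refine RingHom.Etale.ofLocalizationSpanTarget _ (Set.range g) ?_ ?_
  · rw [← PrimeSpectrum.iSup_basicOpen_eq_top_iff']
    exact eq_top_iff.mpr fun q _ => TopologicalSpace.Opens.mem_iSup.mpr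
      ⟨g q, TopologicalSpace.Opens.mem_iSup.mpr ⟨⟨q, rfl⟩, hg q⟩⟩
  · rintro ⟨_, q, rfl⟩
    rw [← IsScalarTower.algebraMap_eq]
    exact RingHom.etale_algebraMap.mpr (het q)

end Groth.Agent.FEt83
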