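import Groth.Agent.FEt83.PunctConn
import Groth.Agent.S17758
import Groth.Agent.S0532
import Groth.Agent.CAlg5.FiniteComplete
import Groth.Agent.CAlg1.Regular
import Groth.Agent.Unr55.SmoothStalk
import Groth.Agent.Pure83.Compl
import Mathlib.RingTheory.AdicCompletion.LocalRing
import Mathlib.RingTheory.RingHom.FaithfullyFlat

/-!
# Connected punctured spectra in virtual dimension two

A finite étale algebra over a quotient `S/I` of a complete regular local ring lifts to `S`, so its
local rings are quotients of complete regular local domains by few equations; the punctured spectra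
descend along completion.
-/

universe u

open scoped TensorProduct
open PrimeSpectrum

namespace Groth.Agent.FEt83

/-- Connectedness descends along faithfully flat maps with the same maximal ideal. -/
theorem isConnected_puncBelow_of_flat {B B' : Type u} [CommRing B] [CommRing B'] (j : B →+* B')
    (hj : j.FaithfullyFlat)
    (hmax : ∀ P : PrimeSpectrum B', (P.comap j).asIdeal.IsMaximal → P.asIdeal.IsMaximal)
    (M : PrimeSpectrum B) (hM : M.asIdeal.IsMaximal)
    (h : ∀ M' : PrimeSpectrum B', M'.asIdeal.IsMaximal → _root_.IsConnected (puncBelow M')) :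
    _root_.IsConnected (puncBelow M) := by
  have hfl := (RingHom.FaithfullyFlat.iff_flat_and_comap_surjective.mp hj)
  obtain ⟨P, hP⟩ := hfl.2 M
  have hPm : P.asIdeal.IsMaximal := hmax P (hP ▸ hM)
  have himg : PrimeSpectrum.comap j '' puncBelow P = puncBelow M := by
    ext p
    constructor
    · rintro ⟨Q, hQ, rfl⟩
      refine ⟨(Ideal.comap_mono hQ.1).trans (congrArg PrimeSpectrum.asIdeal hP).le, fun e => ?_⟩
      exact not_isMax_of_mem_puncBelow hQ (hmax Q (e ▸ hM))
    · intro hp
      have hs : p ⤳ P.comap j := hP.symm ▸ (PrimeSpectrum.le_iff_specializes p M).mp hp.1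
      obtain ⟨Q, hQP, hQ⟩ := RingHom.Flat.generalizingMap_comap hfl.1 hs
      refine ⟨Q, ⟨(PrimeSpectrum.le_iff_specializes Q P).mpr hQP, fun e => hp.2 ?_⟩, hQ⟩
      rw [← hQ, e, hP]
  rw [← himg]
  exact (h P hPm).image _ (PrimeSpectrum.continuous_comap j).continuousOn

/-- A quotient of a complete regular local ring by few elements, and its finite étale algebras. -/
theorem connectedPunctures_of_vdim {A : Type u} [CommRing A] [IsNoetherianRing A] [IsLocalRing A]
    (S : Type u) [CommRing S] [IsRegularLocalRing S] [IsAdicComplete (IsLocalRing.maximalIdeal S) S]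
    (d : ℕ) (hd : ringKrullDim S = d) (s : Finset S) (hs : s.card + 2 ≤ d)
    (e : A ≃+* S ⧸ Ideal.span (s : Set S)) :
    ConnectedPunctures A := by
  intro B _ _ _ _ M hM
  classical
  set I := Ideal.span (s : Set S) with hI
  have : Nontrivial (S ⧸ I) := e.injective.nontrivial
  have hIm : I ≤ IsLocalRing.maximalIdeal S :=
    IsLocalRing.le_maximalIdeal fun h => by
      exact not_subsingleton (S ⧸ I) (Ideal.Quotient.subsingleton_iff.mpr h)
  have := CAlg1.isAdicComplete_of_le (M := S) hIm (IsNoetherian.noetherian _)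
  let _ : Algebra (S ⧸ I) B := ((algebraMap A B).comp e.symm.toRingHom).toAlgebra
  have : Module.Finite (S ⧸ I) B := RingHom.finite_algebraMap.mp
    ((RingHom.finite_algebraMap.mpr ‹Module.Finite A B›).comp e.symm.finite)
  have : Algebra.Etale (S ⧸ I) B := RingHom.etale_algebraMap.mp
    (RingHom.Etale.stableUnderComposition _ _ (RingHom.Etale.of_bijective e.symm.bijective)
      (RingHom.etale_algebraMap.mpr ‹Algebra.Etale A B›))
  obtain ⟨C, _, _, _, _, ⟨φ⟩⟩ := S0532.result S I B
  let π : C →+* B := φ.toRingEquiv.toRingHom.comp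
    (Algebra.TensorProduct.includeRight : C →ₐ[S] (S ⧸ I) ⊗[S] C).toRingHom
  have hπ : Function.Surjective π := by
    refine φ.surjective.comp fun x => ?_
    obtain ⟨c, hc⟩ := Submodule.Quotient.mk_surjective _ (TensorProduct.quotTensorEquivQuotSMul C I x)
    exact ⟨c, (TensorProduct.quotTensorEquivQuotSMul C I).injective
      ((TensorProduct.quotTensorEquivQuotSMul_mk_one_tmul I c).trans hc)⟩
  have hker : RingHom.ker π = I.map (algebraMap S C) := by
    ext c
    rw [RingHom.mem_ker]
    refine (map_eq_zero_iff φ φ.injective).trans ?_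
    rw [← (TensorProduct.quotTensorEquivQuotSMul C I).map_eq_zero_iff]
    rw [show (Algebra.TensorProduct.includeRight : C →ₐ[S] (S ⧸ I) ⊗[S] C).toRingHom c = 1 ⊗ₜ c from rfl,
      TensorProduct.quotTensorEquivQuotSMul_mk_one_tmul, Submodule.Quotient.mk_eq_zero,
      Ideal.smul_top_eq_map]
    rfl
  let M₀ : MaximalSpectrum C := ⟨M.asIdeal.comap π, Ideal.comap_isMaximal_of_surjective π hπ⟩
  let L := Localization.AtPrime M₀.asIdeal
  have : M₀.asIdeal.IsMaximal := M₀.isMaximal
  have hcomap : M₀.asIdeal.comap (algebraMap S C) = IsLocalRing.maximalIdeal S := by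
    have : Algebra.IsIntegral S C := Algebra.IsIntegral.of_finite S C
    exact IsLocalRing.eq_maximalIdeal (Ideal.isMaximal_comap_of_isIntegral_of_isMaximal _)
  have hLreg : IsRegularLocalRing L := Unr55.isRegularLocalRing_of_etale M₀.asIdeal hcomap
  have hLdom : IsDomain L := CAlg1.isDomain_regular L
  obtain ⟨hLn, hLc⟩ := CAlg5.isAdicComplete_localization S C M₀
  have hLd : ringKrullDim L = d := by
    rw [← hd]
    have : IsLocalHom (algebraMap S L) := ⟨fun c hc => by
      rw [IsScalarTower.algebraMap_apply S C L,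
        IsLocalization.AtPrime.isUnit_to_map_iff L M₀.asIdeal] at hc
      by_contra h
      exact hc (hcomap.ge h)⟩
    have : Algebra.EssFiniteType S L := .comp S C L
    have : Algebra.IsUnramifiedAt S M₀.asIdeal := inferInstance
    have hmap := Algebra.FormallyUnramified.map_maximalIdeal (R := S) (S := L)
    rw [Unr55.ringKrullDim_eq_add_of_flat S L]
    rw [ringKrullDim_eq_of_ringEquiv (Ideal.quotEquivOfEq hmap)]
    let _ : Field (L ⧸ IsLocalRing.maximalIdeal L) := Ideal.Quotient.field _
    rw [ringKrullDim_eq_zero_of_field, add_zero]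
  -- connectedness in the complete domain
  let σ : C →+* L := algebraMap C L
  let f : Fin s.card → L := fun i => σ (algebraMap S C (s.equivFin.symm i).1)
  have hspan : Ideal.span (Set.range f) = (I.map (algebraMap S C)).map σ := by
    rw [Ideal.map_map, hI, Ideal.map_span]
    refine congrArg Ideal.span (Set.ext fun x => ⟨?_, ?_⟩)
    · rintro ⟨i, rfl⟩
      exact ⟨_, (s.equivFin.symm i).2, rfl⟩
    · rintro ⟨y, hy, rfl⟩
      exact ⟨s.equivFin ⟨y, hy⟩, by simp [f]⟩
  have hle : I.map (algebraMap S C) ≤ M₀.asIdeal := Ideal.map_le_iff_le_comap.mpr (hcomap.symm ▸ hIm)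
  have hne : Ideal.span (Set.range f) ≠ ⊤ := by
    rw [hspan]
    exact ne_top_of_le_ne_top (IsLocalRing.maximalIdeal.isMaximal L).ne_top
      ((Ideal.map_mono hle).trans (Localization.AtPrime.map_eq_maximalIdeal (I := M₀.asIdeal)).le)
  have hconn := S17758.result L d hLd s.card hs f _ hne rfl
  -- transport to `B`
  have hiff : ∀ x : PrimeSpectrum L,
      Ideal.span (Set.range f) ≤ x.asIdeal ↔ RingHom.ker π ≤ x.asIdeal.comap σ := fun x => by
    rw [hspan, hker, Ideal.map_le_iff_le_comap]
  have hσmax : (IsLocalRing.maximalIdeal L).comap σ = M₀.asIdeal :=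
    IsLocalization.AtPrime.under_maximalIdeal L M₀.asIdeal
  have himg : PrimeSpectrum.comap π '' puncBelow M = PrimeSpectrum.comap σ ''
      {x : PrimeSpectrum L | Ideal.span (Set.range f) ≤ x.asIdeal ∧ x.asIdeal ≠ IsLocalRing.maximalIdeal L} := by
    ext p
    constructor
    · rintro ⟨Q, hQ, rfl⟩
      have hQM : (Q.comap π).asIdeal ≤ M₀.asIdeal := Ideal.comap_mono hQ.1
      obtain ⟨x, hx⟩ : Q.comap π ∈ Set.range (PrimeSpectrum.comap σ) := by
        rw [PrimeSpectrum.localization_comap_range L M₀.asIdeal.primeCompl]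
        exact Set.disjoint_left.mpr fun y hy hyQ => hy (hQM hyQ)
      refine ⟨x, ⟨(hiff x).mpr ?_, fun h => hQ.2 ?_⟩, hx⟩
      · rw [← PrimeSpectrum.comap_asIdeal, hx]
        exact fun y hy => show π y ∈ Q.asIdeal by rw [RingHom.mem_ker.mp hy]; exact zero_mem _
      · refine PrimeSpectrum.comap_injective_of_surjective π hπ (PrimeSpectrum.ext ?_)
        rw [← hx, PrimeSpectrum.comap_asIdeal, h, hσmax]
        rfl
    · rintro ⟨x, ⟨hx₁, hx₂⟩, rfl⟩
      have hk : RingHom.ker π ≤ (x.comap σ).asIdeal := (hiff x).mp hx₁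
      obtain ⟨Q, hQ⟩ : x.comap σ ∈ Set.range (PrimeSpectrum.comap π) := by
        rw [range_comap_of_surjective _ π hπ]
        exact hk
      have hxM : (x.comap σ).asIdeal ≤ M₀.asIdeal :=
        (Ideal.comap_mono (IsLocalRing.le_maximalIdeal x.2.ne_top)).trans hσmax.le
      refine ⟨Q, ⟨?_, fun h => hx₂ ?_⟩, hQ⟩
      · have h : Q.asIdeal.comap π ≤ M.asIdeal.comap π := (congrArg PrimeSpectrum.asIdeal hQ).le.trans hxM
        exact (Ideal.comap_le_comap_iff_of_surjective π hπ _ _).mp h
      · have h' : x.comap σ = (IsLocalRing.closedPoint L).comap σ := by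
          rw [← hQ, h]
          exact PrimeSpectrum.ext hσmax.symm
        exact congrArg PrimeSpectrum.asIdeal
          ((PrimeSpectrum.localization_comap_isEmbedding L M₀.asIdeal.primeCompl).injective h')
  have hi := (PrimeSpectrum.isClosedEmbedding_comap_of_surjective B π hπ).isInducing
  have hc2 := hconn.image (PrimeSpectrum.comap σ) (PrimeSpectrum.continuous_comap σ).continuousOn
  rw [← himg] at hc2
  exact ⟨hc2.nonempty.of_image, hi.isPreconnected_image.mp hc2.isPreconnected⟩

/-- Connectedness of punctured spectra descends from the completion. -/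
theorem connectedPunctures_of_completion {A : Type u} [CommRing A] [IsNoetherianRing A] [IsLocalRing A]
    (h : ConnectedPunctures (AdicCompletion (IsLocalRing.maximalIdeal A) A)) : ConnectedPunctures A := by
  intro B _ _ _ _ M hM
  let Ah := AdicCompletion (IsLocalRing.maximalIdeal A) A
  let B' := Ah ⊗[A] B
  let j : B →+* B' := (Algebra.TensorProduct.includeRight : B →ₐ[A] B').toRingHom
  have hff : Module.FaithfullyFlat A Ah := Pure83.faithfullyFlat_completion
  have hj : j.FaithfullyFlat := by
    have h1 : (algebraMap B (B ⊗[A] Ah)).FaithfullyFlat :=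
      RingHom.faithfullyFlat_algebraMap_iff.mpr inferInstance
    have h2 : (Algebra.TensorProduct.comm A B Ah).toRingEquiv.toRingHom.FaithfullyFlat :=
      RingHom.FaithfullyFlat.of_bijective (Algebra.TensorProduct.comm A B Ah).toRingEquiv.bijective
    have := RingHom.FaithfullyFlat.stableUnderComposition _ _ h1 h2
    convert this using 1
    ext b
    simp [j]
  refine isConnected_puncBelow_of_flat j hj (fun P hP => ?_) M hM fun M' hM' => h B' M' hM'
  rw [isMaximal_iff_comap (A := Ah)]
  have h0 := (isMaximal_iff_comap (A := A) (P.comap j)).mp hP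
  refine PrimeSpectrum.ext (le_antisymm (IsLocalRing.le_maximalIdeal (Ideal.IsPrime.ne_top inferInstance)) ?_)
  rw [show (IsLocalRing.closedPoint Ah).asIdeal = IsLocalRing.maximalIdeal Ah from rfl,
    AdicCompletion.maximalIdeal_eq_map, Ideal.map_le_iff_le_comap]
  intro a ha
  have h1 : a ∈ ((P.comap j).comap (algebraMap A B)).asIdeal := h0.symm ▸ ha
  have h2 : j (algebraMap A B a) = algebraMap Ah B' (algebraMap A Ah a) := by
    rw [← IsScalarTower.algebraMap_apply A Ah B']
    exact (Algebra.TensorProduct.includeRight : B →ₐ[A] B').commutes a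
  show algebraMap Ah B' (algebraMap A Ah a) ∈ P.asIdeal
  rw [← h2]
  exact h1

end Groth.Agent.FEt83
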